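import Groth.Prelude.Def_AgPol
import Groth.Agent.AbSch.K448.PointedHom
import Groth.Agent.AbSch.K449.Push
import Groth.Agent.Sga7.H751.PowEtale
import Groth.Agent.Desc.LQF
import Groth.Agent.Flat2B.SmoothGeom
import Mathlib.AlgebraicGeometry.ZariskisMainTheorem

/-!
# Instances for abelian schemes presented by `AgPol.IsAbSch`, and multiplication by an invertible integer
-/

set_option autoImplicit false
universe u

open CategoryTheory CategoryTheory.Limits MonoidalCategory CartesianMonoidalCategory MonObj AlgebraicGeometry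

namespace K814.AbBasic

variable {S : Scheme.{u}} (A : Over S) [GrpObj A] [Smooth A.hom] [IsProper A.hom] [GeometricallyConnected A.hom]

theorem isCommMonObj : IsCommMonObj A := by
  have := Groth.Agent.Flat2B.SmoothGeom.geometricallyReduced_of_smooth A.hom
  exact K448.PointedHom.isCommMonObj A

omit [IsProper A.hom] in
theorem geometricallyIntegral : GeometricallyIntegral A.hom := by
  have := Groth.Agent.Flat2B.SmoothGeom.geometricallyReduced_of_smooth A.hom
  exact K449.Basic.geometricallyIntegral A

/-- `O_S = p_* O_A`. -/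
theorem isIso_app (V : S.Opens) : IsIso (A.hom.app V) := by
  have := Groth.Agent.Flat2B.SmoothGeom.geometricallyReduced_of_smooth A.hom
  exact K449.Push.isIso_app A V

theorem residue_ne_zero {n : ℕ} (hn : IsUnit (n : Γ(S, ⊤))) (s : S) : (n : S.residueField s) ≠ 0 := by
  have h1 : IsUnit ((S.evaluation ⊤ s trivial).hom (n : Γ(S, ⊤))) := hn.map _
  rw [map_natCast] at h1
  exact h1.ne_zero

theorem etale_pow {n : ℕ} (hn : IsUnit (n : Γ(S, ⊤))) : Etale (𝟙 A ^ n : A ⟶ A).left := by
  have := isCommMonObj A
  exact Groth.Agent.Sga7.H751.PowEtale.etale_pow A n (residue_ne_zero hn)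

omit [GrpObj A] [Smooth A.hom] [GeometricallyConnected A.hom] in
theorem isProper_left {B : Over S} [IsSeparated B.hom] (f : A ⟶ B) : IsProper f.left := by
  have h : IsProper (f.left ≫ B.hom) := by
    rw [Over.w]
    infer_instance
  exact IsProper.of_comp _ B.hom

theorem isFinite_pow {n : ℕ} (hn : IsUnit (n : Γ(S, ⊤))) : IsFinite (𝟙 A ^ n : A ⟶ A).left := by
  have := etale_pow A hn
  have := isProper_left A (𝟙 A ^ n : A ⟶ A)
  have := Groth.Agent.Desc.LQF.of_etale (𝟙 A ^ n : A ⟶ A).left
  exact .of_isProper_of_locallyQuasiFinite _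

end K814.AbBasic
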