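import Groth.Agent.AgPol.K814.Unnorm
import Groth.Agent.AgPol.K814.AbBasic
import Groth.Agent.Ega2.RelAmpRows
import Groth.Agent.Krr.H478.EpiIso
import Groth.Agent.Sga5.AmpleFib
import Groth.Agent.Dcoh.FinLocFree

/-!
# The rank of the direct image of a relatively ample module on an abelian scheme

* `FA_of_isRelAmple` : relatively ample modules are fibrewise ample;
* `fiberRank_eq_zero` : vanishing of the higher cohomology of fibrewise ample classes;
* `exists_rank` : the direct image is locally free of rank `h⁰` of the fibre;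
* `fiberRank_eq` : if the direct image is locally free of rank `r` then `h⁰ = r` on all fibres.
-/

set_option autoImplicit false
universe u

open CategoryTheory CategoryTheory.Limits MonoidalCategory CartesianMonoidalCategory AlgebraicGeometry
open scoped MonObj
open Groth.Agent Groth.Agent.Grpsch.PicGrp K814.GamBase K814.GamFib K814.GamField

namespace K814.RankPush

theorem rank_unique {X : Scheme.{u}} (x : X) {n m : ℕ} {E : X.Modules}
    (h : FlatMod.IsFinLocFreeOfRank n E) (h' : FlatMod.IsFinLocFreeOfRank m E) : n = m := by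
  obtain ⟨b⟩ := Groth.Agent.Krr.H478.EpiIso.exists_basis h x
  obtain ⟨c⟩ := Groth.Agent.Krr.H478.EpiIso.exists_basis h' x
  have := (b.indexEquiv c)
  exact Fin.equiv_iff_eq.mp ⟨this⟩

theorem FA_of_isRelAmple {X S : Scheme.{u}} (f : X ⟶ S) [QuasiCompact f] {L : X.Modules} (hL : PicF.IsInvertible L)
    (h : RelAmple.IsRelAmple f L) : FA f (mk L hL) := by
  intro Ω _ _ τ X' a p H
  have h1 := Groth.Agent.Ega2.RelAmp.relAmple_baseChange f τ L h
  rw [Groth.Agent.Ega2.RelAmp.isRelAmple_iff_isAmple] at h1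
  have h2 := Groth.Agent.Sga5.AmpleFib.isAmple_pullback H.isoPullback.hom h1
  refine ⟨_, h2, ?_⟩
  have h3 : pull a (mk L hL) = pull H.isoPullback.hom (pull (pullback.fst f τ) (mk L hL)) := by
    rw [← pull_comp, H.isoPullback_hom_fst]
  rw [h3]
  rfl

variable {S : Scheme.{u}} {A : Over S} [GrpObj A] [IsProper A.hom] [Smooth A.hom] [GeometricallyIntegral A.hom]
  {L : A.left.Modules} (hL : PicF.IsInvertible L) (hFA : FA A.hom (mk L hL))

include hFA

omit [Smooth A.hom] in
theorem fiberRank_eq_zero (s : S) (n : ℕ) (hn : 0 < n) : CohIII.fiberRank A.hom L n s = 0 := by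
  obtain ⟨Ω, _, _, τ, rfl⟩ := exists_geom s
  let B := Red.bc τ A
  have i1 : IsProper B.hom := inferInstanceAs (IsProper (pullback.snd A.hom τ))
  have i2 : GeometricallyIntegral B.hom := inferInstanceAs (GeometricallyIntegral (pullback.snd A.hom τ))
  have H := IsPullback.of_hasPullback A.hom τ
  rw [K814.GamFib.fiberRank_eq A.hom hL τ _ _ H]
  obtain ⟨M, hM, e⟩ := hFA Ω τ _ _ _ H
  rw [← e]
  exact hr_of_van (X := B) ((K524.Kun.van_mk hM.1 n).mpr (K511.AmpleVan.vanish B M hM n hn))

theorem exists_rank [IsLocallyNoetherian S] (s : S) : ∃ U : S.Opens, s ∈ U ∧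
    Nonempty (((Coh.push A.hom).obj L).restrict U.ι ≅ FlatMod.freeMod (↑U) (CohIII.fiberRank A.hom L 0 s)) := by
  have hA : IsLocallyNoetherian A.left := LocallyOfFiniteType.isLocallyNoetherian A.hom
  have hinj := Groth.Agent.Dcoh.DerSch.hasInjectiveResolutions A.left
  have hcoh := K529.TopMain.isCoh_of_isInvertible hL
  have hfl := Groth.Agent.Grpsch.CubeClosed.isFlatOver_of_isInvertible A.hom hL
  obtain ⟨-, h3⟩ := Groth.Agent.S2389.result A.hom L hcoh hfl 0 fun y i hi => by
    rw [subsingleton_fiberH_iff _ hL]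
    exact fiberRank_eq_zero hL hFA y i (Nat.pos_of_ne_zero hi)
  obtain ⟨U, hU, ⟨e⟩⟩ := h3 s
  have hadd : (Coh.push A.hom).Additive := inferInstanceAs (Scheme.Modules.pushforward A.hom).Additive
  let e0 : (Coh.Rpush A.hom 0).obj L ≅ (Coh.push A.hom).obj L :=
    ((Scheme.Modules.pushforward A.hom).rightDerivedZeroIsoSelf).app L
  exact ⟨U, hU, ⟨(Scheme.Modules.restrictFunctor U.ι).mapIso e0.symm ≪≫ e⟩⟩

theorem fiberRank_eq [IsLocallyNoetherian S] {r : ℕ} (hr : FlatMod.IsFinLocFreeOfRank r ((Coh.push A.hom).obj L))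
    (s : S) : CohIII.fiberRank A.hom L 0 s = r := by
  obtain ⟨U, hU, ⟨e⟩⟩ := exists_rank hL hFA s
  have h1 := K504.Hodge.isFinLocFreeOfRank_pullback U.ι hr
  have h2 : FlatMod.IsFinLocFreeOfRank (CohIII.fiberRank A.hom L 0 s)
      ((Scheme.Modules.pullback U.ι).obj ((Coh.push A.hom).obj L)) := by
    intro x
    refine ⟨⊤, trivial, ⟨(Scheme.Modules.restrictFunctor (⊤ : (U : Scheme.{u}).Opens).ι).mapIso
      ((Scheme.Modules.restrictFunctorIsoPullback U.ι).symm.app _ ≪≫ e) ≪≫
      (Groth.Agent.Dcoh.FinLocFree.restrictFree _ _).symm⟩⟩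
  exact rank_unique (X := U) ⟨s, hU⟩ h2 h1

end K814.RankPush
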