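import Groth.Agent.AgPol.K521.NodeDual
import Groth.Agent.AgPol.K814.RankPush

/-!
# Existence of the dual abelian scheme

* `G_of_FA` : the correspondences `Γ_d` of `K521.DualMum.G`, for fibrewise ample rigidified classes over a locally
  Noetherian base;
* `exists_dual` : the dual of an abelian scheme with a relatively ample module over a locally Noetherian base;
* `node` : `K117.Ag.Node.Dual`.
-/

set_option autoImplicit false
universe u

open CategoryTheory CategoryTheory.Limits MonoidalCategory CartesianMonoidalCategory AlgebraicGeometry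
open scoped MonObj
open Groth.Agent Groth.Agent.Grpsch.PicGrp
open K732.BC K732.Prim K732.Dual K732.CubeSec K732.PicZero Groth.Agent.Fga.RigGrp K528.MumZero
open K814.GamCP K814.GamBase K814.GamN K814.GamG K814.MumHom

namespace K814.DualNode

variable {S : Scheme.{u}} [IsLocallyNoetherian S] {A : Over S} [GrpObj A]

/-- The correspondences. -/
theorem G_of_FA [IsProper A.hom] [Smooth A.hom] [GeometricallyIntegral A.hom] {L : A.left.Modules}
    (hL : PicF.IsInvertible L) (hη : pull (η[A] : 𝟙_ (Over S) ⟶ A).left (mk L hL) = 1)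
    (hFA : FA A.hom (mk L hL)) : K521.DualMum.G A (mk L hL) := by
  intro T d hd hd'
  obtain ⟨Γ, i, hi, hi', hΓ⟩ := exists_gam hη hd'
  obtain ⟨g1, g2, g3, -⟩ := K814.GamG.main hL hη hFA i hd hd' hΓ
  have m1 : Mono i := by
    have : Mono i.left := inferInstance
    exact Over.mono_of_mono_left i
  refine ⟨Γ, i ≫ snd A T, i ≫ fst A T, g1, g2, K814.GamG.locallyOfFinitePresentation (i := i), ⟨g3⟩, ?_, ?_⟩
  · have h := (hΓ (i ≫ fst A T) (i ≫ snd A T)).1 ⟨𝟙 Γ, by
      rw [Category.id_comp]
      ext1 <;> simp⟩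
    rw [mumCl_eq]
    exact h
  · intro W b t h
    rw [mumCl_eq] at h
    obtain ⟨w, hw⟩ := (hΓ b t).2 h
    refine ⟨w, ⟨by rw [← Category.assoc, hw, lift_snd], by rw [← Category.assoc, hw, lift_fst]⟩, ?_⟩
    rintro w' ⟨h1, h2⟩
    rw [← cancel_mono i, hw]
    ext1
    · rw [Category.assoc, h2, lift_fst]
    · rw [Category.assoc, h1, lift_snd]

/-- **Existence of the dual abelian scheme.** -/
theorem exists_dual [IsCommMonObj A] {g : ℕ} (hA : AgPol.IsAbSch A g) {L : A.left.Modules}
    (hL : PicF.IsInvertible L) (hrel : RelAmple.IsRelAmple A.hom L) :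
    ∃ (At : Over S) (_ : GrpObj At) (_ : IsCommMonObj At)
      (φ : ∀ T : Over S, PicF.Cl (PicF.XT A.hom T) → (T ⟶ At)) (ξ : Pic (PicF.XT A.hom At)),
      AgPol.IsAbSch At g ∧ AbDual.IsDualAV Scheme.fppfPrecoverage A At φ ∧ ξ ∈ pz A.hom At ∧
      ξ ∈ rg A At ∧ cm φ ξ = 𝟙 At ∧ IsMonHom (K814.MumHom.hom φ (mk L hL)) ∧
      (IsFinite (K814.MumHom.hom φ (mk L hL)).left ∧ Flat (K814.MumHom.hom φ (mk L hL)).left ∧
      LocallyOfFinitePresentation (K814.MumHom.hom φ (mk L hL)).left ∧
      Surjective (K814.MumHom.hom φ (mk L hL)).left) := by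
  have i1 := hA.smooth
  have i2 := hA.proper
  have i3 : GeometricallyIntegral A.hom := K451.Prod.geometricallyIntegral_of_isAbSch hA
  exact K521.Dual.exists_dual' hA hL hrel fun L' hL' h h' =>
    G_of_FA hL' h' (K814.RankPush.FA_of_isRelAmple A.hom hL' h)

/-- **DUAL**. -/
theorem node : K117.Ag.Node.Dual.{u} :=
  K521.NodeDual.main fun _ _ _ _ _ _ hA L hL h h' => by
    have i1 := hA.smooth
    have i2 := hA.proper
    have i3 := K451.Prod.geometricallyIntegral_of_isAbSch hA
    exact G_of_FA hL h' (K814.RankPush.FA_of_isRelAmple _ hL h)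

end K814.DualNode
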