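import Groth.Prelude.Def_AgPol
import Groth.Agent.S3022
import Groth.Agent.S2768
import Groth.Agent.Sga4h.H926.SpAlg
import Groth.Agent.Sga4h.BidRed538Geo

/-!
# Smooth group schemes of constant fibre dimension are smooth of that relative dimension
-/

set_option autoImplicit false
universe u

open CategoryTheory CategoryTheory.Limits MonoidalCategory CartesianMonoidalCategory AlgebraicGeometry
open scoped MonObj

namespace K814.RelDim

/-- A smooth `S`-group scheme all of whose fibres have dimension `n` is smooth of relative dimension `n`. -/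
theorem smoothOfRelDim {S : Scheme.{u}} (G : Over S) [GrpObj G] [Smooth G.hom] (n : ℕ)
    (h : ∀ s : S, topologicalKrullDim ↥(G.hom.fiber s) = n) : SmoothOfRelativeDimension n G.hom := by
  choose m V hx hV using fun x : G.left => Groth.Agent.Sga4h.BidRed538Geo.exists_relDim G.hom x
  have hm : ∀ x, m x = n := by
    intro x
    have h1 := @Groth.Agent.S2768.result (m x) _ _ ((V x).ι ≫ G.hom) (hV x) ⟨x, hx x⟩
    rw [Groth.Agent.Sga4h.H926.SpAlg.fibreDimAt_comp] at h1
    have h2 := Groth.Agent.S3022.fibreDimAt_eq G x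
    rw [h] at h2
    have h3 : (V x).ι ⟨x, hx x⟩ = x := rfl
    rw [h3, h2] at h1
    exact_mod_cast h1.symm
  have hV' : ∀ x, SmoothOfRelativeDimension n ((V x).ι ≫ G.hom) := fun x => hm x ▸ hV x
  have : ⨆ x, V x = ⊤ := by
    rw [eq_top_iff]
    intro x _
    exact TopologicalSpace.Opens.mem_iSup.2 ⟨x, hx x⟩
  exact (IsZariskiLocalAtSource.iff_of_iSup_eq_top (P := @SmoothOfRelativeDimension n) V this).2 hV'

theorem of_isAbSch {S : Scheme.{u}} (G : Over S) [GrpObj G] (n : ℕ) (h : AgPol.IsAbSch G n) :
    SmoothOfRelativeDimension n G.hom := by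
  have := h.smooth
  exact smoothOfRelDim G n h.fibreDim

end K814.RelDim
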