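import Groth.Agent.AgPol.K814.AbBasic
import Mathlib.AlgebraicGeometry.Morphisms.FlatMono

/-!
# The scheme of points of exact order `N`
-/

set_option autoImplicit false
universe u

open CategoryTheory CategoryTheory.Limits MonoidalCategory CartesianMonoidalCategory MonObj AlgebraicGeometry

namespace K814.ExactOrder

open K814.AbBasic

variable {S : Scheme.{u}} (A : Over S) [GrpObj A]

/-- the kernel of multiplication by `n` -/
noncomputable def tors (n : ℕ) : Over S := Over.mk (pullback.snd (𝟙 A ^ n : A ⟶ A).left η[A].left)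

/-- its inclusion -/
noncomputable def torsι (n : ℕ) : tors A n ⟶ A :=
  Over.homMk (pullback.fst (𝟙 A ^ n : A ⟶ A).left η[A].left) (by
    have h1 : (𝟙 A ^ n : A ⟶ A).left ≫ A.hom = A.hom := Over.w _
    have h2 : η[A].left ≫ A.hom = 𝟙 S := Over.w _
    have h3 : pullback.fst (𝟙 A ^ n : A ⟶ A).left η[A].left ≫ A.hom =
        pullback.snd (𝟙 A ^ n : A ⟶ A).left η[A].left := by
      conv_lhs => rw [← h1]
      rw [← Category.assoc, pullback.condition, Category.assoc, h2]
      exact Category.comp_id _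
    exact h3)

theorem comp_powId {T : Over S} (x : T ⟶ A) (n : ℕ) : x ≫ (𝟙 A ^ n : A ⟶ A) = x ^ n := by
  rw [MonObj.comp_pow, Category.comp_id]

theorem torsι_pow (n : ℕ) : torsι A n ^ n = 1 := by
  rw [← comp_powId]
  ext1
  change pullback.fst _ _ ≫ _ = pullback.snd _ _ ≫ η[A].left
  exact pullback.condition

theorem exists_lift {T : Over S} (x : T ⟶ A) {n : ℕ} (hx : x ^ n = 1) : ∃ y : T ⟶ tors A n, y ≫ torsι A n = x := by
  have h : x.left ≫ (𝟙 A ^ n : A ⟶ A).left = T.hom ≫ η[A].left := by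
    rw [← Over.comp_left, comp_powId, hx]
    rfl
  refine ⟨Over.homMk (pullback.lift _ _ h) (pullback.lift_snd _ _ _), ?_⟩
  ext1
  exact pullback.lift_fst _ _ _

instance isClosedImmersion_one [IsSeparated A.hom] : IsClosedImmersion η[A].left := by
  have h2 : η[A].left ≫ A.hom = 𝟙 S := Over.w _
  have : IsClosedImmersion (η[A].left ≫ A.hom) := by
    rw [h2]
    exact inferInstanceAs (IsClosedImmersion (𝟙 S))
  exact IsClosedImmersion.of_comp _ A.hom

instance isClosedImmersion_torsι [IsSeparated A.hom] (n : ℕ) : IsClosedImmersion (torsι A n).left :=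
  inferInstanceAs (IsClosedImmersion (pullback.fst (𝟙 A ^ n : A ⟶ A).left η[A].left))

instance mono_torsι [IsSeparated A.hom] (n : ℕ) : Mono (torsι A n) :=
  (Over.forget S).mono_of_mono_map (show Mono (torsι A n).left from inferInstance)

section

variable [Smooth A.hom] [IsProper A.hom] [GeometricallyConnected A.hom]

theorem etale_tors {n : ℕ} (hn : IsUnit (n : Γ(S, ⊤))) : Etale (tors A n).hom := by
  have := etale_pow A hn
  exact inferInstanceAs (Etale (pullback.snd (𝟙 A ^ n : A ⟶ A).left η[A].left))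

theorem isFinite_tors {n : ℕ} (hn : IsUnit (n : Γ(S, ⊤))) : IsFinite (tors A n).hom := by
  have := isFinite_pow A hn
  exact inferInstanceAs (IsFinite (pullback.snd (𝟙 A ^ n : A ⟶ A).left η[A].left))

omit [Smooth A.hom] [IsProper A.hom] [GeometricallyConnected A.hom] in
theorem exists_incl {d n : ℕ} (h : d ∣ n) : ∃ j : tors A d ⟶ tors A n, j ≫ torsι A n = torsι A d := by
  apply exists_lift
  obtain ⟨m, rfl⟩ := h
  rw [pow_mul, torsι_pow, one_pow]

theorem isUnit_of_dvd {R : Type*} [CommRing R] {d n : ℕ} (h : d ∣ n) (hn : IsUnit (n : R)) : IsUnit (d : R) := by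
  obtain ⟨m, rfl⟩ := h
  rw [Nat.cast_mul] at hn
  exact isUnit_of_mul_isUnit_left hn

theorem incl_props {d n : ℕ} (h : d ∣ n) (hn : IsUnit (n : Γ(S, ⊤))) (j : tors A d ⟶ tors A n)
    (hj : j ≫ torsι A n = torsι A d) : IsOpenImmersion j.left ∧ IsClosed (Set.range j.left) := by
  have hd := isUnit_of_dvd h hn
  have h1 := etale_tors A hn
  have h2 := etale_tors A hd
  have h3 := isFinite_tors A hn
  have h4 := isFinite_tors A hd
  have h5 : Etale (j.left ≫ (tors A n).hom) := by rw [Over.w]; exact h2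
  have h6 : Etale j.left := .of_comp _ (tors A n).hom
  have h7 : IsFinite (j.left ≫ (tors A n).hom) := by rw [Over.w]; exact h4
  have h8 : IsFinite j.left := .of_comp _ (tors A n).hom
  have h9 : Mono (j.left ≫ (torsι A n).left) := by
    rw [← Over.comp_left, hj]
    infer_instance
  have h10 : Mono j.left := mono_of_mono j.left (torsι A n).left
  exact ⟨.of_flat_of_mono _, j.left.isClosedMap.isClosed_range⟩

end

section main

variable [Smooth A.hom] [IsProper A.hom] [GeometricallyConnected A.hom]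

/-- Points with values in a field whose image lies in an open immersion factor. -/
theorem factors_of_mem_range {X Y : Scheme.{u}} (j : X ⟶ Y) [IsOpenImmersion j] {T : Scheme.{u}} (x : T ⟶ Y)
    (h : Set.range x ⊆ Set.range j) : ∃ y : T ⟶ X, y ≫ j = x :=
  ⟨IsOpenImmersion.lift j x h, IsOpenImmersion.lift_fac _ _ _⟩

theorem main (N : ℕ) (hN : 1 ≤ N) (hNu : IsUnit (N : Γ(S, ⊤))) :
    ∃ (Z : Over S) (P : Z ⟶ A), IsFinite Z.hom ∧ Etale Z.hom ∧
      (P ^ N = 1 ∧ ∀ (Ω : Type u) [Field Ω] [IsAlgClosed Ω] (t : Spec (CommRingCat.of Ω) ⟶ Z.left),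
        orderOf ((Over.homMk t rfl : Over.mk (t ≫ Z.hom) ⟶ Z) ≫ P) = N) ∧
      ∀ (T : Over S) (Q : T ⟶ A), Q ^ N = 1 →
        (∀ (Ω : Type u) [Field Ω] [IsAlgClosed Ω] (t : Spec (CommRingCat.of Ω) ⟶ T.left),
          orderOf ((Over.homMk t rfl : Over.mk (t ≫ T.hom) ⟶ T) ≫ Q) = N) →
        ∃! v : T ⟶ Z, v ≫ P = Q := by
  have hj : ∀ d : N.properDivisors, ∃ j : tors A d.1 ⟶ tors A N, j ≫ torsι A N = torsι A d.1 := fun d =>
    exists_incl A (Nat.mem_properDivisors.1 d.2).1
  choose j hj using hj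
  have hj' := fun d : N.properDivisors => incl_props A (Nat.mem_properDivisors.1 d.2).1 hNu (j d) (hj d)
  have hjo : ∀ d, IsOpenImmersion (j d).left := fun d => (hj' d).1
  let C : Set (tors A N).left := ⋃ d : N.properDivisors, Set.range (j d).left
  have hC : IsClosed C := isClosed_iUnion_of_finite fun d => (hj' d).2
  have hC' : IsOpen C := isOpen_iUnion fun d => (j d).left.isOpenEmbedding.isOpen_range
  let U : (tors A N).left.Opens := ⟨Cᶜ, hC.isOpen_compl⟩
  have hU : IsClosedImmersion U.ι := by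
    apply IsClosedImmersion.of_isPreimmersion
    rw [Scheme.Opens.range_ι]
    exact hC'.isClosed_compl
  have h1 := etale_tors A hNu
  have h3 := isFinite_tors A hNu
  let Z : Over S := Over.mk (U.ι ≫ (tors A N).hom)
  let i : Z ⟶ tors A N := Over.homMk U.ι rfl
  have hi : Mono i := (Over.forget S).mono_of_mono_map (show Mono U.ι from inferInstance)
  refine ⟨Z, i ≫ torsι A N, inferInstanceAs (IsFinite (U.ι ≫ (tors A N).hom)),
    inferInstanceAs (Etale (U.ι ≫ (tors A N).hom)), ⟨?_, ?_⟩, ?_⟩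
  · rw [← MonObj.comp_pow, torsι_pow, MonObj.comp_one]
  · intro Ω _ _ t
    set x := (Over.homMk t rfl : Over.mk (t ≫ Z.hom) ⟶ Z) ≫ i ≫ torsι A N with hx
    have hxN : x ^ N = 1 := by
      rw [hx, ← MonObj.comp_pow, ← MonObj.comp_pow, torsι_pow, MonObj.comp_one, MonObj.comp_one]
    have hdvd := orderOf_dvd_of_pow_eq_one hxN
    by_contra hne
    have hmem : orderOf x ∈ N.properDivisors :=
      Nat.mem_properDivisors.2 ⟨hdvd, lt_of_le_of_ne (Nat.le_of_dvd hN hdvd) hne⟩
    obtain ⟨y, hy⟩ := exists_lift A x (pow_orderOf_eq_one x)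
    have h4 : y ≫ j ⟨_, hmem⟩ = (Over.homMk t rfl : Over.mk (t ≫ Z.hom) ⟶ Z) ≫ i := by
      rw [← cancel_mono (torsι A N), Category.assoc, hj, hy, Category.assoc]
    have h5 : y.left ≫ (j ⟨_, hmem⟩).left = t ≫ U.ι := congr($(h4).left)
    let p : Spec (CommRingCat.of Ω) := IsLocalRing.closedPoint Ω
    have h6 : U.ι (t p) ∈ U := (t p).2
    have h7 : U.ι (t p) ∈ C := by
      refine Set.mem_iUnion.2 ⟨⟨_, hmem⟩, y.left p, ?_⟩
      rw [← Scheme.Hom.comp_apply, h5]
      rfl
    exact h6 h7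
  · intro T Q hQ hord
    obtain ⟨v, hv⟩ := exists_lift A Q hQ
    have h4 : Set.range v.left ⊆ Set.range U.ι := by
      rintro _ ⟨τ, rfl⟩
      rw [Scheme.Opens.range_ι]
      intro hmem
      obtain ⟨⟨d, hd⟩, hdm⟩ := Set.mem_iUnion.1 hmem
      let Ω := AlgebraicClosure (T.left.residueField τ)
      let t : Spec (CommRingCat.of Ω) ⟶ T.left :=
        Spec.map (CommRingCat.ofHom (algebraMap (T.left.residueField τ) Ω)) ≫ T.left.fromSpecResidueField τ
      have ht : ∀ p, t p = τ := by
        intro p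
        have : t p ∈ Set.range (T.left.fromSpecResidueField τ) := ⟨_, rfl⟩
        rw [Scheme.range_fromSpecResidueField] at this
        exact this
      have h5 : Set.range (t ≫ v.left) ⊆ Set.range (j ⟨d, hd⟩).left := by
        rintro _ ⟨p, rfl⟩
        rw [Scheme.Hom.comp_apply, ht]
        exact hdm
      obtain ⟨y, hy⟩ := factors_of_mem_range (j ⟨d, hd⟩).left _ h5
      have h6 : ((Over.homMk t rfl : Over.mk (t ≫ T.hom) ⟶ T) ≫ Q) ^ d = 1 := by
        let y' : Over.mk (t ≫ T.hom) ⟶ tors A d := Over.homMk y (by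
          rw [← Over.w (j ⟨d, hd⟩), reassoc_of% hy]
          change t ≫ v.left ≫ (tors A N).hom = t ≫ T.hom
          rw [Over.w])
        have h7 : (Over.homMk t rfl : Over.mk (t ≫ T.hom) ⟶ T) ≫ v = y' ≫ j ⟨d, hd⟩ := by
          ext1
          exact hy.symm
        rw [← hv, reassoc_of% h7, hj, ← MonObj.comp_pow, torsι_pow, MonObj.comp_one]
      have h8 := orderOf_dvd_of_pow_eq_one h6
      rw [hord Ω t] at h8
      have h9 := (Nat.mem_properDivisors.1 hd)
      have h10 : 0 < d := Nat.pos_of_dvd_of_pos h9.1 hN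
      exact absurd (Nat.le_of_dvd h10 h8) (not_le.2 h9.2)
    obtain ⟨w, hw⟩ := factors_of_mem_range U.ι _ h4
    refine ⟨Over.homMk w (by
      change w ≫ U.ι ≫ (tors A N).hom = T.hom
      rw [reassoc_of% hw, Over.w]), ?_, ?_⟩
    · change _ ≫ i ≫ torsι A N = Q
      rw [← hv, ← Category.assoc]
      congr 1
      ext1
      exact hw
    · intro v' hv'
      rw [← cancel_mono i, ← cancel_mono (torsι A N), Category.assoc, hv', ← hv]
      congr 1
      ext1
      exact hw.symm

end main

end K814.ExactOrder
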