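import Groth.Agent.AgPol.K814.PrimField
import Groth.Prelude.Def_Red

/-!
# `Pic⁰` classes on abelian schemes are primitive, over any base

`A` an abelian scheme over `S`, `T` any `S`-scheme, `c` a rigidified class on `A_T` which is algebraically equivalent to
zero on the geometric fibres: `c(a b) = c(a) c(b)`.
-/

set_option autoImplicit false
universe u

open CategoryTheory Limits MonoidalCategory CartesianMonoidalCategory AlgebraicGeometry
open scoped MonObj

namespace K814.PrimGeom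

open Groth.Agent.Grpsch.PicGrp K732.PicZero K732.Prim K732.Dual

section up

variable {S S' : Scheme.{u}} (σ : S' ⟶ S) {A B : Over S}

/-- Morphisms to the base change. -/
noncomputable def up {W : Over S'} (a : Over.mk (W.hom ≫ σ) ⟶ A) : W ⟶ Red.bc σ A :=
  (Over.mapPullbackAdj σ).homEquiv W A a

lemma up_left_fst {W : Over S'} (a : Over.mk (W.hom ≫ σ) ⟶ A) :
    (up σ a).left ≫ pullback.fst A.hom σ = a.left := by
  unfold up
  rw [Over.mapPullbackAdj, Adjunction.mkOfHomEquiv_homEquiv]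
  exact pullback.lift_fst _ _ _

/-- Morphisms from the base change. -/
noncomputable def dn {W : Over S'} (a : W ⟶ Red.bc σ A) : Over.mk (W.hom ≫ σ) ⟶ A :=
  ((Over.mapPullbackAdj σ).homEquiv W A).symm a

lemma up_dn {W : Over S'} (a : W ⟶ Red.bc σ A) : up σ (dn σ a) = a := Equiv.apply_symm_apply _ _

lemma dn_up {W : Over S'} (a : Over.mk (W.hom ≫ σ) ⟶ A) : dn σ (up σ a) = a := Equiv.symm_apply_apply _ _

lemma dn_left {W : Over S'} (a : W ⟶ Red.bc σ A) : (dn σ a).left = a.left ≫ pullback.fst A.hom σ := by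
  conv_rhs => rw [← up_dn σ a]
  rw [up_left_fst]

lemma up_comp {W : Over S'} (a : Over.mk (W.hom ≫ σ) ⟶ A) (f : A ⟶ B) :
    up σ (a ≫ f) = up σ a ≫ (Over.pullback σ).map f := (Over.mapPullbackAdj σ).homEquiv_naturality_right a f

variable [GrpObj A]

lemma up_mul {W : Over S'} (a b : Over.mk (W.hom ≫ σ) ⟶ A) : up σ (a * b) = up σ a * up σ b := by
  unfold up
  rw [(Over.mapPullbackAdj σ).homEquiv_unit, (Over.mapPullbackAdj σ).homEquiv_unit,
    (Over.mapPullbackAdj σ).homEquiv_unit, CategoryTheory.Functor.map_mul, MonObj.comp_mul]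

lemma up_one {W : Over S'} : up σ (1 : Over.mk (W.hom ≫ σ) ⟶ A) = 1 := by
  have h := up_mul σ (W := W) (1 : Over.mk (W.hom ≫ σ) ⟶ A) 1
  rw [_root_.one_mul] at h
  exact mul_eq_left.1 h.symm

end up

/-- Every point is the image of a geometric point. -/
theorem exists_geomPt {Z : Scheme.{u}} (z : Z) : ∃ (Ω : Type u) (_ : Field Ω) (_ : IsAlgClosed Ω)
    (τ : Spec (CommRingCat.of Ω) ⟶ Z), z ∈ Set.range τ := by
  refine ⟨AlgebraicClosure (Z.residueField z), inferInstance, inferInstance,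
    Spec.map (CommRingCat.ofHom (algebraMap (Z.residueField z) (AlgebraicClosure (Z.residueField z)))) ≫
      Z.fromSpecResidueField z, ⟨IsLocalRing.closedPoint _, ?_⟩⟩
  rw [Scheme.Hom.comp_apply]
  exact Scheme.fromSpecResidueField_apply z _

section fibre

variable {S : Scheme.{u}} {A T : Over S} {S' : Scheme.{u}} (τ : S' ⟶ T.left)

variable (A) in
/-- The map from the base change of `A` to `A_T`. -/
noncomputable def dl : (Red.bc (τ ≫ T.hom) A).left ⟶ PicF.XT A.hom T :=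
  pullback.lift (pullback.fst A.hom (τ ≫ T.hom)) (pullback.snd A.hom (τ ≫ T.hom) ≫ τ) (by
    rw [Category.assoc]
    exact pullback.condition)

lemma dl_XTproj : dl A τ ≫ PicF.XTproj A.hom T = (Red.bc (τ ≫ T.hom) A).hom ≫ τ := pullback.lift_snd _ _ _

lemma dl_fst : dl A τ ≫ pullback.fst A.hom T.hom = pullback.fst A.hom (τ ≫ T.hom) := pullback.lift_fst _ _ _

lemma lift_left_eq (X : Scheme.{u}) (q : X ⟶ S') (a : Over.mk (q ≫ τ ≫ T.hom) ⟶ A) :
    (lift a (Over.homMk (q ≫ τ) : Over.mk (q ≫ τ ≫ T.hom) ⟶ T)).left =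
      (up (τ ≫ T.hom) (W := Over.mk q) a).left ≫ dl A τ := by
  apply pullback.hom_ext
  · refine (congrArg CommaMorphism.left (lift_fst a (Over.homMk (q ≫ τ) : Over.mk (q ≫ τ ≫ T.hom) ⟶ T))).trans ?_
    rw [Category.assoc, dl_fst]
    exact (up_left_fst (τ ≫ T.hom) (W := Over.mk q) a).symm
  · refine (congrArg CommaMorphism.left (lift_snd a (Over.homMk (q ≫ τ) : Over.mk (q ≫ τ ≫ T.hom) ⟶ T))).trans ?_
    refine Eq.trans ?_ (Category.assoc _ _ _).symm
    refine Eq.trans ?_ (congrArg ((up (τ ≫ T.hom) (W := Over.mk q) a).left ≫ ·) (dl_XTproj τ)).symm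
    refine Eq.trans ?_ (Category.assoc _ _ _)
    have h : (up (τ ≫ T.hom) (W := Over.mk q) a).left ≫ (Red.bc (τ ≫ T.hom) A).hom = q := Over.w _
    exact (congrArg (· ≫ τ) h).symm

lemma ev_eq (c : Pic (PicF.XT A.hom T)) (X : Scheme.{u}) (q : X ⟶ S') (a : Over.mk (q ≫ τ ≫ T.hom) ⟶ A) :
    ev a (Over.homMk (q ≫ τ) : Over.mk (q ≫ τ ≫ T.hom) ⟶ T) c =
      pull (up (τ ≫ T.hom) (W := Over.mk q) a).left (pull (dl A τ) c) := by
  rw [ev_def, lift_left_eq, pull_comp]

end fibre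

variable {S : Scheme.{u}} {A : Over S} [GrpObj A] [IsProper A.hom] [Flat A.hom]
  [LocallyOfFinitePresentation A.hom] [GeometricallyIntegral A.hom]

/-- **Rigidified `Pic⁰` classes are primitive.** -/
theorem prim {T : Over S} {c : Pic (PicF.XT A.hom T)} (hc : c ∈ pz A.hom T) (hc' : c ∈ rg A T)
    {W : Over S} (a b : W ⟶ A) (g : W ⟶ T) : ev (a * b) g c = ev a g c * ev b g c := by
  let u : (A ⊗ A) ⊗ T ⟶ A := fst _ _ ≫ fst _ _
  let v : (A ⊗ A) ⊗ T ⟶ A := fst _ _ ≫ snd _ _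
  let w : (A ⊗ A) ⊗ T ⟶ T := snd _ _
  let M : Pic ((A ⊗ A) ⊗ T).left := ev (u * v) w c * (ev u w c * ev v w c)⁻¹
  have hM : ∀ {W : Over S} (a b : W ⟶ A) (y : W ⟶ T), pull (lift (lift a b) y).left M =
      ev (a * b) y c * (ev a y c * ev b y c)⁻¹ := by
    intro W a b y
    have e1 : lift (lift a b) y ≫ u = a := by simp [u]
    have e2 : lift (lift a b) y ≫ v = b := by simp [v]
    have e3 : lift (lift a b) y ≫ w = y := by simp [w]
    simp only [M, map_mul, map_inv, pull_ev, MonObj.comp_mul, e1, e2, e3]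
  have key : M = 1 := by
    refine CubeGeom.cube_geom A A T M (fun W b y ↦ ?_) (fun W a y ↦ ?_) (fun z ↦ ?_)
    · rw [hM, _root_.one_mul, ev_one_of_mem hc', _root_.one_mul, mul_inv_cancel]
    · rw [hM, _root_.mul_one, ev_one_of_mem hc', _root_.mul_one, mul_inv_cancel]
    obtain ⟨Ω, _, _, τ, hz⟩ := exists_geomPt z
    refine ⟨_, τ, hz, fun X q a b => ?_⟩
    have h1 : pull (dl A τ) c ∈ az (Red.bc (τ ≫ T.hom) A).hom := pull_mem_of_mem hc τ _ _ (dl_XTproj τ)
    have i1 : IsProper (Red.bc (τ ≫ T.hom) A).hom := inferInstanceAs (IsProper (pullback.snd A.hom (τ ≫ T.hom)))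
    have i2 : GeometricallyIntegral (Red.bc (τ ≫ T.hom) A).hom :=
      inferInstanceAs (GeometricallyIntegral (pullback.snd A.hom (τ ≫ T.hom)))
    have h2 := PrimField.prim (Red.bc (τ ≫ T.hom) A) h1 (up (τ ≫ T.hom) (W := Over.mk q) a)
      (up (τ ≫ T.hom) (W := Over.mk q) b)
    have h3 := up_mul (τ ≫ T.hom) (W := Over.mk q) a b
    rw [← h3] at h2
    refine (hM a b _).trans ?_
    rw [ev_eq, ev_eq, ev_eq]
    rw [mul_inv_eq_one]
    exact h2
  have h := hM a b g
  rw [key, map_one] at h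
  exact (mul_inv_eq_one.1 h.symm)

end K814.PrimGeom
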