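import Groth.Agent.AgPol.K814.Pair

/-!
# The homomorphism attached to an invertible module on a geometric fibre

* `fibre` : on a geometric fibre, if `lam` is the homomorphism attached to the module `m` then
  `P(a, lam b) = m(a b) m(a)⁻¹ m(b)⁻¹`;
-/

set_option autoImplicit false
universe u

open CategoryTheory Limits MonoidalCategory CartesianMonoidalCategory AlgebraicGeometry
open scoped MonObj

namespace K814.Fibre

open Groth.Agent.Grpsch.PicGrp Groth.Agent.Fga.RigGrp K732.PicZero K732.Prim K732.Dual K732.CubeSec K814.PrimGeom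

lemma eq_of_mul {G : Type*} [CommGroup G] {n p q x : G} (h : n * p * q = x) : n = x * p⁻¹ * q⁻¹ := by
  rw [eq_mul_inv_iff_mul_eq, eq_mul_inv_iff_mul_eq, ← h]
  exact mul_right_comm _ _ _

theorem geomConn {X Y : Scheme.{u}} (f : X ⟶ Y) [GeometricallyIntegral f] : GeometricallyConnected f := by
  refine ⟨fun K _ y Z fst snd h => ?_⟩
  have : IsIntegral Z := GeometricallyIntegral.geometrically_isIntegral (f := f) y fst snd h
  infer_instance

section iso

variable {S S' : Scheme.{u}} (τ : S' ⟶ S) {A : Over S}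

/-- The morphism of `S`-schemes underlying a morphism of `S'`-schemes. -/
noncomputable abbrev um {W T : Over S'} (g : W ⟶ T) : Over.mk (W.hom ≫ τ) ⟶ Over.mk (T.hom ≫ τ) :=
  Over.homMk g.left (by simp)

lemma bcXTIso_inv_XTproj (T : Over S') : (AgPol.bcXTIso τ A T).inv ≫ PicF.XTproj (Red.bc τ A).hom T =
    PicF.XTproj A.hom (Over.mk (T.hom ≫ τ)) :=
  pullbackLeftPullbackSndIso_inv_snd_snd A.hom τ T.hom

lemma lift_bcXTIso_inv {W T : Over S'} (a : Over.mk (W.hom ≫ τ) ⟶ A) (g : W ⟶ T) :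
    (lift a (um τ g)).left ≫ (AgPol.bcXTIso τ A T).inv = (lift (up τ a) g).left := by
  have e1 : ((AgPol.bcXTIso τ A T).inv ≫ pullback.fst _ _) ≫ pullback.fst _ _ = pullback.fst _ _ :=
    (Category.assoc _ _ _).trans (pullbackLeftPullbackSndIso_inv_fst A.hom τ T.hom)
  have e2 : ((AgPol.bcXTIso τ A T).inv ≫ pullback.fst _ _) ≫ pullback.snd _ _ = pullback.snd _ _ ≫ T.hom :=
    (Category.assoc _ _ _).trans (pullbackLeftPullbackSndIso_inv_fst_snd A.hom τ T.hom)
  have e3 : (AgPol.bcXTIso τ A T).inv ≫ pullback.snd _ _ = pullback.snd _ _ :=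
    pullbackLeftPullbackSndIso_inv_snd_snd A.hom τ T.hom
  have f1 : (lift a (um τ g)).left ≫
    pullback.fst A.hom (T.hom ≫ τ) = a.left := congrArg CommaMorphism.left (lift_fst a (um τ g))
  have f2 : (lift a (um τ g)).left ≫
    pullback.snd A.hom (T.hom ≫ τ) = g.left := congrArg CommaMorphism.left (lift_snd a (um τ g))
  have g1 : (lift (up τ a) g).left ≫ pullback.fst (Red.bc τ A).hom T.hom = (up τ a).left :=
    congrArg CommaMorphism.left (lift_fst (up τ a) g)
  have g2 : (lift (up τ a) g).left ≫ pullback.snd (Red.bc τ A).hom T.hom = g.left :=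
    congrArg CommaMorphism.left (lift_snd (up τ a) g)
  have u1 : (up τ a).left ≫ pullback.snd A.hom τ = W.hom := Over.w (up τ a)
  apply pullback.hom_ext
  · refine Eq.trans ?_ g1.symm
    rw [Category.assoc]
    apply pullback.hom_ext
    · rw [up_left_fst, Category.assoc, e1]
      exact f1
    · rw [u1, Category.assoc, e2]
      refine (Category.assoc _ _ _).symm.trans ?_
      refine (congrArg (· ≫ T.hom) f2).trans ?_
      exact Over.w g
  · rw [Category.assoc]
    exact (congrArg ((lift a (um τ g)).left ≫ ·) e3).trans (f2.trans g2.symm)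

/-- Values of a class on `A_τ ×_τ T`, seen on `A ×_S T`. -/
lemma ev_bcXTIso_inv {W T : Over S'} (a : Over.mk (W.hom ≫ τ) ⟶ A) (g : W ⟶ T)
    (n : Pic (PicF.XT (Red.bc τ A).hom T)) :
    ev a (um τ g) (pull (AgPol.bcXTIso τ A T).inv n) = ev (up τ a) g n := by
  rw [ev_def, ev_def, ← pull_comp]
  exact congrArg (fun t ↦ pull t n) (lift_bcXTIso_inv τ a g)

lemma pull_bcXTIso_inv_mem {T : Over S'} {n : Pic (PicF.XT (Red.bc τ A).hom T)}
    (hn : n ∈ pz (Red.bc τ A).hom T) :
    pull (AgPol.bcXTIso τ A T).inv n ∈ pz A.hom (Over.mk (T.hom ≫ τ)) :=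
  pull_mem_of_comm (g := PicF.XTproj (Red.bc τ A).hom T) _ (𝟙 _)
    ((bcXTIso_inv_XTproj τ T).trans (Category.comp_id _).symm) hn

end iso

variable {S : Scheme.{u}} {A At : Over S} [GrpObj A] [GrpObj At] [IsProper A.hom] [Flat A.hom]
  [LocallyOfFinitePresentation A.hom] [GeometricallyIntegral A.hom]
  {φ : ∀ T : Over S, PicF.Cl (PicF.XT A.hom T) → (T ⟶ At)}
  (hD : AbDual.IsDualAV Scheme.fppfPrecoverage A At φ)
  {ξ : Pic (PicF.XT A.hom At)} (h1 : ξ ∈ pz A.hom At) (h2 : ξ ∈ rg A At) (h3 : cm φ ξ = 𝟙 At)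
  {Ω : Type u} [Field Ω] (τ : Spec (CommRingCat.of Ω) ⟶ S)

include hD h1 h2 h3

/-- **The homomorphism attached to an invertible module on a geometric fibre.** -/
theorem fibre (lam : A ⟶ At) {L : (Red.bc τ A).left.Modules} (hL : PicF.IsInvertible L)
    (hlam : AgPol.IsLambda (Red.bc τ A) (Red.bc τ At) (AgPol.bcDual τ A At φ) L ((Over.pullback τ).map lam))
    {W : Over (Spec (CommRingCat.of Ω))} (a b : Over.mk (W.hom ≫ τ) ⟶ A) :
    ev a (b ≫ lam) ξ = K513.Lam.lam (up τ a) (up τ b) (mk L hL) := by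
  obtain ⟨N, hN, ⟨e⟩, hφ⟩ := hlam
  have i1 : IsProper (Red.bc τ A).hom := inferInstanceAs (IsProper (pullback.snd A.hom τ))
  have i2 : GeometricallyIntegral (Red.bc τ A).hom := inferInstanceAs (GeometricallyIntegral (pullback.snd A.hom τ))
  let B : Over (Spec (CommRingCat.of Ω)) := Red.bc τ A
  let n : Pic (B ⊗ B).left := @mk (B ⊗ B).left N hN
  have hn1 : n = K513.Lam.lam (fst B B) (snd B B) (mk L hL) := by
    have e1 : n * pull (fst B B).left (mk L hL) * pull (snd B B).left (mk L hL) = pull (μ[B]).left (mk L hL) := by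
      rw [pull_mk (fst B B).left hL, pull_mk (snd B B).left hL, pull_mk (μ[B]).left hL]
      refine (congrArg (· * _) (mk_mul_mk _ _)).trans ?_
      rw [mk_mul_mk]
      exact (mk_eq_iff _ _).mpr ⟨e⟩
    have e2 : (μ[B] : B ⊗ B ⟶ B) = fst B B * snd B B := by
      rw [Hom.mul_def, lift_fst_snd, Category.id_comp]
    rw [e2] at e1
    exact eq_of_mul e1
  have i3 : GeometricallyConnected (Red.bc τ A).hom := geomConn _
  have hpz : n ∈ pz (Red.bc τ A).hom (Red.bc τ A) := by
    have h := K513.Lam.isPicZeroCl_lam (A := B) (mk L hL) B (𝟙 B)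
    rw [Category.comp_id, ← hn1] at h
    exact isPicZeroCl_iff.1 h
  let U : Over S := Over.mk ((Red.bc τ A).hom ≫ τ)
  let n' : Pic (PicF.XT A.hom U) := pull (AgPol.bcXTIso τ A (Red.bc τ A)).inv n
  let pr : U ⟶ A := dn τ (𝟙 (Red.bc τ A))
  have hpr : pr.left = pullback.fst A.hom τ := (dn_left τ (𝟙 (Red.bc τ A))).trans (Category.id_comp _)
  have hn'pz : n' ∈ pz A.hom U := pull_bcXTIso_inv_mem τ hpz
  have hev : ∀ {W : Over (Spec (CommRingCat.of Ω))} (a : Over.mk (W.hom ≫ τ) ⟶ A) (g : W ⟶ Red.bc τ A),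
      ev a (um τ g) n' = K513.Lam.lam (up τ a) g (mk L hL) := by
    intro W a g
    refine (ev_bcXTIso_inv τ a g n).trans ?_
    have h4 := congrArg (pull (lift (up τ a) g).left) hn1
    refine h4.trans ?_
    refine (K513.Lam.lam_comp (lift (up τ a) g) (fst B B) (snd B B) (mk L hL)).trans ?_
    rw [lift_fst, lift_snd]
  have hn'rg : n' ∈ rg A U := by
    rw [mem_rg_iff]
    have h5 := hev (W := Red.bc τ A) 1 (𝟙 _)
    rw [up_one, K513.Lam.lam_one_left] at h5
    refine Eq.trans ?_ h5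
    congr 1
  have hcm : cm φ n' = pr ≫ lam := by
    have h6 := congrArg (fun t => t.left ≫ pullback.fst At.hom τ) hφ
    have h7 : ((Over.pullback τ).map lam).left ≫ pullback.fst At.hom τ = pullback.fst A.hom τ ≫ lam.left :=
      pullback.lift_fst _ _ _
    have h8 : (AgPol.bcDual τ A At φ (Red.bc τ A) (PicF.cl N)).left ≫ pullback.fst At.hom τ =
      (φ U (PicF.pullCl (AgPol.bcXTIso τ A (Red.bc τ A)).inv (PicF.cl N))).left := pullback.lift_fst _ _ _
    have h9 : cm φ n' = φ U (PicF.pullCl (AgPol.bcXTIso τ A (Red.bc τ A)).inv (PicF.cl N)) := by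
      rw [cm, toCl_pull]
      rfl
    rw [h9]
    ext1
    refine h8.symm.trans (h6.trans (h7.trans ?_))
    rw [Over.comp_left, hpr]
  have hkey : n' = pull (PicF.XTmap A.hom (pr ≫ lam)) ξ := by
    refine cm_inj hD (bijective_XTproj A.hom) hn'pz (pull_XTmap_mem _ h1) hn'rg (pull_mem _ h2) ?_
    rw [hcm, cm_pull hD _ h1, h3, Category.comp_id]
  have hb : um τ (up τ b) ≫ pr = b := by
    ext1
    rw [Over.comp_left, hpr]
    exact up_left_fst τ b
  have h10 := hev a (up τ b)
  rw [hkey, ev_XTmap, ← Category.assoc, hb] at h10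
  exact h10

/-- **Symmetry of polarisations**: `P(b, lam a) = P(a, lam b)`. -/
theorem symm {lam : A ⟶ At} (hlam : AgPol.IsPolarization A At φ lam) {W : Over S} (a b : W ⟶ A) :
    ev b (a ≫ lam) ξ = ev a (b ≫ lam) ξ := by
  have := hlam.1
  let M : Pic (A ⊗ A).left := ev (snd A A) (fst A A ≫ lam) ξ * (ev (fst A A) (snd A A ≫ lam) ξ)⁻¹
  have hM : ∀ {W : Over S} (a b : W ⟶ A), pull (lift a b).left M = ev b (a ≫ lam) ξ * (ev a (b ≫ lam) ξ)⁻¹ := by
    intro W a b
    simp only [M, map_mul, map_inv, pull_ev, lift_fst, lift_snd, lift_fst_assoc, lift_snd_assoc]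
  have key : M = 1 := by
    refine CubeGeom.square_geom A A M (fun W b ↦ ?_) (fun W a ↦ ?_) (fun s ↦ ?_)
    · rw [hM, MonObj.one_comp, Pair.ev_one_right hD h1 h2 h3, ev_one_of_mem h2, inv_one, _root_.mul_one]
    · rw [hM, MonObj.one_comp, Pair.ev_one_right hD h1 h2 h3, ev_one_of_mem h2, inv_one, _root_.mul_one]
    · obtain ⟨Ω, _, _, τ, hs⟩ := exists_geomPt s
      obtain ⟨L, hL, hLl⟩ := hlam.2 Ω τ
      refine ⟨_, τ, hs, fun X q a b => (hM a b).trans ?_⟩
      have i1 : IsProper (Red.bc τ A).hom := inferInstanceAs (IsProper (pullback.snd A.hom τ))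
      have i2 : GeometricallyIntegral (Red.bc τ A).hom :=
        inferInstanceAs (GeometricallyIntegral (pullback.snd A.hom τ))
      have i3 : IsCommMonObj (Red.bc τ A) := isCommMonObj_of_isProper_of_geometricallyIntegral (Red.bc τ A)
      have e1 := fibre hD h1 h2 h3 τ lam hL.1 hLl (W := Over.mk q) a b
      have e2 := fibre hD h1 h2 h3 τ lam hL.1 hLl (W := Over.mk q) b a
      rw [K513.Lam.lam_comm] at e2
      rw [mul_inv_eq_one]
      exact e2.trans e1.symm
  have h := hM a b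
  rw [key, map_one] at h
  exact mul_inv_eq_one.1 h.symm

end K814.Fibre
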