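import Groth.Agent.AgPol.K814.Fibre
import Groth.Agent.AbVar.K528.MumZero
import Groth.Agent.AbDual.K732.BC
import Groth.Agent.AgPol.K814.AbBasic

/-!
# The homomorphism `A ⟶ At` attached to an invertible module, over any base

`A` an abelian scheme over any scheme `S`, `c` a class on `A` with `c(1) = 1`.

* `hom φ c : A ⟶ At` : the point of the dual attached to the class `c(a b) c(a)⁻¹ c(b)⁻¹`;
* `isLambda_iff` : `AgPol.IsLambda A At φ L lam ↔ lam = hom φ [L]`;
* `ev_hom` : `P(a, b ≫ hom φ c) = c(a b) c(a)⁻¹ c(b)⁻¹`;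
* `isMonHom_hom` : it is a homomorphism;
* `hom_bc` : it is compatible with base change.
-/

set_option autoImplicit false
universe u

open CategoryTheory Limits MonoidalCategory CartesianMonoidalCategory AlgebraicGeometry
open scoped MonObj

namespace K814.MumHom

open Groth.Agent.Grpsch.PicGrp Groth.Agent.Fga.RigGrp K732.PicZero K732.Prim K732.Dual K732.CubeSec
open K528.MumZero K732.BC

section basic

variable {S : Scheme.{u}} {A At : Over S} [GrpObj A]

lemma ev_mum (c : Pic A.left) {W : Over S} (a b : W ⟶ A) :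
    ev a b (mumCl A c) = pull (a * b).left c * (pull a.left c)⁻¹ * (pull b.left c)⁻¹ :=
  pull_lift_mumCl A c a b

lemma pull_one_left (c : Pic A.left) (hc : pull (η[A] : 𝟙_ (Over S) ⟶ A).left c = 1) (W : Over S) :
    pull (1 : W ⟶ A).left c = 1 := by
  have h : (1 : W ⟶ A).left = (toUnit W).left ≫ (η[A] : 𝟙_ (Over S) ⟶ A).left := by
    rw [Hom.one_def, Over.comp_left]
  rw [h, pull_comp, hc, map_one]

lemma mum_mem_rg {c : Pic A.left} (hc : pull (η[A] : 𝟙_ (Over S) ⟶ A).left c = 1) : mumCl A c ∈ rg A A := by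
  rw [mem_rg_iff, ev_mum, _root_.one_mul, pull_one_left c hc, inv_one, _root_.mul_one, mul_inv_cancel]

lemma aux_mul {G : Type*} [CommGroup G] (m p q : G) : m * p⁻¹ * q⁻¹ * p * q = m := by
  rw [mul_right_comm _ q⁻¹ p, inv_mul_cancel_right, inv_mul_cancel_right]

/-- The homomorphism attached to a class. -/
noncomputable def hom (φ : ∀ T : Over S, PicF.Cl (PicF.XT A.hom T) → (T ⟶ At)) (c : Pic A.left) : A ⟶ At :=
  cm φ (mumCl A c)

theorem isLambda_iff (φ : ∀ T : Over S, PicF.Cl (PicF.XT A.hom T) → (T ⟶ At)) {L : A.left.Modules}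
    (hL : PicF.IsInvertible L) (lam : A ⟶ At) :
    AgPol.IsLambda A At φ L lam ↔ lam = hom φ (mk L hL) := by
  constructor
  · rintro ⟨N, hN, h, rfl⟩
    rw [hom, ← mk_eq_mumCl A hL hN h]
    rfl
  · rintro rfl
    obtain ⟨N, hN, hNn⟩ := exists_mk (mumCl A (mk L hL))
    refine ⟨N, hN, ?_, ?_⟩
    · have e0 : @mk (A ⊗ A).left N hN = mumCl A (mk L hL) := hNn.symm
      have e : @mk (A ⊗ A).left N hN * pull (fst A A).left (mk L hL) * pull (snd A A).left (mk L hL) =
          pull (μ[A]).left (mk L hL) := by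
        rw [e0]
        exact aux_mul _ _ _
      rw [pull_mk (fst A A).left hL, pull_mk (snd A A).left hL, pull_mk (μ[A]).left hL, mk_mul_mk, mk_mul_mk] at e
      exact (mk_eq_iff _ _).mp e
    · rw [hom, hNn]
      rfl

variable [LocallyOfFiniteType A.hom] [QuasiCompact A.hom] [GeometricallyConnected A.hom]

lemma mum_mem_pz (c : Pic A.left) : mumCl A c ∈ pz A.hom A := by
  have h1 := fibZero_mumCl A c
  rw [← K530.PicZero.isPicZeroCl_toCl_iff] at h1
  exact isPicZeroCl_iff.1 h1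

end basic

section main

variable {S : Scheme.{u}} {A At : Over S} [GrpObj A] [GrpObj At] [IsProper A.hom] [Flat A.hom]
  [LocallyOfFinitePresentation A.hom] [GeometricallyIntegral A.hom]
  {φ : ∀ T : Over S, PicF.Cl (PicF.XT A.hom T) → (T ⟶ At)}
  (hD : AbDual.IsDualAV Scheme.fppfPrecoverage A At φ)

omit [Flat A.hom] [LocallyOfFinitePresentation A.hom] in
lemma mum_pz (c : Pic A.left) : mumCl A c ∈ pz A.hom A := by
  have : GeometricallyConnected A.hom := Fibre.geomConn _
  exact mum_mem_pz c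

include hD

/-- `b ≫ hom φ c` is the point attached to the pull back of the Mumford class. -/
lemma comp_hom (c : Pic A.left) {W : Over S} (b : W ⟶ A) :
    b ≫ hom φ c = cm φ (pull (PicF.XTmap A.hom b) (mumCl A c)) := by
  rw [hom, cm_pull hD _ (mum_pz c)]

lemma comp_hom_eq_one_iff {c : Pic A.left} (hc : pull (η[A] : 𝟙_ (Over S) ⟶ A).left c = 1) {W : Over S}
    (b : W ⟶ A) : b ≫ hom φ c = 1 ↔ pull (PicF.XTmap A.hom b) (mumCl A c) = 1 := by
  rw [comp_hom hD]
  constructor
  · intro h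
    refine cm_inj hD (bijective_XTproj A.hom) (pull_XTmap_mem _ (mum_pz c)) (one_mem _)
      (pull_mem _ (mum_mem_rg hc)) (one_mem _) ?_
    rw [h, cm_one hD]
  · intro h
    rw [h, cm_one hD]

theorem ev_hom {ξ : Pic (PicF.XT A.hom At)} (h1 : ξ ∈ pz A.hom At) (h2 : ξ ∈ rg A At) (h3 : cm φ ξ = 𝟙 At)
    {c : Pic A.left} (hc : pull (η[A] : 𝟙_ (Over S) ⟶ A).left c = 1) {W : Over S} (a b : W ⟶ A) :
    ev a (b ≫ hom φ c) ξ = pull (a * b).left c * (pull a.left c)⁻¹ * (pull b.left c)⁻¹ := by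
  rw [← ev_mum, ← ev_XTmap, hom,
    ← eq_pull_poinc hD (bijective_XTproj A.hom) h1 h2 h3 (mum_pz c) (mum_mem_rg hc)]

/-- The attached morphism is a homomorphism. -/
theorem isMonHom_hom [IsCommMonObj A] {c : Pic A.left} (hc : pull (η[A] : 𝟙_ (Over S) ⟶ A).left c = 1) :
    IsMonHom (hom φ c) := by
  refine K732.Bidual.isMonHom_of_mul _ fun W a b ↦ ?_
  have hm : ∀ {W : Over S} (x y : W ⟶ A), ev x y (mumCl A c) = ev y x (mumCl A c) := by
    intro W x y
    rw [ev_mum, ev_mum, mul_comm x y, mul_right_comm]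
  have e1 : pull (PicF.XTmap A.hom (a * b)) (mumCl A c) =
      pull (PicF.XTmap A.hom a) (mumCl A c) * pull (PicF.XTmap A.hom b) (mumCl A c) := by
    refine ext_ev fun V x g ↦ ?_
    rw [map_mul, ev_XTmap, ev_XTmap, ev_XTmap, hm, hm x (g ≫ a), hm x (g ≫ b), MonObj.comp_mul]
    exact PrimGeom.prim (mum_pz c) (mum_mem_rg hc) _ _ _
  rw [comp_hom hD, comp_hom hD, comp_hom hD, e1, cm_mul hD (pull_XTmap_mem _ (mum_pz c)) (pull_XTmap_mem _ (mum_pz c))]

omit [GrpObj At] [IsProper A.hom] [Flat A.hom] [LocallyOfFinitePresentation A.hom] [GeometricallyIntegral A.hom] hD in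
lemma bcXi_mum {S' : Scheme.{u}} (k : S' ⟶ S) (c : Pic A.left) :
    bcXi k A A (mumCl A c) = mumCl (Red.bc k A) (pull (pullback.fst A.hom k) c) := by
  refine ext_ev fun W a b ↦ ?_
  obtain ⟨a, rfl⟩ := exists_up a
  obtain ⟨b, rfl⟩ := exists_up b
  have h : ∀ a : dn k W ⟶ A, pull (up a).left (pull (pullback.fst A.hom k) c) = pull a.left c := by
    intro a
    rw [← pull_comp, up_left_fst]
  rw [ev_bcXi, ev_mum, ev_mum, ← up_mul, h, h, h]

/-- **Base change** of the homomorphism attached to a class. -/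
theorem hom_bc {S' : Scheme.{u}} (k : S' ⟶ S) (c : Pic A.left) :
    (Over.pullback k).map (hom φ c) =
      hom (A := Red.bc k A) (At := Red.bc k At) (AgPol.bcDual k A At φ) (pull (pullback.fst A.hom k) c) := by
  rw [hom, ← cm_bcXi hD (mum_pz c), bcXi_mum]
  rfl

end main

end K814.MumHom
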