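import Groth.Agent.AgPol.K814.Fibre

/-!
# Pull back of the Poincaré class along the graph of a homomorphism

`gr lam = (1, lam)^* P`, class on `A`.

* `gr_point` : its value at `a` is `P(a, lam a)`;
* `gr_mul` : `gr(a b) = gr(a) gr(b) P(a, lam b) P(b, lam a)`.
-/

set_option autoImplicit false
universe u

open CategoryTheory Limits MonoidalCategory CartesianMonoidalCategory AlgebraicGeometry
open scoped MonObj

namespace K814.Graph

open Groth.Agent.Grpsch.PicGrp Groth.Agent.Fga.RigGrp K732.PicZero K732.Prim K732.Dual K732.CubeSec K814.PrimGeom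

lemma isInvertible_of_iso {Y : Scheme.{u}} {L M : Y.Modules} (e : L ≅ M) (hL : PicF.IsInvertible L) :
    PicF.IsInvertible M := by
  intro x
  obtain ⟨U, hx, ⟨i⟩⟩ := hL x
  exact ⟨U, hx, ⟨(Scheme.Modules.restrictFunctor U.ι).mapIso e.symm ≪≫ i⟩⟩

variable {S : Scheme.{u}} {A At : Over S} [GrpObj A] [GrpObj At]

omit [GrpObj A] [GrpObj At] in
theorem graph_eq (lam : A ⟶ At) : (pullback.lift (𝟙 A.left) lam.left
    ((Category.id_comp A.hom).trans (Over.w lam).symm) : A.left ⟶ PicF.XT A.hom At) = (lift (𝟙 A) lam).left := by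
  apply pullback.hom_ext
  · exact (pullback.lift_fst _ _ _).trans (congrArg CommaMorphism.left (lift_fst (𝟙 A) lam)).symm
  · exact (pullback.lift_snd _ _ _).trans (congrArg CommaMorphism.left (lift_snd (𝟙 A) lam)).symm

omit [GrpObj A] [GrpObj At] in
/-- The value of the pull back along the graph. -/
theorem gr_point (lam : A ⟶ At) (ξ : Pic (PicF.XT A.hom At)) {W : Over S} (a : W ⟶ A) :
    pull a.left (ev (𝟙 A) lam ξ) = ev a (a ≫ lam) ξ := by
  rw [pull_ev, Category.comp_id]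

variable [IsProper A.hom] [Flat A.hom] [LocallyOfFinitePresentation A.hom] [GeometricallyIntegral A.hom]
  {φ : ∀ T : Over S, PicF.Cl (PicF.XT A.hom T) → (T ⟶ At)}
  (hD : AbDual.IsDualAV Scheme.fppfPrecoverage A At φ)
  {ξ : Pic (PicF.XT A.hom At)} (h1 : ξ ∈ pz A.hom At) (h2 : ξ ∈ rg A At) (h3 : cm φ ξ = 𝟙 At)

include hD h1 h2 h3

theorem gr_mul (lam : A ⟶ At) [IsMonHom lam] {W : Over S} (a b : W ⟶ A) :
    ev (a * b) ((a * b) ≫ lam) ξ =
      (ev a (b ≫ lam) ξ * ev b (a ≫ lam) ξ) * ev a (a ≫ lam) ξ * ev b (b ≫ lam) ξ := by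
  rw [MonObj.mul_comp, Pair.ev_mul_right hD h1 h2 h3, Pair.ev_mul_left h1 h2, Pair.ev_mul_left h1 h2]
  generalize ev a (a ≫ lam) ξ = x1
  generalize ev b (a ≫ lam) ξ = x2
  generalize ev a (b ≫ lam) ξ = x3
  generalize ev b (b ≫ lam) ξ = x4
  rw [mul_comm x3 x2, mul_assoc, mul_assoc, mul_assoc, mul_left_comm x1 x2, mul_left_comm x1 x3]

/-- For a polarisation. -/
theorem gr_mul_pol {lam : A ⟶ At} (hlam : AgPol.IsPolarization A At φ lam) {W : Over S} (a b : W ⟶ A) :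
    ev (a * b) ((a * b) ≫ lam) ξ =
      ev a (b ≫ (lam * lam)) ξ * ev a (a ≫ lam) ξ * ev b (b ≫ lam) ξ := by
  have := hlam.1
  rw [gr_mul hD h1 h2 h3, Fibre.symm hD h1 h2 h3 hlam a b, MonObj.comp_mul, Pair.ev_mul_right hD h1 h2 h3]

/-- The homomorphism attached to `(1, lam)^* P` is `2 lam`. -/
theorem isLambda {lam : A ⟶ At} (hlam : AgPol.IsPolarization A At φ lam) (L : A.left.Modules)
    (hL : PicF.IsInvertible L) (hLc : mk L hL = ev (𝟙 A) lam ξ) :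
    AgPol.IsLambda A At φ L (lam * lam) := by
  have := hlam.1
  obtain ⟨N, hN, hNn⟩ := exists_mk (ev (fst A A) (snd A A ≫ (lam * lam)) ξ)
  refine ⟨N, hN, ?_, ?_⟩
  · have e := gr_mul_pol hD h1 h2 h3 hlam (fst A A) (snd A A)
    have e2 : (μ[A] : A ⊗ A ⟶ A) = fst A A * snd A A := by
      rw [Hom.mul_def, lift_fst_snd, Category.id_comp]
    rw [← e2, ← gr_point, ← gr_point, ← gr_point, ← hLc, hNn, pull_mk (fst A A).left hL, pull_mk (snd A A).left hL,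
      pull_mk (μ[A]).left hL, mk_mul_mk, mk_mul_mk] at e
    obtain ⟨i⟩ := (mk_eq_iff _ _).mp e
    exact ⟨i.symm⟩
  · have e3 : ev (fst A A) (snd A A ≫ (lam * lam)) ξ = pull (PicF.XTmap A.hom (lam * lam)) ξ := by
      rw [← ev_XTmap, ev_univ]
    have e4 : φ A (PicF.cl N) = cm φ (pull (PicF.XTmap A.hom (lam * lam)) ξ) := by
      rw [← e3, hNn]
      rfl
    rw [e4, cm_pull hD _ h1, h3, Category.comp_id]

/-- `(1, lam ^ k)^* P = ((1, lam)^* P) ^ k`. -/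
theorem gr_pow (lam : A ⟶ At) (k : ℕ) {W : Over S} (a : W ⟶ A) :
    ev a (a ≫ (lam ^ k)) ξ = ev a (a ≫ lam) ξ ^ k := by
  induction k with
  | zero => rw [pow_zero, pow_zero, MonObj.comp_one, Pair.ev_one_right hD h1 h2 h3]
  | succ k ih => rw [pow_succ, MonObj.comp_mul, Pair.ev_mul_right hD h1 h2 h3, ih, pow_succ]

theorem ev_pow_right {W : Over S} (a : W ⟶ A) (y : W ⟶ At) (k : ℕ) : ev a (y ^ k) ξ = ev a y ξ ^ k := by
  induction k with
  | zero => rw [pow_zero, pow_zero, Pair.ev_one_right hD h1 h2 h3]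
  | succ k ih => rw [pow_succ, Pair.ev_mul_right hD h1 h2 h3, ih, pow_succ]

/-- If two polarisations have the same `(1, lam ^ k)^* P` then `2 k lam₁ = 2 k lam₂`. -/
theorem pow_eq {lam₁ lam₂ : A ⟶ At} (hl₁ : AgPol.IsPolarization A At φ lam₁)
    (hl₂ : AgPol.IsPolarization A At φ lam₂) (k : ℕ)
    (h : ev (𝟙 A) (lam₁ ^ k) ξ = ev (𝟙 A) (lam₂ ^ k) ξ) : lam₁ ^ (2 * k) = lam₂ ^ (2 * k) := by
  have key : ∀ {lam : A ⟶ At} (hl : AgPol.IsPolarization A At φ lam) {W : Over S} (a b : W ⟶ A),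
      ev a (b ≫ (lam ^ (2 * k))) ξ = ev (a * b) ((a * b) ≫ (lam ^ k)) ξ * (ev a (a ≫ (lam ^ k)) ξ)⁻¹ *
        (ev b (b ≫ (lam ^ k)) ξ)⁻¹ := by
    intro lam hl W a b
    have e1 := gr_mul_pol hD h1 h2 h3 hl a b
    rw [gr_pow hD h1 h2 h3, gr_pow hD h1 h2 h3, gr_pow hD h1 h2 h3, e1, MonObj.comp_pow,
      ev_pow_right hD h1 h2 h3, MonObj.comp_mul, Pair.ev_mul_right hD h1 h2 h3]
    refine Fibre.eq_of_mul ?_
    rw [mul_pow, mul_pow, mul_pow, pow_mul, sq, mul_pow]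
  have h4 : ∀ {W : Over S} (a : W ⟶ A), ev a (a ≫ (lam₁ ^ k)) ξ = ev a (a ≫ (lam₂ ^ k)) ξ := by
    intro W a
    rw [← gr_point, ← gr_point, h]
  have h5 : pull (PicF.XTmap A.hom (lam₁ ^ (2 * k))) ξ = pull (PicF.XTmap A.hom (lam₂ ^ (2 * k))) ξ := by
    rw [← ev_univ (pull (PicF.XTmap A.hom (lam₁ ^ (2 * k))) ξ),
      ← ev_univ (pull (PicF.XTmap A.hom (lam₂ ^ (2 * k))) ξ), ev_XTmap, ev_XTmap, key hl₁, key hl₂, h4, h4, h4]
  have h6 := congrArg (cm φ) h5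
  rwa [cm_pull hD _ h1, cm_pull hD _ h1, h3, Category.comp_id, Category.comp_id] at h6

end K814.Graph
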