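import Groth.Agent.AgPol.K814.Div
import Groth.Agent.AgPol.K814.Graph

/-!
# The closed subscheme of the base where a module is `(1, k lam)^* P` with `2 k lam` its attached homomorphism

`c` a class on the abelian scheme `A` over the locally Noetherian scheme `S`, `c(1) = 1`.

* `closed_tors` : the condition "`hom φ c` kills the `n`-torsion" is closed;
* `closed_main` : the condition "there is `χ : A ×_S T ⟶ At` with `χ(a ^ n, t) = hom φ c (a)` and
  `c(a) = P(a, χ(a, t) ^ k)`" is closed.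
-/

set_option autoImplicit false
universe u

open CategoryTheory Limits MonoidalCategory CartesianMonoidalCategory AlgebraicGeometry
open scoped MonObj

namespace K814.PolClosed

open Groth.Agent.Grpsch.PicGrp Groth.Agent.Fga.RigGrp K732.PicZero K732.Prim K732.Dual K732.CubeSec
open K814.MumHom K814.Div K528.MumZero

variable {S : Scheme.{u}} {A At : Over S} [GrpObj A] [IsCommMonObj A] [GrpObj At] [IsProper A.hom] [Flat A.hom]
  [LocallyOfFinitePresentation A.hom] [GeometricallyIntegral A.hom]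

omit [GrpObj At] in
/-- The torsion subscheme. -/
theorem exists_tors (n : ℕ) (hn : 1 ≤ n) (hfin : IsFinite (𝟙 A ^ n : A ⟶ A).left) :
    ∃ (Z : Over S) (i : Z ⟶ A), IsFinite Z.hom ∧ Flat Z.hom ∧ LocallyOfFinitePresentation Z.hom ∧ i ^ n = 1 ∧
      ∀ {W : Over S} (b : W ⟶ A), b ^ n = 1 → ∃ b' : W ⟶ Z, b' ≫ i = b := by
  obtain ⟨V, j, i, h1, h2, h3, h4, h5, h6⟩ := exists_cov_root n hn (1 : 𝟙_ (Over S) ⟶ A)
  have e : V.hom = j.left := by
    rw [← Over.w j]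
    exact Category.comp_id _
  refine ⟨V, i, ?_, ?_, ?_, ?_, ?_⟩
  · rw [e]
    exact h6 hfin
  · rw [e]
    exact h1
  · rw [e]
    exact h2
  · rw [h4, MonObj.comp_one]
  · intro W b hb
    obtain ⟨v, -, hv⟩ := h5 (toUnit W) b (by rw [hb, MonObj.comp_one])
    exact ⟨v, hv⟩

variable {φ : ∀ T : Over S, PicF.Cl (PicF.XT A.hom T) → (T ⟶ At)}
  (hD : AbDual.IsDualAV Scheme.fppfPrecoverage A At φ)

include hD

/-- The condition "`hom φ c` kills the `n`-torsion" is closed. -/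
theorem closed_tors [IsLocallyNoetherian S] {c : Pic A.left} (hc : pull (η[A] : 𝟙_ (Over S) ⟶ A).left c = 1)
    (n : ℕ) (hn : 1 ≤ n) (hfin : IsFinite (𝟙 A ^ n : A ⟶ A).left) :
    ∃ (S₁ : Scheme.{u}) (z : S₁ ⟶ S), IsClosedImmersion z ∧ ∀ T : Over S, IsLocallyNoetherian T.left →
      ((∃ h : T.left ⟶ S₁, h ≫ z = T.hom) ↔
        ∀ (W : Over S) (_ : W ⟶ T) (b : W ⟶ A), b ^ n = 1 → b ≫ hom φ c = 1) := by
  obtain ⟨Z, i, hZ1, hZ2, hZ3, hi, hZ⟩ := exists_tors (A := A) n hn hfin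
  have hZn : IsLocallyNoetherian Z.left := LocallyOfFiniteType.isLocallyNoetherian Z.hom
  obtain ⟨D, d, hd, HD⟩ := exists_closed_XT A Z (pull (PicF.XTmap A.hom i) (mumCl A c))
    (pull_mem _ (mum_mem_rg hc))
  obtain ⟨S₁, z, hz, H⟩ := ClosedCond.exists_closed Z.hom (𝟙 Z.left) d
  refine ⟨S₁, z, hz, fun T hT ↦ (H T.left T.hom).trans ?_⟩
  have hU : IsLocallyNoetherian (Z ⊗ T).left := by
    have h1 : LocallyOfFiniteType (snd Z T).left := inferInstanceAs (LocallyOfFiniteType (pullback.snd Z.hom T.hom))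
    exact LocallyOfFiniteType.isLocallyNoetherian (snd Z T).left
  have e1 : (∃ h : pullback Z.hom T.hom ⟶ D, h ≫ d = pullback.fst Z.hom T.hom ≫ 𝟙 Z.left) ↔
      (∃ h : (Z ⊗ T).left ⟶ D, h ≫ d = (fst Z T).left) := by
    rw [Category.comp_id]
    rfl
  refine e1.trans ((HD (Z ⊗ T) (fst Z T) hU).trans ?_)
  rw [← pull_comp, ← XTmap_comp, ← comp_hom_eq_one_iff hD hc]
  constructor
  · intro h W t b hb
    obtain ⟨b', rfl⟩ := hZ b hb
    have e2 := congrArg (lift b' t ≫ ·) h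
    simpa using e2
  · intro h
    exact h _ (snd Z T) _ (by rw [← MonObj.comp_pow, hi, MonObj.comp_one])

variable {ξ : Pic (PicF.XT A.hom At)} (h1 : ξ ∈ pz A.hom At) (h2 : ξ ∈ rg A At) (h3 : cm φ ξ = 𝟙 At)

include h1 h2 h3

/-- **The closed subscheme.** -/
theorem closed_main [IsLocallyNoetherian S] {c : Pic A.left} (hc : pull (η[A] : 𝟙_ (Over S) ⟶ A).left c = 1)
    (n k : ℕ) (hn : 1 ≤ n) (hfin : IsFinite (𝟙 A ^ n : A ⟶ A).left) :
    ∃ (S₀ : Scheme.{u}) (z : S₀ ⟶ S), IsClosedImmersion z ∧ ∀ T : Over S, IsLocallyNoetherian T.left →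
      ((∃ h : T.left ⟶ S₀, h ≫ z = T.hom) ↔
        ∃ χ : A ⊗ T ⟶ At, lift (fst A T ^ n) (snd A T) ≫ χ = fst A T ≫ hom φ c ∧
          pull (fst A T).left c = ev (fst A T) (χ ^ k) ξ) := by
  have hmon : IsMonHom (hom φ c) := isMonHom_hom hD hc
  obtain ⟨S₁, z₁, hz₁, H₁⟩ := closed_tors hD hc n hn hfin
  let T₀ : Over S := Over.mk z₁
  have hT₀ : IsLocallyNoetherian T₀.left := LocallyOfFiniteType.isLocallyNoetherian z₁
  obtain ⟨χ₁, hχ₁⟩ := exists_div n hn (hom φ c) T₀ ((H₁ T₀ hT₀).1 ⟨𝟙 _, Category.id_comp _⟩)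
  have hχone : ∀ {W : Over S} (t : W ⟶ T₀), lift (1 : W ⟶ A) t ≫ χ₁ = 1 := by
    intro W t
    have h := hχ₁ W 1 t
    rw [one_pow, MonObj.one_comp] at h
    exact h
  let M : Pic (PicF.XT A.hom T₀) := pull (fst A T₀).left c * (ev (fst A T₀) (χ₁ ^ k) ξ)⁻¹
  have hM : ∀ {W : Over S} (a : W ⟶ A) (t : W ⟶ T₀),
      ev a t M = pull a.left c * (ev a ((lift a t ≫ χ₁) ^ k) ξ)⁻¹ := by
    intro W a t
    have e1 : ev a t (pull (fst A T₀).left c) = pull a.left c := by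
      rw [ev_def, ← pull_comp, ← Over.comp_left, lift_fst]
    have e2 : ev a t (ev (fst A T₀) (χ₁ ^ k) ξ) = ev a ((lift a t ≫ χ₁) ^ k) ξ := by
      rw [ev_def, pull_ev, lift_fst, MonObj.comp_pow]
    rw [map_mul, map_inv, e1, e2]
  have hMrg : M ∈ rg A T₀ := by
    rw [mem_rg_iff, hM, pull_one_left c hc, _root_.one_mul, hχone, one_pow, ev_one_of_mem h2, inv_one]
  obtain ⟨S₀, z₂, hz₂, H₂⟩ := exists_closed_XT A T₀ M hMrg
  refine ⟨S₀, z₂ ≫ z₁, inferInstance, fun T hT ↦ ⟨?_, ?_⟩⟩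
  · rintro ⟨h, hh⟩
    let u : T ⟶ T₀ := Over.homMk (h ≫ z₂) (by
      change (h ≫ z₂) ≫ z₁ = T.hom
      rw [Category.assoc, hh])
    have h4 := (H₂ T u hT).1 ⟨h, rfl⟩
    refine ⟨lift (fst A T) (snd A T ≫ u) ≫ χ₁, ?_, ?_⟩
    · rw [← hχ₁ _ (fst A T) (snd A T ≫ u), ← Category.assoc, comp_lift, lift_fst, lift_snd_assoc]
    · have h5 := congrArg (ev (fst A T) (snd A T)) h4
      rw [ev_XTmap, hM, map_one, mul_inv_eq_one] at h5
      exact h5
  · rintro ⟨χ, hχ, hχ'⟩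
    have hχW : ∀ {W : Over S} (a : W ⟶ A) (t : W ⟶ T), lift (a ^ n) t ≫ χ = a ≫ hom φ c := by
      intro W a t
      have h4 := congrArg (lift a t ≫ ·) hχ
      rw [← Category.assoc, ← Category.assoc, comp_lift, lift_fst, lift_snd, MonObj.comp_pow, lift_fst] at h4
      exact h4
    obtain ⟨h, hh⟩ := (H₁ T hT).2 (fun W t b hb ↦ by
      rw [← hχW b t, hb, ← one_pow n, hχW, MonObj.one_comp])
    let u : T ⟶ T₀ := Over.homMk h hh
    have huniq : χ = lift (fst A T) (snd A T ≫ u) ≫ χ₁ := by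
      refine div_ext n hn fun W a t ↦ ?_
      rw [hχW, ← Category.assoc, comp_lift, lift_fst, lift_snd_assoc, hχ₁]
    obtain ⟨u', hu'⟩ := (H₂ T u hT).2 (by
      rw [← ev_univ (pull (PicF.XTmap A.hom u) M), ev_XTmap, hM, ← huniq, mul_inv_eq_one]
      exact hχ')
    refine ⟨u', ?_⟩
    rw [← Category.assoc, hu']
    exact hh

end K814.PolClosed
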