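import Groth.Agent.AgPol.K814.PrimGeom
import Groth.Agent.AbDual.K732.AV
import Groth.Agent.AbVar.K513.Lam
import Groth.Prelude.Def_AgPol

/-!
# The Poincaré pairing of an abelian scheme over any base

`P(a, y) = ev a y ξ` for points `a` of `A` and `y` of the dual `At`.

* `ev_mul_left`, `ev_mul_right` : bilinearity;
* `fibre` : on a geometric fibre, if `lam` is the homomorphism attached to the class `m` then
  `P(a, lam b) = m(a b) m(a)⁻¹ m(b)⁻¹`;
* `symm` : for a polarisation `lam`, `P(a, lam b) = P(b, lam a)`.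
-/

set_option autoImplicit false
universe u

open CategoryTheory Limits MonoidalCategory CartesianMonoidalCategory AlgebraicGeometry
open scoped MonObj

namespace K814.Pair

open Groth.Agent.Grpsch.PicGrp Groth.Agent.Fga.RigGrp K732.PicZero K732.Prim K732.Dual K732.CubeSec K814.PrimGeom

variable {S : Scheme.{u}} {A At : Over S} [GrpObj A] [GrpObj At] [IsProper A.hom] [Flat A.hom]
  [LocallyOfFinitePresentation A.hom] [GeometricallyIntegral A.hom]
  {φ : ∀ T : Over S, PicF.Cl (PicF.XT A.hom T) → (T ⟶ At)}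
  (hD : AbDual.IsDualAV Scheme.fppfPrecoverage A At φ)
  {ξ : Pic (PicF.XT A.hom At)} (h1 : ξ ∈ pz A.hom At) (h2 : ξ ∈ rg A At) (h3 : cm φ ξ = 𝟙 At)

include h1 h2 in
theorem ev_mul_left {W : Over S} (a b : W ⟶ A) (y : W ⟶ At) : ev (a * b) y ξ = ev a y ξ * ev b y ξ :=
  PrimGeom.prim h1 h2 a b y

include hD h1 h2 h3

theorem ev_mul_right {W : Over S} (a : W ⟶ A) (y z : W ⟶ At) : ev a (y * z) ξ = ev a y ξ * ev a z ξ := by
  have e1 : pull (PicF.XTmap A.hom (y * z)) ξ = pull (PicF.XTmap A.hom y) ξ * pull (PicF.XTmap A.hom z) ξ := by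
    refine cm_inj hD (bijective_XTproj A.hom) (pull_XTmap_mem _ h1)
      (mul_mem (pull_XTmap_mem _ h1) (pull_XTmap_mem _ h1)) (pull_mem _ h2)
      (mul_mem (pull_mem _ h2) (pull_mem _ h2)) ?_
    rw [cm_mul hD (pull_XTmap_mem _ h1) (pull_XTmap_mem _ h1), cm_pull hD _ h1, cm_pull hD _ h1, cm_pull hD _ h1,
      h3, Category.comp_id, Category.comp_id, Category.comp_id]
  have e2 := ev_XTmap a (𝟙 W) (y * z) ξ
  rw [e1, map_mul, ev_XTmap, ev_XTmap, Category.id_comp, Category.id_comp, Category.id_comp] at e2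
  exact e2.symm

theorem ev_one_right {W : Over S} (a : W ⟶ A) : ev a (1 : W ⟶ At) ξ = 1 := by
  have h := ev_mul_right hD h1 h2 h3 a (1 : W ⟶ At) 1
  rw [_root_.one_mul] at h
  exact mul_eq_left.1 h.symm

end K814.Pair
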