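import Groth.Agent.AgPol.K814.GamG
import Groth.Agent.AgPol.K814.MumHom

/-!
# The homomorphism attached to a relatively ample class is finite flat of rank `h⁰(L)²`

* `hom_base` : `hom φ (ℓ · π^* n) = hom φ ℓ`;
* `main` : `hom φ [L]` is finite flat surjective of rank `h⁰(L)²`, `L` fibrewise ample.
-/

set_option autoImplicit false
universe u

open CategoryTheory CategoryTheory.Limits MonoidalCategory CartesianMonoidalCategory AlgebraicGeometry
open scoped MonObj
open Groth.Agent Groth.Agent.Grpsch.PicGrp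
open K732.BC K732.Prim K732.Dual K732.CubeSec K732.PicZero Groth.Agent.Fga.RigGrp K528.MumZero
open K814.GamCP K814.GamBase K814.GamN K814.GamG K814.MumHom

namespace K814.HomDeg

variable {S : Scheme.{u}} {A At : Over S} [GrpObj A] [GrpObj At]

theorem FA_base {X : Scheme.{u}} {f : X ⟶ S} {ℓ : Pic X} (h : FA f ℓ) (n : Pic S) : FA f (ℓ * pull f n) := by
  intro Ω _ _ τ X' a p H
  obtain ⟨M, hM, e⟩ := h Ω τ X' a p H
  refine ⟨M, hM, ?_⟩
  have h1 : pull a (pull f n) = 1 := by
    rw [← pull_comp, H.w, pull_comp]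
    have : pull τ n = 1 := pic_spec_local Ω _
    rw [this, map_one]
  rw [e, map_mul, h1, mul_one]

theorem pull_base {X Y : Over S} (f : X ⟶ Y) (n : Pic S) : pull f.left (pull Y.hom n) = pull X.hom n := by
  rw [← pull_comp, Over.w]

theorem mumP_base (ℓ : Pic A.left) (n : Pic S) : mumP (ℓ * pull A.hom n) = mumP ℓ * (pull (A ⊗ A).hom n)⁻¹ := by
  rw [mumP, mumP, map_mul, map_mul, map_mul, pull_base, pull_base, pull_base]
  generalize pull (fst A A * snd A A).left ℓ = x
  generalize pull (fst A A).left ℓ = y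
  generalize pull (snd A A).left ℓ = z
  generalize pull (A ⊗ A).hom n = w
  rw [mul_inv, mul_inv]
  have : x * w * (y⁻¹ * w⁻¹) * (z⁻¹ * w⁻¹) = x * y⁻¹ * z⁻¹ * w⁻¹ * (w * w⁻¹) := by
    simp only [mul_assoc, mul_left_comm, mul_comm]
  rw [this, mul_inv_cancel, mul_one]

theorem fiberRank_base {X : Scheme.{u}} (f : X ⟶ S) [IsProper f] {L L' : X.Modules} (hL : PicF.IsInvertible L)
    (hL' : PicF.IsInvertible L') (n : Pic S) (h : mk L' hL' = mk L hL * pull f n) (i : ℕ) (s : S) :
    CohIII.fiberRank f L' i s = CohIII.fiberRank f L i s := by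
  obtain ⟨Ω, _, _, τ, rfl⟩ := K814.GamFib.exists_geom s
  have H := IsPullback.of_hasPullback f τ
  rw [K814.GamFib.fiberRank_eq f hL τ _ _ H, K814.GamFib.fiberRank_eq f hL' τ _ _ H, h, map_mul]
  have h1 : pull (pullback.fst f τ) (pull f n) = 1 := by
    rw [← pull_comp, H.w, pull_comp]
    have : pull τ n = 1 := pic_spec_local Ω _
    rw [this, map_one]
  rw [h1, mul_one]

variable [IsProper A.hom] [Smooth A.hom] [GeometricallyIntegral A.hom]
  {φ : ∀ T : Over S, PicF.Cl (PicF.XT A.hom T) → (T ⟶ At)}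
  (hD : AbDual.IsDualAV Scheme.fppfPrecoverage A At φ)

include hD

omit [Smooth A.hom] in
theorem hom_base (ℓ : Pic A.left) (n : Pic S) : hom φ (ℓ * pull A.hom n) = hom φ ℓ := by
  have h : mumCl A (ℓ * pull A.hom n) = mumCl A ℓ * pull (PicF.XTproj A.hom A) (pull A.hom n)⁻¹ := by
    rw [mumCl_eq, mumCl_eq, mumP_base, map_inv]
    congr 2
    exact (pull_base (snd A A) n).symm
  rw [hom, h, cm_mul hD (mum_pz ℓ) (pull_XTproj_mem _), cm_base hD, mul_one]
  rfl

/-- The case of a rigidified class. -/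
theorem main_rig [IsLocallyNoetherian S] {L : A.left.Modules} (hL : PicF.IsInvertible L) (hFA : FA A.hom (mk L hL))
    (hη : pull η[A].left (mk L hL) = 1) :
    IsFinite (hom φ (mk L hL)).left ∧ Flat (hom φ (mk L hL)).left ∧
      LocallyOfFinitePresentation (hom φ (mk L hL)).left ∧ Function.Surjective (hom φ (mk L hL)).left ∧
      ∀ y, (hom φ (mk L hL)).left.finrank y = (CohIII.fiberRank A.hom L 0 (At.hom y)) ^ 2 := by
  obtain ⟨ξ, h1, h2, h3⟩ := exists_poinc hD (bijective_XTproj A.hom)
  obtain ⟨Γ, i, hi, hi', hΓ⟩ := exists_gam hη h2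
  obtain ⟨g1, g2, g3, g4⟩ := K814.GamG.main hL hη hFA i h1 h2 hΓ
  have g5 := K814.GamG.locallyOfFinitePresentation (i := i)
  -- the points of `Γ`
  have key : ∀ {W : Over S} (a : W ⟶ A) (g : W ⟶ At), (∃ w : W ⟶ Γ, w ≫ i = lift a g) ↔ a ≫ hom φ (mk L hL) = g := by
    intro W a g
    rw [hΓ]
    have e1 : cm φ (pull (PicF.XTmap A.hom a) (mumCl A (mk L hL))) = a ≫ hom φ (mk L hL) :=
      (comp_hom hD _ a).symm
    have e2 : cm φ (pull (PicF.XTmap A.hom g) ξ) = g := by
      rw [cm_pull hD _ h1, h3, Category.comp_id]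
    rw [← mumCl_eq]
    constructor
    · intro h
      rw [← e1, ← e2]
      exact congrArg (cm φ) h
    · intro h
      refine cm_inj hD (bijective_XTproj A.hom) (pull_XTmap_mem _ (mum_pz _)) (pull_XTmap_mem _ h1)
        (pull_mem _ (mum_mem_rg hη)) (pull_mem _ h2) ?_
      exact e1.trans (h.trans e2.symm)
  obtain ⟨w, hw⟩ := (key (𝟙 A) (hom φ (mk L hL))).2 (Category.id_comp _)
  have hv : (i ≫ fst A At) ≫ hom φ (mk L hL) = i ≫ snd A At := (key _ _).1 ⟨𝟙 Γ, by
    rw [Category.id_comp]
    ext1 <;> simp⟩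
  have m1 : Mono i := by
    have : Mono i.left := inferInstance
    exact Over.mono_of_mono_left i
  have hwi : IsIso w := ⟨i ≫ fst A At, by rw [← Category.assoc, hw, lift_fst], by
    rw [← cancel_mono i, Category.assoc, Category.assoc, hw, Category.id_comp]
    ext1
    · rw [Category.assoc, Category.assoc, lift_fst, Category.comp_id]
    · rw [Category.assoc, Category.assoc, lift_snd, ← Category.assoc, hv]⟩
  have hwl : IsIso w.left := inferInstanceAs (IsIso ((Over.forget S).map w))
  have hlam : hom φ (mk L hL) = w ≫ i ≫ snd A At := by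
    rw [← Category.assoc, hw, lift_snd]
  have H : IsPullback w.left (hom φ (mk L hL)).left (i ≫ snd A At).left (𝟙 _) := by
    refine IsPullback.of_horiz_isIso ⟨?_⟩
    rw [Category.comp_id, ← Over.comp_left, ← hlam]
  refine ⟨MorphismProperty.of_isPullback (P := @IsFinite) H g1, MorphismProperty.of_isPullback (P := @Flat) H g2,
    MorphismProperty.of_isPullback (P := @LocallyOfFinitePresentation) H g5, ?_, fun y => ?_⟩
  · have : Surjective (i ≫ snd A At).left := ⟨g3⟩
    exact (MorphismProperty.of_isPullback (P := @Surjective) H this).surj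
  · rw [Scheme.Hom.finrank_of_isPullback _ _ _ _ H y, g4]
    rfl

/-- **The homomorphism attached to a fibrewise ample class is finite flat surjective of rank `h⁰(L)²`.** -/
theorem main [IsLocallyNoetherian S] {L : A.left.Modules} (hL : PicF.IsInvertible L) (hFA : FA A.hom (mk L hL)) :
    IsFinite (hom φ (mk L hL)).left ∧ Flat (hom φ (mk L hL)).left ∧
      LocallyOfFinitePresentation (hom φ (mk L hL)).left ∧ Function.Surjective (hom φ (mk L hL)).left ∧
      ∀ y, (hom φ (mk L hL)).left.finrank y = (CohIII.fiberRank A.hom L 0 (At.hom y)) ^ 2 := by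
  let n : Pic S := (pull η[A].left (mk L hL))⁻¹
  obtain ⟨L', hL', e⟩ := exists_mk (mk L hL * pull A.hom n)
  have hη : pull η[A].left (mk L' hL') = 1 := by
    rw [← e, map_mul]
    have h1 : pull η[A].left (pull A.hom n) = n := by
      rw [← pull_comp]
      have h2 : η[A].left ≫ A.hom = 𝟙 S := Over.w η[A]
      exact (congrArg (fun f => pull f n) h2).trans (pull_id n)
    rw [h1]
    exact mul_inv_cancel _
  have h := main_rig hD hL' (by rw [← e]; exact FA_base hFA n) hη
  rw [← e, hom_base hD] at h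
  simp only [fiberRank_base A.hom hL hL' n e.symm] at h
  exact h

end K814.HomDeg
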