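import Groth.Agent.Grpsch.MulFin
import Groth.Agent.Grpsch.MulFinFlat
import Groth.Agent.Grpsch.AbBC
import Groth.Agent.AbSch.K449.FlatHom
import Groth.Agent.AgPol.K814.AbBasic

/-!
# Multiplication by a positive integer on an abelian scheme is flat, surjective and an epimorphism
-/

set_option autoImplicit false
universe u

open CategoryTheory Limits MonoidalCategory CartesianMonoidalCategory AlgebraicGeometry
open scoped MonObj

namespace K814.MulEpi

variable {S : Scheme.{u}} (A : Over S) [GrpObj A] [IsProper A.hom] [GeometricallyIntegral A.hom]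

/-- `[n]` is surjective. -/
theorem surjective_pow (n : ℕ) (hn : 1 ≤ n) : Surjective (𝟙 A ^ n : A ⟶ A).left := by
  refine ⟨fun a => ?_⟩
  let t : Spec (CommRingCat.of (S.residueField (A.hom a))) ⟶ S := S.fromSpecResidueField (A.hom a)
  let : GrpObj ((Over.pullback t).obj A) := Functor.grpObjObj
  have i1 : IsProper ((Over.pullback t).obj A).hom := inferInstanceAs (IsProper (pullback.snd A.hom t))
  have i2 : GeometricallyIntegral ((Over.pullback t).obj A).hom :=
    inferInstanceAs (GeometricallyIntegral (pullback.snd A.hom t))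
  have h1 := Groth.Agent.Grpsch.MulFin.surjective_pow ((Over.pullback t).obj A) n hn
  obtain ⟨z, hz⟩ : ∃ z : ↥((Over.pullback t).obj A).left, pullback.fst A.hom t z = a := by
    have h2 : A.hom a ∈ Set.range t := by
      rw [Scheme.range_fromSpecResidueField]
      rfl
    obtain ⟨p, hp⟩ := h2
    obtain ⟨z, hz, -⟩ := Scheme.Pullback.exists_preimage_pullback (f := A.hom) (g := t) a p hp.symm
    exact ⟨z, hz⟩
  obtain ⟨w, hw⟩ := h1.surj z
  refine ⟨pullback.fst A.hom t w, ?_⟩
  have h3 := (Groth.Agent.Grpsch.AbBC.isPullback_pullback_map t (𝟙 A ^ n : A ⟶ A)).w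
  have h4 : (Over.pullback t).map (𝟙 A ^ n : A ⟶ A) = 𝟙 ((Over.pullback t).obj A) ^ n := by
    have := Groth.Agent.Grpsch.AbBC.map_zpow_one t A (n : ℤ)
    rwa [zpow_natCast, zpow_natCast] at this
  rw [h4] at h3
  rw [← Scheme.Hom.comp_apply, ← h3, Scheme.Hom.comp_apply, hw, hz]

omit [IsProper A.hom] [GeometricallyIntegral A.hom] in
theorem isMonHom_pow [IsCommMonObj A] (n : ℕ) : IsMonHom (𝟙 A ^ n : A ⟶ A) := by
  have h := Groth.Agent.Grpsch.MulFinFlat.isMonHom_zpow (𝟙 A) (n : ℤ)
  rwa [zpow_natCast] at h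

/-- `[n]` is flat. -/
theorem flat_pow [IsCommMonObj A] [Flat A.hom] [LocallyOfFinitePresentation A.hom] (n : ℕ) (hn : 1 ≤ n) :
    Flat (𝟙 A ^ n : A ⟶ A).left := by
  have := surjective_pow A n hn
  have := isMonHom_pow A n
  have := K814.AbBasic.isProper_left A (𝟙 A ^ n : A ⟶ A)
  exact K449.FlatHom.flat_of_surjective (𝟙 A ^ n : A ⟶ A)

/-- `[n]` is an epimorphism. -/
theorem epi_pow [IsCommMonObj A] [Flat A.hom] [LocallyOfFinitePresentation A.hom] (n : ℕ) (hn : 1 ≤ n) :
    Epi (𝟙 A ^ n : A ⟶ A) := by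
  have h1 := surjective_pow A n hn
  have h2 := flat_pow A n hn
  have h3 : Epi (𝟙 A ^ n : A ⟶ A).left := Flat.epi_of_flat_of_surjective _
  exact (Over.forget S).epi_of_epi_map h3

/-- Homomorphisms with the same `n`-th power are equal. -/
theorem eq_of_pow_eq [IsCommMonObj A] [Flat A.hom] [LocallyOfFinitePresentation A.hom] {B : Over S} [GrpObj B]
    {f g : A ⟶ B} [IsMonHom f] [IsMonHom g] (n : ℕ) (hn : 1 ≤ n) (h : f ^ n = g ^ n) : f = g := by
  have := epi_pow A n hn
  have key : ∀ (f : A ⟶ B) [IsMonHom f], (𝟙 A ^ n : A ⟶ A) ≫ f = f ^ n := by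
    intro f _
    rw [MonObj.pow_comp, Category.id_comp]
  rw [← cancel_epi (𝟙 A ^ n : A ⟶ A), key, key, h]

end K814.MulEpi
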