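import Groth.Agent.AgPol.K814.PolClosed

/-!
# Homomorphisms over `T` and families of homomorphisms

`lam : A_T ⟶ At_T` over `T` corresponds to `χ : A ×_S T ⟶ At` over `S`.
-/

set_option autoImplicit false
universe u

open CategoryTheory Limits MonoidalCategory CartesianMonoidalCategory AlgebraicGeometry
open scoped MonObj

namespace K814.PolTrans

open Groth.Agent.Grpsch.PicGrp Groth.Agent.Fga.RigGrp K732.PicZero K732.Prim K732.Dual K732.CubeSec
open K814.MumHom K814.Div K528.MumZero K732.BC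

variable {S : Scheme.{u}}

section iso

variable (A T : Over S)

/-- The projection of `A_T`, regarded over `S`, to `T`. -/
noncomputable abbrev pT : dn T.hom (Red.bc T.hom A) ⟶ T := Over.homMk (pullback.snd A.hom T.hom) rfl

/-- The comparison. -/
noncomputable abbrev eh : dn T.hom (Red.bc T.hom A) ⟶ A ⊗ T := lift (prj T.hom A) (pT A T)

lemma eh_fst : eh A T ≫ fst A T = prj T.hom A := lift_fst _ _

lemma eh_snd : eh A T ≫ snd A T = pT A T := lift_snd _ _

/-- Its inverse. -/
noncomputable abbrev ei : A ⊗ T ⟶ dn T.hom (Red.bc T.hom A) :=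
  Over.homMk (pullback.lift (fst A T).left (snd A T).left ((Over.w (fst A T)).trans (Over.w (snd A T)).symm)) (by
    change pullback.lift (fst A T).left (snd A T).left _ ≫ pullback.snd A.hom T.hom ≫ T.hom = (A ⊗ T).hom
    rw [pullback.lift_snd_assoc, Over.w])

lemma ei_prj : ei A T ≫ prj T.hom A = fst A T := by
  ext1
  exact pullback.lift_fst _ _ _

lemma ei_pT : ei A T ≫ pT A T = snd A T := by
  ext1
  exact pullback.lift_snd _ _ _

variable {A T}

lemma ext_dn {W : Over S} {a b : W ⟶ dn T.hom (Red.bc T.hom A)} (h1 : a ≫ prj T.hom A = b ≫ prj T.hom A)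
    (h2 : a ≫ pT A T = b ≫ pT A T) : a = b := by
  ext1
  apply pullback.hom_ext
  · exact congrArg CommaMorphism.left h1
  · exact congrArg CommaMorphism.left h2

variable (A T)

lemma ei_eh : ei A T ≫ eh A T = 𝟙 _ := by
  ext1
  · rw [Category.assoc, eh_fst, ei_prj, Category.id_comp]
  · rw [Category.assoc, eh_snd, ei_pT, Category.id_comp]

lemma eh_ei : eh A T ≫ ei A T = 𝟙 _ := by
  apply ext_dn
  · rw [Category.assoc, ei_prj, eh_fst, Category.id_comp]
  · rw [Category.assoc, ei_pT, eh_snd, Category.id_comp]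

variable {A T}

lemma dnMap_up_pT {U : Over T.left} (a : dn T.hom U ⟶ A) :
    dnMap T.hom (up a) ≫ pT A T = (Over.homMk U.hom rfl : dn T.hom U ⟶ T) := by
  ext1
  exact Over.w (up a)

lemma up_pow [GrpObj A] {U : Over T.left} (a : dn T.hom U ⟶ A) (n : ℕ) : up (a ^ n) = up a ^ n := by
  induction n with
  | zero => rw [pow_zero, pow_zero, up_one]
  | succ n ih => rw [pow_succ, pow_succ, up_mul, ih]

/-- Composition of a point with the morphism attached to a family. -/
lemma up_comp_fam {At : Over S} (χ : A ⊗ T ⟶ At) {U : Over T.left} (a : dn T.hom U ⟶ A) :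
    up a ≫ up (eh A T ≫ χ) = up (lift a (Over.homMk U.hom rfl : dn T.hom U ⟶ T) ≫ χ) := by
  rw [comp_up, ← Category.assoc, comp_lift, dnMap_up_prj, dnMap_up_pT]

end iso

section main

variable {A At : Over S} [GrpObj A] [IsCommMonObj A] [GrpObj At] [IsProper A.hom] [Flat A.hom]
  [LocallyOfFinitePresentation A.hom] [GeometricallyIntegral A.hom]
  {φ : ∀ T : Over S, PicF.Cl (PicF.XT A.hom T) → (T ⟶ At)}
  (hD : AbDual.IsDualAV Scheme.fppfPrecoverage A At φ)

include hD

/-- **Translation.** -/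
theorem trans (T : Over S) {c : Pic A.left} (hc : pull (η[A] : 𝟙_ (Over S) ⟶ A).left c = 1) (n k : ℕ) (hn : 1 ≤ n)
    (ξ : Pic (PicF.XT A.hom At)) :
    (∃ χ : A ⊗ T ⟶ At, lift (fst A T ^ n) (snd A T) ≫ χ = fst A T ≫ hom φ c ∧
      pull (fst A T).left c = ev (fst A T) (χ ^ k) ξ) ↔
    ∃ lam : Red.bc T.hom A ⟶ Red.bc T.hom At, IsMonHom lam ∧ lam ^ n = (Over.pullback T.hom).map (hom φ c) ∧
      pull (pullback.fst A.hom T.hom) c = ev (𝟙 (Red.bc T.hom A)) (lam ^ k) (bcXi T.hom A At ξ) := by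
  have hmon : IsMonHom (hom φ c) := isMonHom_hom hD hc
  constructor
  · rintro ⟨χ, hχ, hχ'⟩
    have hχW : ∀ {W : Over S} (a : W ⟶ A) (t : W ⟶ T), lift (a ^ n) t ≫ χ = a ≫ hom φ c := by
      intro W a t
      have h4 := congrArg (lift a t ≫ ·) hχ
      rw [← Category.assoc, ← Category.assoc, comp_lift, lift_fst, lift_snd, MonObj.comp_pow, lift_fst] at h4
      exact h4
    have hm : IsMonHom (up (eh A T ≫ χ) : Red.bc T.hom A ⟶ Red.bc T.hom At) := by
      refine K732.Bidual.isMonHom_of_mul _ fun W a b ↦ ?_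
      obtain ⟨a, rfl⟩ := exists_up a
      obtain ⟨b, rfl⟩ := exists_up b
      rw [← up_mul, up_comp_fam, up_comp_fam, up_comp_fam, div_mul n hn (hom φ c) (fun W a t ↦ hχW a t), up_mul]
    refine ⟨up (eh A T ≫ χ), hm, ?_, ?_⟩
    · have e1 : (up (eh A T ≫ χ) : Red.bc T.hom A ⟶ Red.bc T.hom At) ^ n =
          (𝟙 (Red.bc T.hom A) ^ n) ≫ up (eh A T ≫ χ) := by
        rw [MonObj.pow_comp, Category.id_comp]
      rw [e1, ← up_prj, ← up_pow, up_comp_fam, hχW, up_comp, up_prj, Category.id_comp]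
    · rw [← up_pow, ← up_prj, ev_bcXi, ← MonObj.comp_pow, ← eh_fst, ← pull_ev, ← hχ', ← pull_comp, ← Over.comp_left,
        eh_fst]
      rfl
  · rintro ⟨lam, hm, hl, hl'⟩
    obtain ⟨y, rfl⟩ := exists_up lam
    refine ⟨ei A T ≫ y, ?_, ?_⟩
    · have he : Epi (eh A T) := ⟨fun f g h ↦ by
        rw [← Category.id_comp f, ← ei_eh, Category.assoc, h, ← Category.assoc, ei_eh, Category.id_comp]⟩
      rw [← cancel_epi (eh A T)]
      refine up_inj (k := T.hom) ?_
      have e1 : eh A T ≫ lift (fst A T ^ n) (snd A T) ≫ ei A T ≫ y = dnMap T.hom (up (prj T.hom A ^ n)) ≫ y := by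
        rw [← Category.assoc, ← Category.assoc]
        congr 1
        apply ext_dn
        · rw [dnMap_up_prj, Category.assoc, ei_prj, Category.assoc, lift_fst, MonObj.comp_pow, eh_fst]
        · rw [dnMap_up_pT, Category.assoc, ei_pT, Category.assoc, lift_snd, eh_snd]
          rfl
      rw [e1, ← comp_up, up_pow, up_prj, MonObj.pow_comp, Category.id_comp, hl, ← Category.assoc, eh_fst, up_comp,
        up_prj, Category.id_comp]
    · rw [← up_pow, ← up_prj, ev_bcXi] at hl'
      have h5 := congrArg (pull (ei A T).left) hl'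
      rw [pull_ev, ei_prj, MonObj.comp_pow, ← pull_comp] at h5
      refine Eq.trans ?_ h5
      congr 2
      exact (congrArg CommaMorphism.left (ei_prj A T)).symm

end main

end K814.PolTrans
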