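import Groth.Prelude.Def_SGA3x
import Groth.Agent.S4101

/-!
# Closed conditions on the base: coincidence of a closed subscheme of a finite locally free scheme
-/

set_option autoImplicit false
universe u

open CategoryTheory CategoryTheory.Limits AlgebraicGeometry

namespace K814.ClosedCond

/-- A finite locally free morphism is essentially free. -/
theorem isEssentiallyFree {X S : Scheme.{u}} (f : X ⟶ S) [IsFinite f] [Flat f]
    [LocallyOfFinitePresentation f] : SGA3x.IsEssentiallyFree f := by
  intro s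
  obtain ⟨U, hU, hsU, -⟩ := exists_isAffineOpen_mem_and_subset (U := ⊤) (x := s) (by trivial)
  have hUa : IsAffine U.toScheme := hU
  have : IsAffine (pullback f (𝟙 _ ≫ U.ι)) := isAffine_of_isAffineHom (pullback.snd f (𝟙 _ ≫ U.ι))
  refine ⟨U, hsU, hU, U.toScheme, hUa, 𝟙 _, inferInstance, inferInstance,
    fun x => ⟨⊤, trivial, isAffineOpen_top _, ?_⟩⟩
  set φ := (⊤ : (pullback f (𝟙 _ ≫ U.ι)).Opens).ι ≫ pullback.snd f (𝟙 _ ≫ U.ι) with hφ
  have hA : IsAffine (⊤ : (pullback f (𝟙 _ ≫ U.ι)).Opens).toScheme := isAffineOpen_top _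
  have hI : IsIso (⊤ : (pullback f (𝟙 _ ≫ U.ι)).Opens).ι :=
    inferInstanceAs (IsIso (Scheme.topIso (pullback f (𝟙 _ ≫ U.ι))).hom)
  have hF : IsFinite φ := by rw [hφ]; infer_instance
  have h1 : φ.appTop.hom.Finite := φ.finite_appTop
  have h2 : φ.appTop.hom.Flat := φ.flat_appTop
  have h3 : φ.appTop.hom.FinitePresentation := φ.finitePresentation_appTop
  algebraize [φ.appTop.hom]
  have : Module.FinitePresentation Γ(U.toScheme, ⊤) Γ((⊤ : (pullback f (𝟙 _ ≫ U.ι)).Opens).toScheme, ⊤) :=
    Module.FinitePresentation.of_finite_of_finitePresentation _ _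
  exact Module.Flat.projective_of_finitePresentation

/-- A morphism factors through a closed immersion if and only if it factors through the closed subscheme of its
kernel. -/
theorem factors_ker_iff {Z S T : Scheme.{u}} (i : Z ⟶ S) [IsClosedImmersion i] (g : T ⟶ S) :
    (∃ t : T ⟶ i.ker.subscheme, t ≫ i.ker.subschemeι = g) ↔ ∃ t : T ⟶ Z, t ≫ i = g := by
  constructor
  · rintro ⟨t, rfl⟩
    refine ⟨t ≫ IsClosedImmersion.lift i i.ker.subschemeι (by simp), ?_⟩
    rw [Category.assoc, IsClosedImmersion.lift_fac]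
  · rintro ⟨t, rfl⟩
    refine ⟨t ≫ IsClosedImmersion.lift i.ker.subschemeι i (by simp), ?_⟩
    rw [Category.assoc, IsClosedImmersion.lift_fac]

/-- The closed condition "`p_T : W_T ⟶ W` followed by `m : W ⟶ E` factors through the closed immersion `d : D ⟶ E`",
for `W` finite locally free over `S`. -/
theorem exists_closed {S W E D : Scheme.{u}} (w : W ⟶ S) [IsFinite w] [Flat w] [LocallyOfFinitePresentation w]
    (m : W ⟶ E) (d : D ⟶ E) [IsClosedImmersion d] :
    ∃ (Z : Scheme.{u}) (z : Z ⟶ S), IsClosedImmersion z ∧ ∀ (T : Scheme.{u}) (g : T ⟶ S),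
      (∃ t : T ⟶ Z, t ≫ z = g) ↔ ∃ h : pullback w g ⟶ D, h ≫ d = pullback.fst w g ≫ m := by
  obtain ⟨Z, z, hz, H, -⟩ := Groth.Agent.S4101.result S W (pullback m d) w (isEssentiallyFree w)
    (pullback.fst m d)
  refine ⟨Z, z, hz, fun T g => (H T g).trans ⟨fun h => ?_, ?_⟩⟩
  · refine ⟨inv (pullback.snd (pullback.fst m d) (pullback.fst w g)) ≫ pullback.fst _ _ ≫ pullback.snd m d, ?_⟩
    rw [Category.assoc, Category.assoc, ← pullback.condition, pullback.condition_assoc, IsIso.inv_hom_id_assoc]
  · rintro ⟨h, hh⟩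
    let s : pullback w g ⟶ pullback (pullback.fst m d) (pullback.fst w g) :=
      pullback.lift (pullback.lift (pullback.fst w g) h hh.symm) (𝟙 _)
        ((pullback.lift_fst _ _ _).trans (Category.id_comp _).symm)
    have hs : s ≫ pullback.snd (pullback.fst m d) (pullback.fst w g) = 𝟙 _ := pullback.lift_snd _ _ _
    have hm : Mono (pullback.snd (pullback.fst m d) (pullback.fst w g)) := inferInstance
    refine ⟨s, ?_, hs⟩
    rw [← cancel_mono (pullback.snd (pullback.fst m d) (pullback.fst w g)), Category.assoc, hs,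
      Category.comp_id, Category.id_comp]

end K814.ClosedCond
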