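import Groth.Agent.AbSch.K449.Cube
import Groth.Agent.AbDual.K732.Cube

/-!
# The cube principle, fibrewise on the third factor

`A`, `B` abelian schemes over any scheme `S`, `Z` any `S`-scheme, `M` a class on `(A ⊗ B) ⊗ Z` trivial on `1 × B × Z`,
on `A × 1 × Z` and on the geometric fibres over `Z`: then `M` is trivial.
-/

set_option autoImplicit false
universe u

open CategoryTheory Limits MonoidalCategory CartesianMonoidalCategory AlgebraicGeometry
open scoped MonObj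

namespace K814.CubeGeom

open Groth.Agent.Grpsch.PicGrp Groth.Agent.Grpsch.CubeData Groth.Agent.Grpsch
open Groth.Agent.Fdesc Groth.Agent.Fdesc.LocGen K449.Cube

variable {S : Scheme.{u}} (A B : Over S) [GrpObj A] [GrpObj B]

/-- The two-fold product with its two sections. -/
noncomputable def D1 : Data S where
  X := A.left
  Y := B.left
  P := pullback A.hom B.hom
  q₁ := pullback.fst _ _
  q₂ := pullback.snd _ _
  pX := A.hom
  pY := B.hom
  H := .of_hasPullback _ _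
  x := e₀ A
  y := e₀ B
  hx := e₀_hom
  hy := e₀_hom
  s := pullback.lift (B.hom ≫ e₀ A) (𝟙 _) (by simp)
  s' := pullback.lift (𝟙 _) (A.hom ≫ e₀ B) (by simp)
  hs₁ := pullback.lift_fst _ _ _
  hs₂ := pullback.lift_snd _ _ _
  hs'₁ := pullback.lift_fst _ _ _
  hs'₂ := pullback.lift_snd _ _ _

variable [IsProper A.hom] [Flat A.hom] [LocallyOfFinitePresentation A.hom] [GeometricallyIntegral A.hom]
  [IsProper B.hom] [Flat B.hom] [LocallyOfFinitePresentation B.hom] [GeometricallyIntegral B.hom]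

/-- **The cube principle**, fibrewise on the third factor. -/
theorem cube_geom (Z : Over S) (M : Pic ((A ⊗ B) ⊗ Z).left)
    (h1 : ∀ (W : Over S) (b : W ⟶ B) (c : W ⟶ Z), pull (lift (lift (1 : W ⟶ A) b) c).left M = 1)
    (h2 : ∀ (W : Over S) (a : W ⟶ A) (c : W ⟶ Z), pull (lift (lift a (1 : W ⟶ B)) c).left M = 1)
    (h3 : ∀ z : Z.left, ∃ (T : Scheme.{u}) (t : T ⟶ Z.left), z ∈ Set.range t ∧
      ∀ (X : Scheme.{u}) (q : X ⟶ T) (a : Over.mk (q ≫ t ≫ Z.hom) ⟶ A) (b : Over.mk (q ≫ t ≫ Z.hom) ⟶ B),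
        pull (lift (lift a b) (Over.homMk (q ≫ t) : Over.mk (q ≫ t ≫ Z.hom) ⟶ Z)).left M = 1) : M = 1 := by
  obtain ⟨L, hL, hLM⟩ := exists_mk M
  subst hLM
  rw [mk_eq_one_iff hL]
  let D := D1 A B
  have hgood : D.Good := ⟨‹_›, ‹_›, ‹_›, ‹_›, ‹_›, ‹_›, ‹_›, ‹_›⟩
  -- reduction to points
  have key : ∀ (W : Scheme.{u}) (φ : W ⟶ pullback (pullback.fst A.hom B.hom ≫ A.hom) Z.hom),
      ((φ ≫ pullback.fst (pullback.fst A.hom B.hom ≫ A.hom) Z.hom ≫ pullback.fst A.hom B.hom =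
          φ ≫ pullback.fst (pullback.fst A.hom B.hom ≫ A.hom) Z.hom ≫
            pullback.fst A.hom B.hom ≫ A.hom ≫ e₀ A) ∨
        (φ ≫ pullback.fst (pullback.fst A.hom B.hom ≫ A.hom) Z.hom ≫ pullback.snd A.hom B.hom =
          φ ≫ pullback.fst (pullback.fst A.hom B.hom ≫ A.hom) Z.hom ≫
            pullback.fst A.hom B.hom ≫ A.hom ≫ e₀ B)) →
      Triv ((Scheme.Modules.pullback φ).obj L) := by
    intro W φ h
    rw [Triv, ← mk_eq_one_iff (Groth.Agent.Fdesc.LocGen.isInvertible_pullback φ hL), ← pull_mk φ hL]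
    let W' : Over S := Over.mk (φ ≫ ((A ⊗ B) ⊗ Z).hom)
    let f : W' ⟶ (A ⊗ B) ⊗ Z := Over.homMk φ rfl
    have hf : f = lift (lift (f ≫ fst _ _ ≫ fst _ _) (f ≫ fst _ _ ≫ snd _ _)) (f ≫ snd _ _) := by
      ext1 <;> simp
      ext1 <;> simp
    change pull f.left (mk L hL) = 1
    rw [hf]
    rcases h with h | h
    · have e1 : f ≫ fst (A ⊗ B) Z ≫ fst A B = 1 := K732.Cube.eq_one_of_left _ (h.trans (by
        change _ = (φ ≫ (pullback.fst (pullback.fst A.hom B.hom ≫ A.hom) Z.hom ≫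
          pullback.fst A.hom B.hom ≫ A.hom)) ≫ _
        simp only [Category.assoc]
        rfl))
      rw [e1]
      exact h1 _ _ _
    · have e1 : f ≫ fst (A ⊗ B) Z ≫ snd A B = 1 := K732.Cube.eq_one_of_left _ (h.trans (by
        change _ = (φ ≫ (pullback.fst (pullback.fst A.hom B.hom ≫ A.hom) Z.hom ≫
          pullback.fst A.hom B.hom ≫ A.hom)) ≫ _
        simp only [Category.assoc]
        rfl))
      rw [e1]
      exact h2 _ _ _
  have hA : e₀ A ≫ A.hom = 𝟙 S := e₀_hom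
  have hB : e₀ B ≫ B.hom = 𝟙 S := e₀_hom
  obtain ⟨W, hW1, hW2, hW3⟩ := exists_clopen (hgood.baseChange Z.hom) L hL
    (key _ (D.bs Z.hom) (Or.inl (by
      have e1 := D.bs_fst_assoc Z.hom (pullback.fst A.hom B.hom)
      have e2 := D.bs_fst_assoc Z.hom (pullback.fst A.hom B.hom ≫ A.hom ≫ e₀ A)
      refine e1.trans (Eq.trans ?_ e2.symm)
      congr 1
      have e3 : D.s ≫ pullback.fst A.hom B.hom = B.hom ≫ e₀ A := pullback.lift_fst _ _ _
      refine e3.trans ?_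
      have e5 : (B.hom ≫ e₀ A) ≫ A.hom ≫ e₀ A = B.hom ≫ e₀ A := by
        rw [Category.assoc, reassoc_of% hA]
      refine e5.symm.trans ?_
      exact (congrArg (· ≫ A.hom ≫ e₀ A) e3.symm).trans (Category.assoc _ _ _))))
    (key _ (D.bs' Z.hom) (Or.inr (by
      have e1 := D.bs'_fst_assoc Z.hom (pullback.snd A.hom B.hom)
      have e2 := D.bs'_fst_assoc Z.hom (pullback.fst A.hom B.hom ≫ A.hom ≫ e₀ B)
      refine e1.trans (Eq.trans ?_ e2.symm)
      congr 1
      have e3 : D.s' ≫ pullback.fst A.hom B.hom = 𝟙 _ := pullback.lift_fst _ _ _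
      have e4 : D.s' ≫ pullback.snd A.hom B.hom = A.hom ≫ e₀ B := pullback.lift_snd _ _ _
      refine e4.trans ?_
      exact (Category.id_comp _).symm.trans ((congrArg (· ≫ A.hom ≫ e₀ B) e3.symm).trans (Category.assoc _ _ _)))))
  refine hW3 ?_
  rw [Set.eq_univ_iff_forall]
  intro z
  obtain ⟨T, t, hz, ht⟩ := h3 z
  refine hW2 T t ?_ hz
  -- the fibre
  let φ : pullback (D.baseChange Z.hom).p t ⟶ pullback (pullback.fst A.hom B.hom ≫ A.hom) Z.hom := pullback.fst _ _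
  let q : pullback (D.baseChange Z.hom).p t ⟶ T := pullback.snd _ _
  have hφ : φ ≫ pullback.snd (pullback.fst A.hom B.hom ≫ A.hom) Z.hom = q ≫ t := by
    refine Eq.trans ?_ (pullback.condition (f := (D.baseChange Z.hom).p) (g := t))
    congr 1
    exact (D.bq₁_snd Z.hom).symm
  change Triv ((Scheme.Modules.pullback φ).obj L)
  rw [Triv, ← mk_eq_one_iff (Groth.Agent.Fdesc.LocGen.isInvertible_pullback φ hL), ← pull_mk φ hL]
  let f : Over.mk (q ≫ t ≫ Z.hom) ⟶ (A ⊗ B) ⊗ Z := Over.homMk φ (by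
    change φ ≫ pullback.fst (pullback.fst A.hom B.hom ≫ A.hom) Z.hom ≫ pullback.fst A.hom B.hom ≫ A.hom = q ≫ t ≫ Z.hom
    have e6 := pullback.condition (f := pullback.fst A.hom B.hom ≫ A.hom) (g := Z.hom)
    refine (congrArg (φ ≫ ·) e6).trans ?_
    rw [reassoc_of% hφ])
  have hf : f = lift (lift (f ≫ fst _ _ ≫ fst _ _) (f ≫ fst _ _ ≫ snd _ _)) (f ≫ snd _ _) := by
    ext1 <;> simp
    ext1 <;> simp
  have hf2 : f ≫ snd (A ⊗ B) Z = Over.homMk (q ≫ t) := by
    ext1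
    exact hφ
  change pull f.left (mk L hL) = 1
  rw [hf, hf2]
  exact ht _ q _ _

/-- **The cube principle** for a class on `A ⊗ B`. -/
theorem square_geom (M : Pic (A ⊗ B).left)
    (h1 : ∀ (W : Over S) (b : W ⟶ B), pull (lift (1 : W ⟶ A) b).left M = 1)
    (h2 : ∀ (W : Over S) (a : W ⟶ A), pull (lift a (1 : W ⟶ B)).left M = 1)
    (h3 : ∀ s : S, ∃ (T : Scheme.{u}) (t : T ⟶ S), s ∈ Set.range t ∧
      ∀ (X : Scheme.{u}) (q : X ⟶ T) (a : Over.mk (q ≫ t) ⟶ A) (b : Over.mk (q ≫ t) ⟶ B),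
        pull (lift a b).left M = 1) : M = 1 := by
  have hr : ∀ (W : Over S) (a : W ⟶ A) (b : W ⟶ B) (c : W ⟶ 𝟙_ (Over S)),
      pull (lift (lift a b) c).left (pull (fst (A ⊗ B) (𝟙_ (Over S))).left M) = pull (lift a b).left M := by
    intro W a b c
    rw [← pull_comp, ← Over.comp_left, lift_fst]
  have key := cube_geom A B (𝟙_ (Over S)) (pull (fst (A ⊗ B) (𝟙_ (Over S))).left M)
    (fun W b c => (hr _ _ _ _).trans (h1 W b)) (fun W a c => (hr _ _ _ _).trans (h2 W a)) (fun s => by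
      obtain ⟨T, t, hs, ht⟩ := h3 s
      refine ⟨T, t, hs, fun X q a b => (hr _ _ _ _).trans ?_⟩
      have e : Over.mk (q ≫ t ≫ (𝟙_ (Over S)).hom) = Over.mk (q ≫ t) := by
        exact congrArg (fun r => Over.mk (q ≫ r)) (Category.comp_id t)
      revert a b
      rw [e]
      exact ht X q)
  have h4 := congrArg (pull (lift (𝟙 (A ⊗ B)) (toUnit (A ⊗ B))).left) key
  rw [map_one, ← pull_comp, ← Over.comp_left, lift_fst, Over.id_left, pull_id] at h4
  exact h4

end K814.CubeGeom
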