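import Groth.Agent.Grpsch.MulFin
import Groth.Agent.Grpsch.MulFinFlat
import Groth.Agent.Dix.EtMinD
import Groth.Agent.Dix.EtMinE
import Groth.Agent.CurvesC.Dim1Top
import Groth.Agent.CurvesC.DegIso

/-!
# Homomorphisms of group curves; ranks and degrees
-/

set_option autoImplicit false
universe u

open CategoryTheory CategoryTheory.Limits MonoidalCategory CartesianMonoidalCategory AlgebraicGeometry
  TopologicalSpace MonObj

namespace K814.CurveHom

section Rank

variable {K : Type u} [Field K]

/-- The rank of a finite scheme over a field. -/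
theorem finrank_eq {Y : Scheme.{u}} (q : Y ⟶ Spec (CommRingCat.of K)) [IsFinite q]
    (s : Spec (CommRingCat.of K)) :
    letI := ((Scheme.ΓSpecIso (CommRingCat.of K)).inv ≫ q.appTop).hom.toAlgebra
    q.finrank s = Module.finrank K Γ(Y, ⊤) := by
  have hY : IsAffine Y := isAffine_of_isAffineHom q
  let φ : CommRingCat.of K ⟶ Γ(Y, ⊤) := (Scheme.ΓSpecIso (CommRingCat.of K)).inv ≫ q.appTop
  have h1 : q = Y.isoSpec.hom ≫ Spec.map φ := by
    rw [Spec.map_comp]
    change _ = Y.toSpecΓ ≫ _
    rw [← Scheme.toSpecΓ_naturality_assoc, toSpecΓ_SpecMap_ΓSpecIso_inv, Category.comp_id]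
  let := φ.hom.toAlgebra
  have h2 : IsFinite (Spec.map φ) := by
    have : IsFinite (Y.isoSpec.inv ≫ q) := inferInstance
    rwa [h1, Iso.inv_hom_id_assoc] at this
  have h3 : φ.hom.Finite := by
    rwa [IsFinite.SpecMap_iff] at h2
  have h4 : Module.Finite K Γ(Y, ⊤) := h3
  have h5 : Flat (Spec.map φ) := inferInstance
  have h6 : q.finrank = (Spec.map φ).finrank := by
    conv_lhs => rw [h1]
    exact Scheme.Hom.finrank_comp_left_of_isIso _ _
  rw [h6]
  refine (Scheme.Hom.finrank_SpecMap_algebraMap K Γ(Y, ⊤) s).trans ?_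
  rw [Module.rankAtStalk_eq_finrank_of_free]
  rfl

/-- A closed subscheme of a finite scheme over a field has smaller rank. -/
theorem finrank_le {X Y : Scheme.{u}} (i : X ⟶ Y) [IsClosedImmersion i] (q : Y ⟶ Spec (CommRingCat.of K))
    [IsFinite q] (s : Spec (CommRingCat.of K)) : (i ≫ q).finrank s ≤ q.finrank s := by
  have hY : IsAffine Y := isAffine_of_isAffineHom q
  have hX : IsAffine X := isAffine_of_isAffineHom (i ≫ q)
  rw [finrank_eq, finrank_eq]
  let a1 := ((Scheme.ΓSpecIso (CommRingCat.of K)).inv ≫ q.appTop).hom.toAlgebra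
  let a2 := ((Scheme.ΓSpecIso (CommRingCat.of K)).inv ≫ (i ≫ q).appTop).hom.toAlgebra
  have h1 : Function.Surjective i.appTop.hom := by
    exact (IsClosedImmersion.isAffine_surjective_of_isAffine i).2
  have hfin : Module.Finite K Γ(Y, ⊤) := by
    have h2 : q.appTop.hom.Finite := q.finite_appTop
    have h3 : (Scheme.ΓSpecIso (CommRingCat.of K)).inv.hom.Finite := RingHom.Finite.of_surjective _
      (ConcreteCategory.bijective_of_isIso (Scheme.ΓSpecIso (CommRingCat.of K)).inv).surjective
    exact RingHom.Finite.comp h2 h3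
  let l : Γ(Y, ⊤) →ₐ[K] Γ(X, ⊤) :=
    { i.appTop.hom with
      commutes' := fun r => by
        change i.appTop.hom (q.appTop.hom _) = (i ≫ q).appTop.hom _
        rw [Scheme.Hom.comp_appTop]
        rfl }
  exact LinearMap.finrank_le_finrank_of_surjective (f := l.toLinearMap) h1

end Rank

section Push

/-- The rank of a finite flat morphism onto an integral scheme, computed at the generic point of the direct image
of the structure sheaf. -/
theorem finrank_push {E C : Scheme.{u}} (φ : E ⟶ C) [IsIntegral C] [IsFinite φ] [Flat φ]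
    [LocallyOfFinitePresentation φ] (y : C) :
    Module.finrank (C.presheaf.stalk (genericPoint C))
      (((Scheme.Modules.pushforward φ).obj (Coh.structureModule E)).presheaf.stalk (genericPoint C)) =
      φ.finrank y := by
  have hM : Coh.IsQCoh ((Scheme.Modules.pushforward φ).obj (Coh.structureModule E)) :=
    Groth.Agent.Ega3B.DevQC.isQCoh_push φ (Groth.Agent.CurvesC.UnitCoh.isQCoh_unit E)
  obtain ⟨V, hV, hyV, -⟩ := exists_isAffineOpen_mem_and_subset (x := y) (U := ⊤) trivial
  have hne : Nonempty V := ⟨⟨y, hyV⟩⟩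
  let : Algebra Γ(C, V) Γ(E, φ ⁻¹ᵁ V) := (φ.app V).hom.toAlgebra
  have hfin : Module.Finite Γ(C, V) Γ(E, φ ⁻¹ᵁ V) := IsFinite.finite_app φ V hV
  have hflat : Module.Flat Γ(C, V) Γ(E, φ ⁻¹ᵁ V) := by
    have h := Scheme.Hom.flat_appLE φ hV (hV.preimage φ) le_rfl
    rw [Scheme.Hom.appLE_eq_app] at h
    exact h
  have hfp' : Algebra.FinitePresentation Γ(C, V) Γ(E, φ ⁻¹ᵁ V) := by
    have h := Scheme.Hom.finitePresentation_appLE φ hV (hV.preimage φ) le_rfl
    rw [Scheme.Hom.appLE_eq_app] at h
    exact h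
  have hfp : Module.FinitePresentation Γ(C, V) Γ(E, φ ⁻¹ᵁ V) :=
    Module.FinitePresentation.of_finite_of_finitePresentation _ _
  have hη : genericPoint C ∈ V := ((genericPoint_spec C).mem_open_set_iff V.isOpen).mpr (by simpa using hne)
  have h1 : Module.rankAtStalk (R := Γ(C, V)) Γ(E, φ ⁻¹ᵁ V) (hV.primeIdealOf ⟨_, hη⟩) =
      Module.finrank (C.presheaf.stalk (genericPoint C))
      (((Scheme.Modules.pushforward φ).obj (Coh.structureModule E)).presheaf.stalk (genericPoint C)) := by
    refine Groth.Agent.Divis.StalkMod.stalk_elim _ hM hV _ hη ?_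
    intro a1 a2 a3 a4 l _ _ _
    have hflat' : Module.Flat Γ(C, V) Γ((Scheme.Modules.pushforward φ).obj (Coh.structureModule E), V) := hflat
    have hfin' : Module.Finite Γ(C, V) Γ((Scheme.Modules.pushforward φ).obj (Coh.structureModule E), V) := hfin
    have hb := IsLocalizedModule.isBaseChange (hV.primeIdealOf ⟨_, hη⟩).asIdeal.primeCompl
      (C.presheaf.stalk (genericPoint C)) l
    have h2 := Module.rankAtStalk_isBaseChange hb (IsLocalRing.closedPoint (C.presheaf.stalk (genericPoint C)))
    have h3 : (IsLocalRing.closedPoint (C.presheaf.stalk (genericPoint C))).comap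
        (algebraMap Γ(C, V) (C.presheaf.stalk (genericPoint C))) = hV.primeIdealOf ⟨_, hη⟩ := by
      apply PrimeSpectrum.ext
      exact IsLocalization.AtPrime.under_maximalIdeal _ _
    rw [h3] at h2
    have h4 : Module.Free (C.presheaf.stalk (genericPoint C))
        (((Scheme.Modules.pushforward φ).obj (Coh.structureModule E)).presheaf.stalk (genericPoint C)) :=
      inferInstanceAs (Module.Free C.functionField _)
    rw [Module.rankAtStalk_eq_finrank_of_free] at h2
    exact h2.symm
  rw [← h1]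
  obtain ⟨p, rfl⟩ : y ∈ Set.range hV.fromSpec := by
    rw [hV.range_fromSpec]
    exact hyV
  have hU : IsAffineOpen (φ ⁻¹ᵁ V) := hV.preimage φ
  have hpb : IsPullback hU.fromSpec (Spec.map (φ.app V)) φ hV.fromSpec := by
    refine (IsOpenImmersion.isPullback _ hU.fromSpec hV.fromSpec φ ?_ ?_).flip
    · have := IsAffineOpen.SpecMap_appLE_fromSpec φ hV hU le_rfl
      rw [Scheme.Hom.appLE_eq_app] at this
      exact this.symm
    · rw [hV.opensRange_fromSpec, hU.opensRange_fromSpec]
  rw [← Scheme.Hom.finrank_of_isPullback _ _ _ _ hpb p]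
  refine Eq.trans ?_ (Scheme.Hom.finrank_SpecMap_algebraMap Γ(C, V) Γ(E, φ ⁻¹ᵁ V) p).symm
  exact (Module.isLocallyConstant_rankAtStalk (R := Γ(C, V)) (M := Γ(E, φ ⁻¹ᵁ V))).apply_eq_of_preconnectedSpace _ _

/-- Degrees multiply by the rank under finite flat morphisms of curves. -/
theorem deg_pullback (k : Type u) [Field k] {X Y : Scheme.{u}} [X.Over (Spec (CommRingCat.of k))]
    [Y.Over (Spec (CommRingCat.of k))] [IsIntegral Y] [IsProper (Y ↘ Spec (CommRingCat.of k))]
    [IsProper (X ↘ Spec (CommRingCat.of k))]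
    (hdimX : topologicalKrullDim X = 1) (hdim : topologicalKrullDim Y = 1) (f : X ⟶ Y)
    (hf : f ≫ (Y ↘ Spec (CommRingCat.of k)) = X ↘ Spec (CommRingCat.of k)) [IsFinite f] [Flat f]
    [LocallyOfFinitePresentation f]
    (L : Y.Modules) (hL : PicF.IsInvertible L) (y : Y) :
    Curv2.deg k X ((Scheme.Modules.pullback f).obj L) 1 = (f.finrank y : ℤ) * Curv2.deg k Y L 1 := by
  have : IsLocallyNoetherian X := LocallyOfFiniteType.isLocallyNoetherian (X ↘ Spec (CommRingCat.of k))
  rw [← Groth.Agent.Dix.InterNum.curveDeg_eq k X hdimX, ← Groth.Agent.Dix.InterNum.curveDeg_eq k Y hdim,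
    Groth.Agent.Dix.EtMinE.curveDeg_pullback_finite k hdim f hf L hL, finrank_push f y]

end Push

end K814.CurveHom
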