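import Groth.Agent.S19476
import Groth.Agent.AgPol.K814.MumHom
import Groth.Agent.AgPol.K814.MulEpi
import Groth.Agent.AgPol.K814.ClosedCond
import Groth.Agent.AbDual.K732.Cov
import Groth.Agent.Ega43.FPOfComp

/-!
# Triviality of a rigidified class is a closed condition; division of homomorphisms by an integer

* `exists_closed_triv` : `f : X ⟶ S` proper flat with geometrically integral fibres, with a section `s`, `S` locally
  Noetherian, `c : Pic X` with `s^* c = 1`: the condition `c_T = 1` is represented by a closed subscheme of `S`;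
* `exists_closed_XT` : the same for classes on `A ×_S T₀`;
* `exists_root` : roots exist fppf-locally on abelian schemes;
* `exists_div` : a homomorphism killing the `n`-torsion is divisible by `n` (in families).
-/

set_option autoImplicit false
universe u

open CategoryTheory Limits MonoidalCategory CartesianMonoidalCategory AlgebraicGeometry
open scoped MonObj

namespace K814.Div

open Groth.Agent.Grpsch.PicGrp Groth.Agent.Fga.RigGrp K732.PicZero K732.Prim K732.Dual K732.CubeSec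
open Groth.Agent.Ega2.QCohLocal

section closed

/-- Triviality of a rigidified class is a closed condition. -/
theorem exists_closed_triv {X S : Scheme.{u}} (f : X ⟶ S) [IsProper f] [Flat f] [GeometricallyIntegral f]
    [IsLocallyNoetherian S] (s : S ⟶ X) (hs : s ≫ f = 𝟙 S) (c : Pic X) (hc : pull s c = 1) :
    ∃ (Z : Scheme.{u}) (z : Z ⟶ S), IsClosedImmersion z ∧ ∀ (T : Scheme.{u}) (u : T ⟶ S), IsLocallyNoetherian T →
      ((∃ u' : T ⟶ Z, u' ≫ z = u) ↔ pull (pullback.fst f u) c = 1) := by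
  obtain ⟨L, hL, rfl⟩ := exists_mk c
  obtain ⟨Z, z, hz, H⟩ := Groth.Agent.S19476.result f L (isFinLocFreeOfRank_one_iff.2 hL)
  refine ⟨Z, z, hz, fun T u hT ↦ (H T u hT).trans ?_⟩
  constructor
  · rintro ⟨M, hM, ⟨e⟩⟩
    have hM' : PicF.IsInvertible M := isFinLocFreeOfRank_one_iff.1 hM
    have h1 : pull (pullback.fst f u) (mk L hL) = pull (pullback.snd f u) (mk M hM') := by
      rw [pull_mk, pull_mk]
      exact mk_congr e
    let σ : T ⟶ pullback f u := pullback.lift (u ≫ s) (𝟙 T) (by rw [Category.assoc, hs, Category.comp_id, Category.id_comp])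
    have h2 := congrArg (pull σ) h1
    rw [← pull_comp, ← pull_comp, pullback.lift_fst, pullback.lift_snd, pull_comp, hc, map_one, pull_id] at h2
    rw [h1, ← h2, map_one]
  · intro h
    rw [pull_mk, mk_eq_one_iff] at h
    obtain ⟨e⟩ := h
    refine ⟨Coh.structureModule T, isFinLocFreeOfRank_one_iff.2 Groth.Agent.Fdesc.LocGen.isInvertible_structureModule, ⟨e ≪≫ ?_⟩⟩
    have h3 : pull (pullback.snd f u) (1 : Pic T) = 1 := map_one _
    rw [Groth.Agent.Grpsch.PicGrp.one_def (X := T), pull_mk, mk_eq_one_iff] at h3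
    exact h3.some.symm

variable {S : Scheme.{u}}

theorem exists_closed_XT (A : Over S) [GrpObj A] [IsProper A.hom] [Flat A.hom] [GeometricallyIntegral A.hom]
    (T₀ : Over S) [IsLocallyNoetherian T₀.left] (c : Pic (PicF.XT A.hom T₀)) (hc : c ∈ rg A T₀) :
    ∃ (Z : Scheme.{u}) (z : Z ⟶ T₀.left), IsClosedImmersion z ∧ ∀ (T : Over S) (u : T ⟶ T₀),
      IsLocallyNoetherian T.left →
      ((∃ u' : T.left ⟶ Z, u' ≫ z = u.left) ↔ pull (PicF.XTmap A.hom u) c = 1) := by
  have i1 : IsProper (PicF.XTproj A.hom T₀) := inferInstanceAs (IsProper (pullback.snd A.hom T₀.hom))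
  have i2 : Flat (PicF.XTproj A.hom T₀) := inferInstanceAs (Flat (pullback.snd A.hom T₀.hom))
  have i3 : GeometricallyIntegral (PicF.XTproj A.hom T₀) :=
    inferInstanceAs (GeometricallyIntegral (pullback.snd A.hom T₀.hom))
  obtain ⟨Z, z, hz, H⟩ := exists_closed_triv (PicF.XTproj A.hom T₀) (lift (1 : T₀ ⟶ A) (𝟙 T₀)).left
    (lift_XTproj _ _) c (mem_rg_iff.1 hc)
  refine ⟨Z, z, hz, fun T u hT ↦ (H T.left u.left hT).trans ?_⟩
  have h := isPullback_XTmap (f := A.hom) u
  have e : pullback.fst (PicF.XTproj A.hom T₀) u.left = h.isoPullback.inv ≫ PicF.XTmap A.hom u := by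
    rw [h.isoPullback_inv_fst]
  have e' : PicF.XTmap A.hom u = h.isoPullback.hom ≫ pullback.fst (PicF.XTproj A.hom T₀) u.left := by
    rw [h.isoPullback_hom_fst]
  constructor
  · intro h1
    rw [e', pull_comp, h1, map_one]
  · intro h1
    rw [e, pull_comp, h1, map_one]

end closed

section roots

variable {S : Scheme.{u}} (A : Over S) [GrpObj A] [IsCommMonObj A] [IsProper A.hom] [Flat A.hom]
  [LocallyOfFinitePresentation A.hom] [GeometricallyIntegral A.hom]

omit [IsCommMonObj A] [Flat A.hom] [GeometricallyIntegral A.hom] in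
theorem lfp_pow (n : ℕ) : LocallyOfFinitePresentation (𝟙 A ^ n : A ⟶ A).left := by
  have h : LocallyOfFinitePresentation ((𝟙 A ^ n : A ⟶ A).left ≫ A.hom) := by
    rw [Over.w]
    infer_instance
  exact Groth.Agent.Ega43.FPOfComp.locallyOfFinitePresentation_of_comp _ A.hom

variable {A}

/-- Roots exist after a covering. -/
theorem exists_cov_root (n : ℕ) (hn : 1 ≤ n) {W : Over S} (a : W ⟶ A) :
    ∃ (V : Over S) (j : V ⟶ W) (a' : V ⟶ A), Flat j.left ∧ LocallyOfFinitePresentation j.left ∧ Surjective j.left ∧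
      a' ^ n = j ≫ a ∧
      (∀ {X : Over S} (w : X ⟶ W) (x : X ⟶ A), x ^ n = w ≫ a → ∃ v : X ⟶ V, v ≫ j = w ∧ v ≫ a' = x) ∧
      (IsFinite (𝟙 A ^ n : A ⟶ A).left → IsFinite j.left) := by
  have h1 := MulEpi.flat_pow A n hn
  have h2 := MulEpi.surjective_pow A n hn
  have h3 := lfp_pow A n
  have e4 : ∀ {V : Over S} (x : V ⟶ A), x ≫ (𝟙 A ^ n : A ⟶ A) = x ^ n := by
    intro V x
    rw [MonObj.comp_pow, Category.comp_id]
  refine ⟨Over.mk (pullback.fst a.left (𝟙 A ^ n : A ⟶ A).left ≫ W.hom),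
    Over.homMk (pullback.fst a.left (𝟙 A ^ n : A ⟶ A).left) rfl,
    Over.homMk (pullback.snd a.left (𝟙 A ^ n : A ⟶ A).left) ?_, ?_, ?_, ?_, ?_, ?_, ?_⟩
  · change pullback.snd a.left (𝟙 A ^ n : A ⟶ A).left ≫ A.hom = pullback.fst a.left (𝟙 A ^ n : A ⟶ A).left ≫ W.hom
    rw [← Over.w (𝟙 A ^ n : A ⟶ A), ← pullback.condition_assoc, Over.w]
  · exact inferInstanceAs (Flat (pullback.fst a.left (𝟙 A ^ n : A ⟶ A).left))
  · exact inferInstanceAs (LocallyOfFinitePresentation (pullback.fst a.left (𝟙 A ^ n : A ⟶ A).left))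
  · exact inferInstanceAs (Surjective (pullback.fst a.left (𝟙 A ^ n : A ⟶ A).left))
  · refine (e4 _).symm.trans ?_
    ext1
    exact (pullback.condition (f := a.left) (g := (𝟙 A ^ n : A ⟶ A).left)).symm
  · intro X w x hx
    replace hx := (e4 x).trans hx
    refine ⟨Over.homMk (pullback.lift w.left x.left (congrArg CommaMorphism.left hx).symm) ?_, ?_, ?_⟩
    · change pullback.lift w.left x.left _ ≫ pullback.fst _ _ ≫ W.hom = X.hom
      rw [pullback.lift_fst_assoc, Over.w]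
    · ext1
      exact pullback.lift_fst _ _ _
    · ext1
      exact pullback.lift_snd _ _ _
  · intro h4
    exact inferInstanceAs (IsFinite (pullback.fst a.left (𝟙 A ^ n : A ⟶ A).left))

/-- Roots exist after a covering. -/
theorem exists_root (n : ℕ) (hn : 1 ≤ n) {W : Over S} (a : W ⟶ A) :
    ∃ (V : Over S) (j : V ⟶ W) (a' : V ⟶ A), Epi j ∧ a' ^ n = j ≫ a := by
  obtain ⟨V, j, a', h1, h2, h3, h4, -⟩ := exists_cov_root n hn a
  have h5 : Epi j.left := Flat.epi_of_flat_of_surjective _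
  exact ⟨V, j, a', (Over.forget S).epi_of_epi_map h5, h4⟩

variable {B : Over S} [GrpObj B]

/-- **Division**: a homomorphism killing the `n`-torsion (over `T`) is divisible by `n` over `T`. -/
theorem exists_div (n : ℕ) (hn : 1 ≤ n) (f : A ⟶ B) [IsMonHom f] (T : Over S)
    (h : ∀ (W : Over S) (_ : W ⟶ T) (b : W ⟶ A), b ^ n = 1 → b ≫ f = 1) :
    ∃ χ : A ⊗ T ⟶ B, ∀ (W : Over S) (a : W ⟶ A) (t : W ⟶ T), lift (a ^ n) t ≫ χ = a ≫ f := by
  obtain ⟨V, j, a', h1, h2, h3, h4, h5, -⟩ := exists_cov_root n hn (fst A T)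
  have key : ∀ (W : Over S) (a b : W ⟶ V), a ≫ j = b ≫ j → a ≫ a' ≫ f = b ≫ a' ≫ f := by
    intro W a b hab
    have e3 : (a ≫ a') ^ n = (b ≫ a') ^ n := by
      rw [← MonObj.comp_pow, ← MonObj.comp_pow, h4, ← Category.assoc, ← Category.assoc, hab]
    have e5 := h W (a ≫ j ≫ snd A T) ((a ≫ a') / (b ≫ a')) (by
        rw [div_pow, e3, div_self'])
    have e6 := MonObj.mul_comp ((a ≫ a') / (b ≫ a')) (b ≫ a') f
    rw [div_mul_cancel, e5, _root_.one_mul, Category.assoc, Category.assoc] at e6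
    exact e6
  obtain ⟨χ, hχ⟩ := (K732.Cov.single j).glue_hom (fun _ ↦ a' ≫ f) (fun i k W a b hab ↦ key W a b hab)
  have hχ' : j ≫ χ = a' ≫ f := hχ ⟨⟩
  refine ⟨χ, fun W a t ↦ ?_⟩
  obtain ⟨v, hv1, hv2⟩ := h5 (lift (a ^ n) t) a (lift_fst _ _).symm
  rw [← hv1, Category.assoc, hχ', ← Category.assoc, hv2]

omit [GrpObj B] in
/-- Uniqueness of the quotient. -/
theorem div_ext (n : ℕ) (hn : 1 ≤ n) {T : Over S} {χ χ' : A ⊗ T ⟶ B}
    (h : ∀ (W : Over S) (a : W ⟶ A) (t : W ⟶ T), lift (a ^ n) t ≫ χ = lift (a ^ n) t ≫ χ') : χ = χ' := by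
  obtain ⟨V, j, a', hj, ha⟩ := exists_root n hn (fst A T)
  rw [← cancel_epi j]
  have h1 := h V a' (j ≫ snd A T)
  rw [ha, ← comp_lift, lift_fst_snd, Category.comp_id] at h1
  exact h1

/-- The quotient is a homomorphism. -/
theorem div_mul (n : ℕ) (hn : 1 ≤ n) (f : A ⟶ B) [IsMonHom f] {T : Over S} {χ : A ⊗ T ⟶ B}
    (h : ∀ (W : Over S) (a : W ⟶ A) (t : W ⟶ T), lift (a ^ n) t ≫ χ = a ≫ f)
    {W : Over S} (a b : W ⟶ A) (t : W ⟶ T) : lift (a * b) t ≫ χ = (lift a t ≫ χ) * (lift b t ≫ χ) := by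
  obtain ⟨V, j, a', hj, ha⟩ := exists_root n hn a
  obtain ⟨V', j', b', hj', hb⟩ := exists_root n hn (j ≫ b)
  have := epi_comp j' j
  rw [← cancel_epi (j' ≫ j), MonObj.comp_mul, Category.assoc, Category.assoc, Category.assoc]
  have e1 : j' ≫ j ≫ lift (a * b) t ≫ χ = lift (((j' ≫ a') * b') ^ n) ((j' ≫ j) ≫ t) ≫ χ := by
    rw [mul_pow, ← MonObj.comp_pow, ha, hb, ← MonObj.comp_mul, ← MonObj.comp_mul, ← Category.assoc j' j (a * b),
      ← comp_lift, Category.assoc, Category.assoc]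
  have e2 : j' ≫ j ≫ lift a t ≫ χ = lift ((j' ≫ a') ^ n) ((j' ≫ j) ≫ t) ≫ χ := by
    rw [← MonObj.comp_pow, ha, ← Category.assoc j' j a, ← comp_lift, Category.assoc, Category.assoc]
  have e3 : j' ≫ j ≫ lift b t ≫ χ = lift (b' ^ n) ((j' ≫ j) ≫ t) ≫ χ := by
    rw [hb, ← Category.assoc j' j b, ← comp_lift, Category.assoc, Category.assoc]
  rw [e1, e2, e3, h, h, h, MonObj.mul_comp]

end roots

end K814.Div
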