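import Groth.Agent.AgPol.K814.CurveHom
import Groth.Agent.AgPol.K814.AbBasic
import Groth.Agent.AbSch.K449.FlatHom
import Groth.Agent.Ega1.ReducedSub
import Groth.Agent.S1530

/-!
# Automorphisms of elliptic curves over a field which are trivial on a subgroup of rank at least five
-/

set_option autoImplicit false
universe u

open CategoryTheory CategoryTheory.Limits MonoidalCategory CartesianMonoidalCategory AlgebraicGeometry
  TopologicalSpace MonObj

namespace K814.EllAut

open Groth.Agent Groth.Agent.Grpsch.PicGrp Groth.Agent.Grpsch.Cube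

variable {K : Type u} [Field K]

/-- A non-trivial homomorphism from a group curve is finite. -/
theorem isFinite_of_ne_one {A B : Over (Spec (CommRingCat.of K))} [GrpObj A] [GrpObj B] [IsProper A.hom]
    [IsIntegral A.left] [IsSeparated B.hom] (hdim : topologicalKrullDim A.left ≤ 1) (δ : A ⟶ B) [IsMonHom δ]
    (hδ : δ ≠ 1) : IsFinite δ.left := by
  have hp : IsProper δ.left := K814.AbBasic.isProper_left A δ
  have hN : IsLocallyNoetherian A.left := LocallyOfFiniteType.isLocallyNoetherian A.hom
  have hc : CompactSpace A.left := QuasiCompact.compactSpace_of_compactSpace A.hom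
  have hN2 : IsNoetherian A.left := ⟨⟩
  have hfib : ∀ y, (δ.left ⁻¹' {y}).Finite := by
    intro y
    by_contra hinf
    obtain ⟨x, hx, hxg⟩ : ∃ x ∈ δ.left ⁻¹' {y}, x ≠ genericPoint A.left := by
      by_contra h
      push Not at h
      exact hinf ((Set.finite_singleton (genericPoint A.left)).subset h)
    have hxcl : closure ({x} : Set A.left) ≠ Set.univ := fun h =>
      hxg ((genericPoint_spec A.left).eq (show IsGenericPoint x Set.univ from h)).symm
    have hx1 : IsClosed ({x} : Set A.left) :=
      CurvesC.Dim1Top.isClosed_singleton_of_mem hdim isClosed_closure hxcl (subset_closure rfl)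
    have hy : IsClosed ({y} : Set B.left) := by
      have h1 := δ.left.isClosedMap _ hx1
      rwa [Set.image_singleton, show δ.left x = y from hx] at h1
    have h2 : IsClosed (δ.left ⁻¹' {y}) := hy.preimage δ.left.continuous
    have h3 : δ.left ⁻¹' {y} = Set.univ := by
      by_contra h
      exact hinf (CurvesC.Dim1Top.finite_of_isClosed hdim h2 h)
    apply hδ
    -- the map is constant
    have h4 : η[A].left ≫ δ.left = η[B].left := by
      rw [← Over.comp_left, IsMonHom.one_hom]
    let pt : Spec (CommRingCat.of K) := IsLocalRing.closedPoint K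
    have h5 : δ.left (η[A].left pt) = y := by
      have : η[A].left pt ∈ δ.left ⁻¹' {y} := h3 ▸ Set.mem_univ _
      exact this
    have h6 : IsClosedImmersion (e₀ B) := by
      have : IsClosedImmersion (e₀ B ≫ B.hom) := by
        rw [e₀_hom]
        infer_instance
      exact .of_comp _ B.hom
    obtain ⟨g, hg⟩ := Ega1.ReducedSub.exists_factor_of_range_subset δ.left (e₀ B) (by
      rintro _ ⟨z, rfl⟩
      refine ⟨pt, ?_⟩
      have h7 : δ.left z = y := by
        have : z ∈ δ.left ⁻¹' {y} := h3 ▸ Set.mem_univ _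
        exact this
      rw [h7, ← h5, ← Scheme.Hom.comp_apply, h4]
      rfl)
    refine eq_one_of_left δ ?_
    rw [← hg]
    congr 1
    rw [← Over.w δ, ← hg, Category.assoc, e₀_hom, Category.comp_id]
  have := LocallyQuasiFinite.of_finite_preimage_singleton δ.left hfib
  exact IsFinite.of_isProper_of_locallyQuasiFinite δ.left

section Deg

variable {Y : Scheme.{u}} [Y.Over (Spec (CommRingCat.of K))] [IsIntegral Y]
  [IsProper (Y ↘ (Spec (CommRingCat.of K)))]

variable (K) in
/-- The degree of a Picard class on an integral proper curve. -/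
noncomputable def deg (hdim : topologicalKrullDim Y = 1) (c : Pic Y) : ℤ :=
  Curv2.deg K Y (exists_mk c).choose 1

omit [IsIntegral Y] in
theorem deg_mk (hdim : topologicalKrullDim Y = 1) {L : Y.Modules} (hL : PicF.IsInvertible L) :
    deg K hdim (mk L hL) = Curv2.deg K Y L 1 := by
  obtain ⟨h, h1⟩ := (exists_mk (mk L hL)).choose_spec
  rw [mk_eq_iff] at h1
  obtain ⟨e⟩ := h1
  exact (Dix.InterNum.deg_congr K Y hdim e).symm

theorem deg_mul (hdim : topologicalKrullDim Y = 1) (c d : Pic Y) :
    deg K hdim (c * d) = deg K hdim c + deg K hdim d := by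
  obtain ⟨L, hL, rfl⟩ := exists_mk c
  obtain ⟨M, hM, rfl⟩ := exists_mk d
  rw [mk_mul_mk, deg_mk, deg_mk, deg_mk, Dix.InterNum.deg_tensor K Y hdim hL hM]

omit [IsIntegral Y] in
theorem deg_one (hdim : topologicalKrullDim Y = 1) : deg K hdim (1 : Pic Y) = 0 := by
  rw [one_def, deg_mk, Dix.InterNum.deg_unit]

end Deg

section Main

lemma isMonHom_mul {C : Type*} [Category C] [CartesianMonoidalCategory C] [BraidedCategory C] {A B : C} [GrpObj A]
    [GrpObj B] [IsCommMonObj B] (f g : A ⟶ B) [IsMonHom f] [IsMonHom g] : IsMonHom (f * g) := by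
  show IsMonHom (lift f g ≫ μ[B])
  infer_instance

variable (A : Over (Spec (CommRingCat.of K))) [GrpObj A] [IsProper A.hom] [GeometricallyIntegral A.hom]
  (hdim : topologicalKrullDim A.left = 1)

omit [GrpObj A] [IsProper A.hom] in
theorem isIntegral_left : IsIntegral A.left := GeometricallyIntegral.isIntegral_of_subsingleton A.hom

include hdim in
theorem finite_flat (f : A ⟶ A) [IsMonHom f] (hf : f ≠ 1) :
    IsFinite f.left ∧ Flat f.left ∧ LocallyOfFinitePresentation f.left := by
  have := isIntegral_left A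
  have h1 := isFinite_of_ne_one hdim.le f hf
  have h2 : Surjective f.left := Sga5.AmpleFib.surjective_of_isFinite K A.hom _
  have h3 : IsLocallyNoetherian A.left := LocallyOfFiniteType.isLocallyNoetherian A.hom
  have h4 := Grpsch.MulFinFlat.flat_of_surjective K f
  refine ⟨h1, h4, ?_⟩
  rw [LocallyOfFinitePresentation.iff_locallyOfFiniteType]
  infer_instance

theorem deg_pl [A.left.Over (Spec (CommRingCat.of K))] (hA : A.left ↘ (Spec (CommRingCat.of K)) = A.hom)
    (f : A ⟶ A) [IsMonHom f] (hf : f ≠ 1) (c : Pic A.left) (y : A.left) :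
    deg K hdim (pl f c) = f.left.finrank y * deg K hdim c := by
  have := isIntegral_left A
  obtain ⟨h1, h2, h3⟩ := finite_flat A hdim f hf
  have h4 : IsProper (A.left ↘ (Spec (CommRingCat.of K))) := by
    rw [hA]
    infer_instance
  obtain ⟨L, hL, rfl⟩ := exists_mk c
  have h5 : pl f (mk L hL) = mk ((Scheme.Modules.pullback f.left).obj L)
    (Fdesc.LocGen.isInvertible_pullback _ hL) := pull_mk _ hL
  rw [h5, deg_mk, deg_mk]
  exact CurveHom.deg_pullback K hdim hdim f.left (by rw [hA]; exact Over.w f) L hL y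

include hdim in
/-- **The parallelogram law**, in the form needed. -/
theorem finrank_le_four (f : A ⟶ A) [IsMonHom f] [IsIso f] (hf : f * (𝟙 A)⁻¹ ≠ 1) (y : A.left) :
    (f * (𝟙 A)⁻¹).left.finrank y ≤ 4 := by
  have := isIntegral_left A
  have hcomm : IsCommMonObj A := isCommMonObj_of_isProper_of_geometricallyIntegral A
  let : A.left.Over (Spec (CommRingCat.of K)) := ⟨A.hom⟩
  have hA : A.left ↘ (Spec (CommRingCat.of K)) = A.hom := rfl
  have h4 : IsProper (A.left ↘ (Spec (CommRingCat.of K))) := by
    rw [hA]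
    infer_instance
  obtain ⟨M, hM, hsymm⟩ := Grpsch.MulFin.exists_symm_ample A
  set L := mk M hM.1 with hL
  have hpos : 0 < deg K hdim L := by
    rw [hL, deg_mk]
    exact (Groth.Agent.S1530.result K A.left hdim M hM.1).mp hM
  have hcube := cube L f (𝟙 A) (𝟙 A)⁻¹
  rw [mul_assoc f, mul_inv_cancel, _root_.mul_one, pl_one, _root_.mul_one, hsymm] at hcube
  have hid : pl (𝟙 A) L = L := pull_id _
  rw [hid] at hcube
  have h1 := congrArg (deg K hdim) hcube
  rw [deg_mul, deg_mul, deg_mul, deg_mul] at h1
  have h0 : (f : A ⟶ A) ≠ 1 := by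
    rintro rfl
    apply hf
    have h7 : (𝟙 A : A ⟶ A) = 1 := by
      rw [← IsIso.inv_hom_id (1 : A ⟶ A), MonObj.comp_one]
    rw [h7, inv_one, _root_.mul_one]
  have m1 := isMonHom_mul f (𝟙 A)⁻¹
  have m2 := isMonHom_mul f (𝟙 A)
  rw [deg_pl A hdim hA _ hf L y, deg_pl A hdim hA f h0 L y] at h1
  have h2 : f.left.finrank y = 1 := by
    have : IsIso f.left := inferInstanceAs (IsIso ((Over.forget _).map f))
    rw [Scheme.Hom.finrank_eq_one_of_isIso]
    rfl
  have h3 : 0 ≤ deg K hdim (pl (f * 𝟙 A) L) := by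
    by_cases h : f * 𝟙 A = 1
    · rw [h, pl_one, deg_one]
    · rw [deg_pl A hdim hA _ h L y]
      positivity
  rw [h2] at h1
  push_cast at h1
  have h5 : ((f * (𝟙 A)⁻¹).left.finrank y : ℤ) * deg K hdim L ≤ 4 * deg K hdim L := by
    linarith
  have h6 := le_of_mul_le_mul_right h5 hpos
  exact_mod_cast h6

include hdim in
/-- An automorphism of an elliptic curve over a field which is trivial on a closed subscheme of rank at least five
is trivial. -/
theorem eq_id (ε : A ⟶ A) [IsMonHom ε] [IsIso ε] {G : Over (Spec (CommRingCat.of K))} (i : G ⟶ A)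
    [IsClosedImmersion i.left] [IsFinite G.hom] (pt : Spec (CommRingCat.of K)) (hN : 5 ≤ G.hom.finrank pt)
    (h : i ≫ ε = i) : ε = 𝟙 A := by
  by_contra hne
  have hδ : ε * (𝟙 A)⁻¹ ≠ 1 := fun h1 => hne (by rwa [mul_inv_eq_one] at h1)
  have hcomm : IsCommMonObj A := isCommMonObj_of_isProper_of_geometricallyIntegral A
  have hmon := isMonHom_mul ε (𝟙 A)⁻¹
  obtain ⟨h1, h2, h3⟩ := finite_flat A hdim _ hδ
  have h4 : i ≫ (ε * (𝟙 A)⁻¹) = 1 := by
    rw [MonObj.comp_mul, GrpObj.comp_inv, h, Category.comp_id, mul_inv_cancel]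
  have h5 : i.left ≫ (ε * (𝟙 A)⁻¹).left = G.hom ≫ e₀ A := by
    rw [← Over.comp_left, h4, one_left]
  let P := pullback (ε * (𝟙 A)⁻¹).left (e₀ A)
  have h6 : (pullback.snd (ε * (𝟙 A)⁻¹).left (e₀ A)).finrank pt ≤ 4 := by
    rw [Scheme.Hom.finrank_pullback_snd]
    exact finrank_le_four A hdim ε hδ _
  let l : G.left ⟶ P := pullback.lift i.left G.hom h5
  have h7 : IsClosedImmersion l := by
    have : IsClosedImmersion (l ≫ pullback.fst _ _) := by
      rw [pullback.lift_fst]
      infer_instance
    exact .of_comp _ (pullback.fst (ε * (𝟙 A)⁻¹).left (e₀ A))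
  have h8 := CurveHom.finrank_le l (pullback.snd _ _) pt
  rw [pullback.lift_snd] at h8
  omega

end Main

end K814.EllAut
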