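import Groth.Agent.FlatA.LocalCriterion
import Mathlib.AlgebraicGeometry.Morphisms.FlatRank
import Mathlib.AlgebraicGeometry.Noetherian
import Mathlib.RingTheory.HopkinsLevitzki

/-!
# Flatness of a finite morphism is checked over Artinian local rings
-/

set_option autoImplicit false
universe u

open AlgebraicGeometry CategoryTheory CategoryTheory.Limits TensorProduct

namespace K814.GamAlg

/-- A finite module over a Noetherian ring is flat if all its base changes to Artinian local rings are. -/
theorem flat_of_artin {R : Type u} [CommRing R] [IsNoetherianRing R] (M : Type u) [AddCommGroup M] [Module R M]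
    [Module.Finite R M]
    (h : ∀ (C : Type u) [CommRing C] [Algebra R C] [IsLocalRing C] [IsArtinianRing C], Module.Flat C (C ⊗[R] M)) :
    Module.Flat R M := by
  refine Module.flat_of_localized_maximal M fun P hP => ?_
  let L := Localization.AtPrime P
  have h1 : Module.Flat L (L ⊗[R] M) := by
    refine Groth.Agent.FlatA.LocalCriterion.flat_of_forall_flat_quotient_pow (A := L) (B := L) (N := L ⊗[R] M)
      (IsLocalRing.maximalIdeal L) ?_ fun n hn => ?_
    · rw [Algebra.algebraMap_self, Ideal.map_id]
      exact (IsLocalRing.jacobson_eq_maximalIdeal ⊥ bot_ne_top).ge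
    · let C := L ⧸ IsLocalRing.maximalIdeal L ^ n
      have h2 : IsLocalRing C := by
        have : Nontrivial C := Ideal.Quotient.nontrivial_iff.mpr (by
          intro h3
          have h4 := Ideal.pow_le_self (I := IsLocalRing.maximalIdeal L) hn.ne'
          rw [h3] at h4
          exact (IsLocalRing.maximalIdeal.isMaximal L).ne_top (top_le_iff.mp h4))
        exact IsLocalRing.of_surjective' (Ideal.Quotient.mk _) Ideal.Quotient.mk_surjective
      have h3 : IsArtinianRing C := by
        rw [isArtinianRing_iff_isNilpotent_maximalIdeal]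
        refine ⟨n, ?_⟩
        have h5 : IsLocalRing.maximalIdeal C = (IsLocalRing.maximalIdeal L).map (Ideal.Quotient.mk _) := by
          exact (IsLocalRing.map_maximalIdeal_of_surjective _ Ideal.Quotient.mk_surjective).symm
        rw [h5, ← Ideal.map_pow, Ideal.map_quotient_self]
        rfl
      have h4 := h C
      exact Module.Flat.of_linearEquiv (AlgebraTensorModule.cancelBaseChange R L C C M)
  have h6 : Module.Flat R L := IsLocalization.flat L P.primeCompl
  have h7 : Module.Flat R (L ⊗[R] M) := Module.Flat.trans R L _
  exact Module.Flat.of_linearEquiv ((LocalizedModule.equivTensorProduct P.primeCompl M).restrictScalars R)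

/-- Flatness of a finite morphism to a locally Noetherian scheme is checked over Artinian local rings. -/
theorem flat_of_artin_sch {Z S : Scheme.{u}} (f : Z ⟶ S) [IsFinite f] [IsLocallyNoetherian S]
    (h : ∀ (C : CommRingCat.{u}) [IsLocalRing C] [IsArtinianRing C] (t : Spec C ⟶ S) (X' : Scheme.{u}) (a : X' ⟶ Z)
      (p : X' ⟶ Spec C), IsPullback a p f t → Flat p) :
    Flat f := by
  -- the affine case
  have key : ∀ (R B : CommRingCat.{u}) [IsNoetherianRing R] (φ : R ⟶ B), φ.hom.Finite →
      (∀ (C : CommRingCat.{u}) [IsLocalRing C] [IsArtinianRing C] (t : Spec C ⟶ Spec R) (X' : Scheme.{u})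
        (a : X' ⟶ Spec B) (p : X' ⟶ Spec C), IsPullback a p (Spec.map φ) t → Flat p) → Flat (Spec.map φ) := by
    intro R B _ φ hφ H
    rw [HasRingHomProperty.Spec_iff (P := @Flat)]
    let _ : Algebra R B := φ.hom.toAlgebra
    have hfin : Module.Finite R B := hφ
    refine flat_of_artin (R := R) B fun C _ _ _ _ => ?_
    have h2 := isPullback_SpecMap_of_isPushout _ _ _ _
      (CommRingCat.isPushout_tensorProduct R C B).flip
    have h3 := H (CommRingCat.of C) (Spec.map (CommRingCat.ofHom (algebraMap R C))) _ _ _ h2
    rw [HasRingHomProperty.Spec_iff (P := @Flat)] at h3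
    exact RingHom.flat_algebraMap_iff.mp h3
  refine IsZariskiLocalAtTarget.of_openCover (P := @Flat) (𝒰 := S.affineCover) fun i => ?_
  have hN : IsLocallyNoetherian (S.affineCover.X i) := isLocallyNoetherian_of_isOpenImmersion (S.affineCover.f i)
  have hN' : IsNoetherianRing Γ(S.affineCover.X i, ⊤) :=
    IsLocallyNoetherian.component_noetherian ⟨⊤, isAffineOpen_top _⟩
  let q : pullback f (S.affineCover.f i) ⟶ S.affineCover.X i := pullback.snd f (S.affineCover.f i)
  have hq : IsFinite q := inferInstance
  have hA : IsAffine (pullback f (S.affineCover.f i)) := isAffine_of_isAffineHom q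
  change Flat q
  -- rewrite through the spectra of the global sections
  have e : q = (pullback f (S.affineCover.f i)).isoSpec.hom ≫ Spec.map q.appTop ≫ (S.affineCover.X i).isoSpec.inv := by
    rw [← Category.assoc, Iso.eq_comp_inv, ← Scheme.isoSpec_hom_naturality]
  have hfin : q.appTop.hom.Finite := (HasAffineProperty.iff_of_isAffine (P := @IsFinite)).mp hq |>.2
  have h1 : Flat (Spec.map q.appTop) := by
    refine key _ _ q.appTop hfin fun C _ _ t X' a p hp => ?_
    refine h C (t ≫ (S.affineCover.X i).isoSpec.inv ≫ S.affineCover.f i) X'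
      (a ≫ (pullback f (S.affineCover.f i)).isoSpec.inv ≫ pullback.fst f (S.affineCover.f i)) p ?_
    have h5 : IsPullback ((pullback f (S.affineCover.f i)).isoSpec.inv) (Spec.map q.appTop) q
        ((S.affineCover.X i).isoSpec.inv) := IsPullback.of_horiz_isIso ⟨by
      rw [Iso.inv_comp_eq, ← e]⟩
    exact (hp.paste_horiz h5).paste_horiz (IsPullback.of_hasPullback f (S.affineCover.f i))
  rw [e]
  infer_instance

end K814.GamAlg
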