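import Groth.Agent.AgPol.K814.GamField
import Groth.Agent.AgPol.K814.MumHom
import Groth.Agent.Pic13.H969.BettiFam
import Groth.Agent.AbVar.K524.Jump

/-!
# The fibres of the twisted Mumford class over a base

`A` a group scheme over `S`, `ℓ`, `c` classes on `A`, `nn ℓ c = (m^*ℓ)⁻¹ pr₁^*(ℓ c)` on `A ×_S A`.

* `fiberRank_eq` : Betti numbers on the geometric fibres;
* `pull_nn_base` : base change of `nn` along `S' ⟶ S`;
* `pull_nn_fst` : the restriction of `nn` to the fibre over a point of the second factor is `(φ_ℓ(y))⁻¹ c`.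
-/

set_option autoImplicit false
universe u

open CategoryTheory CategoryTheory.Limits MonoidalCategory CartesianMonoidalCategory AlgebraicGeometry
open scoped MonObj
open Groth.Agent Groth.Agent.Grpsch.PicGrp K814.GamField K732.BC K732.Prim
open K506.Transl (tr phi Inv)

namespace K814.GamFib

/-- Betti numbers on field valued fibres. -/
theorem fiberRank_eq {X Y : Scheme.{u}} (f : X ⟶ Y) [IsProper f] {F : X.Modules} (hF : PicF.IsInvertible F)
    {K : Type u} [Field K] (t : Spec (CommRingCat.of K) ⟶ Y) {X' : Scheme.{u}} (a : X' ⟶ X)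
    (p : X' ⟶ Spec (CommRingCat.of K)) (H : IsPullback a p f t) (n : ℕ) :
    CohIII.fiberRank f F n (t (IsLocalRing.closedPoint K)) = hr (X := Over.mk p) (pull a (mk F hF)) n := by
  let _ : X'.Over (Spec (CommRingCat.of K)) := ⟨p⟩
  rw [pull_mk, hr_mk (X := Over.mk p)]
  exact Pic13.H969.BettiFam.betti_eq_finrank f K t X' a H F (K524.Kun.isQCoh_of_isInvertible hF) n

theorem subsingleton_fiberH_iff {X Y : Scheme.{u}} (f : X ⟶ Y) [IsProper f] {F : X.Modules}
    (hF : PicF.IsInvertible F) (y : Y) (n : ℕ) :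
    Subsingleton (CohIII.fiberH f F y n) ↔ CohIII.fiberRank f F n y = 0 := by
  have h : Module.Finite (Y.residueField y) (CohIII.fiberH f F y n) := K524.Jump.finite_fiberH f hF y n
  exact ⟨fun _ => Module.finrank_zero_of_subsingleton, fun h => Module.finrank_zero_iff.1 h⟩

/-- Every point is under a geometric point. -/
theorem exists_geom {Y : Scheme.{u}} (y : Y) : ∃ (Ω : Type u) (_ : Field Ω) (_ : IsAlgClosed Ω)
    (t : Spec (CommRingCat.of Ω) ⟶ Y), t (IsLocalRing.closedPoint Ω) = y := by
  let Ω := AlgebraicClosure (Y.residueField y)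
  refine ⟨Ω, inferInstance, inferInstance,
    Spec.map (CommRingCat.ofHom (algebraMap (Y.residueField y) Ω)) ≫ Y.fromSpecResidueField y, ?_⟩
  rw [Scheme.Hom.comp_apply, Scheme.fromSpecResidueField_apply]

variable {S : Scheme.{u}} {A : Over S} [GrpObj A]

/-- The twisted Mumford class over any base. -/
noncomputable def nnS (ℓ c : Pic A.left) : Pic (A ⊗ A).left :=
  (pull (fst A A * snd A A).left ℓ)⁻¹ * pull (fst A A).left (ℓ * c)

theorem nn_def {k : Type u} [Field k] {B : Over (Spec (CommRingCat.of k))} [GrpObj B] (ℓ c : Pic B.left) :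
    nn ℓ c = nnS ℓ c := rfl

section base

variable {S' : Scheme.{u}} (t : S' ⟶ S)

/-- The comparison `A_t ⊗ A_t ⟶ (A ⊗ A)_t`. -/
noncomputable abbrev mm (A : Over S) [GrpObj A] : Red.bc t A ⊗ Red.bc t A ⟶ Red.bc t (A ⊗ A) :=
  Functor.LaxMonoidal.μ (Over.pullback t) A A

theorem mm_map_mul : mm t A ≫ (Over.pullback t).map (fst A A * snd A A) =
    fst (Red.bc t A) (Red.bc t A) * snd (Red.bc t A) (Red.bc t A) := by
  have h : (Over.pullback t).map (fst A A * snd A A) =
      (Over.pullback t).map (fst A A) * (Over.pullback t).map (snd A A) := Functor.map_mul _ _ _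
  rw [h, MonObj.comp_mul, Functor.Monoidal.μ_fst, Functor.Monoidal.μ_snd]

theorem map_fst_left {X Y : Over S} (f : X ⟶ Y) : ((Over.pullback t).map f).left ≫ pullback.fst Y.hom t =
    pullback.fst X.hom t ≫ f.left := pullback.lift_fst _ _ _

theorem pull_mm (f : A ⊗ A ⟶ A) (c : Pic A.left) :
    pull (mm t A).left (pull (pullback.fst (A ⊗ A).hom t) (pull f.left c)) =
      pull (mm t A ≫ (Over.pullback t).map f).left (pull (pullback.fst A.hom t) c) := by
  rw [← pull_comp, ← pull_comp, ← pull_comp, Over.comp_left, Category.assoc, Category.assoc, map_fst_left]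

theorem pull_nn_base (ℓ c : Pic A.left) :
    pull (mm t A).left (pull (pullback.fst (A ⊗ A).hom t) (nnS ℓ c)) =
      nnS (A := Red.bc t A) (pull (pullback.fst A.hom t) ℓ) (pull (pullback.fst A.hom t) c) := by
  rw [nnS, nnS, map_mul, map_mul, map_inv, map_inv, pull_mm, pull_mm, mm_map_mul, map_mul]
  congr 2
  have h : mm t A ≫ (Over.pullback t).map (fst A A) = fst (Red.bc t A) (Red.bc t A) :=
    Functor.Monoidal.μ_fst _ _ _
  rw [h]

end base

section point

variable {T : Over S} (a : T ⟶ A)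

/-- The product with the parameter scheme, and `A_T` over `S`. -/
noncomputable abbrev kap (A T : Over S) [GrpObj A] : dn T.hom (Red.bc T.hom A) ⟶ A ⊗ T :=
  Over.homMk (𝟙 _) (by
    rw [Category.id_comp]
    exact pullback.condition)

theorem kap_fst : kap A T ≫ fst A T = prj T.hom A := by
  ext
  exact Category.id_comp _

theorem kap_snd_left : (kap A T ≫ snd A T).left = pullback.snd A.hom T.hom := Category.id_comp _

/-- The point of `A_T` under a `T`-valued point. -/
noncomputable abbrev upt : 𝟙_ (Over T.left) ⟶ Red.bc T.hom A :=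
  up (k := T.hom) (Over.homMk a.left ((Over.w a).trans (Category.id_comp _).symm) :
    dn T.hom (𝟙_ (Over T.left)) ⟶ A)

omit [GrpObj A] in
theorem upt_left_fst : (upt a).left ≫ pullback.fst A.hom T.hom = a.left := up_left_fst _

theorem kap_mul_left : (fst A T * (snd A T ≫ a)).left =
    (𝟙 (Red.bc T.hom A) * (toUnit _ ≫ upt a)).left ≫ pullback.fst A.hom T.hom := by
  have h1 : 𝟙 (Red.bc T.hom A) * (toUnit _ ≫ upt a) = up (prj T.hom A * (dnMap T.hom (toUnit _) ≫
      (Over.homMk a.left ((Over.w a).trans (Category.id_comp _).symm) : dn T.hom (𝟙_ (Over T.left)) ⟶ A))) := by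
    rw [up_mul, up_prj, comp_up]
  have h2 : dnMap T.hom (toUnit (Red.bc T.hom A)) ≫
      (Over.homMk a.left ((Over.w a).trans (Category.id_comp _).symm) : dn T.hom (𝟙_ (Over T.left)) ⟶ A) =
      kap A T ≫ snd A T ≫ a := by
    ext
    change (toUnit (Red.bc T.hom A)).left ≫ a.left = 𝟙 _ ≫ (snd A T).left ≫ a.left
    rw [Category.id_comp]
    congr 1
  rw [h1, up_left_fst, h2, ← kap_fst, ← MonObj.comp_mul]
  exact (Category.id_comp _).symm

/-- Restriction of the twisted Mumford class to the fibre over a point of the second factor. -/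
theorem pull_nn_pt (ℓ c : Pic A.left) :
    (pull (PicF.XTmap A.hom a) (nnS ℓ c) : Pic (PicF.XT A.hom T)) =
      (pull (𝟙 (Red.bc T.hom A) * (toUnit _ ≫ upt a)).left (pull (pullback.fst A.hom T.hom) ℓ) :
        Pic (PicF.XT A.hom T))⁻¹ * (pull (pullback.fst A.hom T.hom) (ℓ * c) : Pic (PicF.XT A.hom T)) := by
  have h3 : A ◁ a ≫ (fst A A * snd A A) = fst A T * (snd A T ≫ a) := by
    rw [MonObj.comp_mul, whiskerLeft_fst, whiskerLeft_snd]
  have h0 : PicF.XTmap A.hom a = (A ◁ a).left := rfl
  have h1 : pull (PicF.XTmap A.hom a) (pull (fst A A * snd A A).left ℓ) =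
      pull (𝟙 (Red.bc T.hom A) * (toUnit _ ≫ upt a)).left (pull (pullback.fst A.hom T.hom) ℓ) := by
    rw [h0, ← pull_comp, ← Over.comp_left, h3, kap_mul_left, pull_comp]
  have h2 : pull (PicF.XTmap A.hom a) (pull (fst A A).left (ℓ * c)) = pull (pullback.fst A.hom T.hom) (ℓ * c) := by
    rw [h0, ← pull_comp, ← Over.comp_left, whiskerLeft_fst]
    rfl
  rw [nnS, map_mul, map_inv, h1, h2]

end point

end K814.GamFib
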