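import Groth.Agent.S1431
import Groth.Agent.Grpsch.CubeClosed
import Groth.Agent.Grpsch.CubeTriv
import Groth.Agent.AgPol.K814.Div

/-!
# Triviality of a rigidified class is represented by a closed subscheme: no Noetherian hypothesis

* `exists_closed` : `f : X ⟶ S` proper flat of finite presentation with geometrically integral fibres, `s` a section,
  `c : Pic X` with `s^* c = 1`: a closed subscheme `Z` of finite presentation such that `T ⟶ S` factors through `Z` if
  and only if `c_T = 1`, for ALL `T`;
* `exists_closed_XT` : the same for classes on `A ×_S T₀`.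
-/

set_option autoImplicit false
universe u

open CategoryTheory Limits MonoidalCategory CartesianMonoidalCategory AlgebraicGeometry
open scoped MonObj

namespace K814.RigClosed

open Groth.Agent.Grpsch.PicGrp Groth.Agent.Fga.RigGrp K732.PicZero K732.Prim K732.Dual K732.CubeSec
open Groth.Agent.Ega2.QCohLocal Groth.Agent.Grpsch Groth.Agent.Grpsch.CubeData

lemma isClosedImmersion_of_isClosed_range {X Y : Scheme.{u}} (i : X ⟶ Y) [IsPreimmersion i]
    (h : IsClosed (Set.range i)) : IsClosedImmersion i where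
  isClosedEmbedding := ⟨i.isEmbedding, h⟩
  stalkMap_surjective := i.stalkMap_surjective

/-- Triviality of a rigidified class. -/
theorem exists_closed {X S : Scheme.{u}} (f : X ⟶ S) [IsProper f] [Flat f] [LocallyOfFinitePresentation f]
    [GeometricallyIntegral f] (s : S ⟶ X) (hs : s ≫ f = 𝟙 S) (c : Pic X) (hc : pull s c = 1) :
    ∃ (Z : Scheme.{u}) (z : Z ⟶ S), IsClosedImmersion z ∧ LocallyOfFinitePresentation z ∧
      ∀ (T : Scheme.{u}) (u : T ⟶ S), (∃ u' : T ⟶ Z, u' ≫ z = u) ↔ pull (pullback.fst f u) c = 1 := by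
  obtain ⟨L, hL, rfl⟩ := exists_mk c
  obtain ⟨W, j, hj1, hj2, hj⟩ := Groth.Agent.S1431.result f
    (fun T g U => Groth.Agent.Grpsch.CubeData.isIso_app (pullback.snd f g) U) L
    (CubeClosed.isFinLocFree_of_isInvertible hL)
  have key : ∀ (T : Scheme.{u}) (u : T ⟶ S), (∃ u' : T ⟶ W, u' ≫ j = u) ↔
      pull (pullback.fst f u) (mk L hL) = 1 := by
    intro T u
    rw [hj T u]
    constructor
    · rintro ⟨N, hN, ⟨e⟩⟩
      let σ : T ⟶ pullback f u := pullback.lift (u ≫ s) (𝟙 T)
        (by rw [Category.assoc, hs, Category.comp_id, Category.id_comp])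
      have h1 : Triv ((Scheme.Modules.pullback s).obj L) := by
        rw [pull_mk, mk_eq_one_iff] at hc
        exact hc
      have h1 : Triv ((Scheme.Modules.pullback σ).obj ((Scheme.Modules.pullback (pullback.fst f u)).obj L)) :=
        triv_square (f := u) (g := s) (pullback.lift_fst _ _ _).symm L h1
      have h2 : Triv ((Scheme.Modules.pullback σ).obj ((Scheme.Modules.pullback (pullback.snd f u)).obj N)) :=
        h1.of_iso ((Scheme.Modules.pullback σ).mapIso e)
      rw [← triv_comp, triv_congr (pullback.lift_snd _ _ _), triv_id] at h2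
      rw [pull_mk, mk_eq_one_iff]
      exact (h2.pullback _).of_iso e.symm
    · intro h
      rw [pull_mk, mk_eq_one_iff] at h
      obtain ⟨e⟩ := h
      refine ⟨Coh.structureModule T, CubeClosed.isFinLocFree_of_isInvertible
        Groth.Agent.Fdesc.LocGen.isInvertible_structureModule, ⟨?_ ≪≫ e.symm⟩⟩
      have h3 : pull (pullback.snd f u) (1 : Pic T) = 1 := map_one _
      rw [Groth.Agent.Grpsch.PicGrp.one_def (X := T), pull_mk, mk_eq_one_iff] at h3
      exact h3.some
  refine ⟨W, j, ?_, hj2, key⟩
  refine isClosedImmersion_of_isClosed_range j ?_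
  have hrange : Set.range j = {z : S | Nonempty
      ((Scheme.Modules.pullback (f.fiberι z)).obj L ≅ Coh.structureModule (f.fiber z))} := by
    ext z
    have h1 := key _ (S.fromSpecResidueField z)
    rw [pull_mk, mk_eq_one_iff] at h1
    constructor
    · rintro ⟨w, rfl⟩
      have h2 : IsIso (j.residueFieldMap w) := by
        have h3 : Function.Surjective (j.residueFieldMap w).hom := by
          intro y
          obtain ⟨x, rfl⟩ := IsLocalRing.residue_surjective y
          obtain ⟨x', rfl⟩ := j.stalkMap_surjective w x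
          exact ⟨IsLocalRing.residue _ x', rfl⟩
        have h4 : Function.Injective (j.residueFieldMap w).hom := RingHom.injective _
        exact (ConcreteCategory.isIso_iff_bijective _).2 ⟨h4, h3⟩
      refine h1.mp ⟨inv (Spec.map (j.residueFieldMap w)) ≫ W.fromSpecResidueField w, ?_⟩
      rw [Category.assoc, IsIso.inv_comp_eq]
      exact (Scheme.Hom.SpecMap_residueFieldMap_fromSpecResidueField j w).symm
    · intro hz
      obtain ⟨g', hg'⟩ := h1.mpr hz
      obtain ⟨pt⟩ : Nonempty (Spec (S.residueField z)) := inferInstance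
      refine ⟨g' pt, ?_⟩
      rw [← Scheme.Hom.comp_apply, hg', Scheme.fromSpecResidueField_apply]
  rw [hrange]
  exact CubeClosed.isClosed_trivialLocus f L hL

variable {S : Scheme.{u}}

theorem exists_closed_XT (A : Over S) [GrpObj A] [IsProper A.hom] [Flat A.hom] [LocallyOfFinitePresentation A.hom]
    [GeometricallyIntegral A.hom] (T₀ : Over S) (c : Pic (PicF.XT A.hom T₀)) (hc : c ∈ rg A T₀) :
    ∃ (Z : Over S) (z : Z ⟶ T₀), IsClosedImmersion z.left ∧ LocallyOfFinitePresentation z.left ∧
      ∀ (T : Over S) (u : T ⟶ T₀), (∃ u' : T ⟶ Z, u' ≫ z = u) ↔ pull (PicF.XTmap A.hom u) c = 1 := by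
  have i1 : IsProper (PicF.XTproj A.hom T₀) := inferInstanceAs (IsProper (pullback.snd A.hom T₀.hom))
  have i2 : Flat (PicF.XTproj A.hom T₀) := inferInstanceAs (Flat (pullback.snd A.hom T₀.hom))
  have i4 : LocallyOfFinitePresentation (PicF.XTproj A.hom T₀) :=
    inferInstanceAs (LocallyOfFinitePresentation (pullback.snd A.hom T₀.hom))
  have i3 : GeometricallyIntegral (PicF.XTproj A.hom T₀) :=
    inferInstanceAs (GeometricallyIntegral (pullback.snd A.hom T₀.hom))
  obtain ⟨Z, z, hz, hz', H⟩ := exists_closed (PicF.XTproj A.hom T₀) (lift (1 : T₀ ⟶ A) (𝟙 T₀)).left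
    (lift_XTproj _ _) c (mem_rg_iff.1 hc)
  refine ⟨Over.mk (z ≫ T₀.hom), Over.homMk z rfl, hz, hz', fun T u ↦ ?_⟩
  have h := isPullback_XTmap (f := A.hom) u
  have e : pullback.fst (PicF.XTproj A.hom T₀) u.left = h.isoPullback.inv ≫ PicF.XTmap A.hom u := by
    rw [h.isoPullback_inv_fst]
  have e' : PicF.XTmap A.hom u = h.isoPullback.hom ≫ pullback.fst (PicF.XTproj A.hom T₀) u.left := by
    rw [h.isoPullback_hom_fst]
  have h0 := H T.left u.left
  constructor
  · rintro ⟨u', hu'⟩
    have h1 := h0.1 ⟨u'.left, congrArg CommaMorphism.left hu'⟩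
    rw [e', pull_comp, h1, map_one]
  · intro h1
    obtain ⟨u', hu'⟩ := h0.2 (by rw [e, pull_comp, h1, map_one])
    refine ⟨Over.homMk u' ?_, ?_⟩
    · change u' ≫ z ≫ T₀.hom = T.hom
      rw [reassoc_of% hu', Over.w]
    · ext1
      exact hu'

end K814.RigClosed
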