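import Groth.Agent.AbVar.K529.TopGlob
import Groth.Agent.AgPol.K814.GamFib
import Groth.Agent.AgPol.K814.RigClosed
import Groth.Agent.AbVar.K528.MumZero

/-!
# Local bases of the twisted Mumford class

* `CP_iff_pull` : over a local ring, `E` has local bases iff its class is trivial;
* `eq_one_iff` : over a local ring the twisted Mumford class is trivial iff the Mumford class is `c`;
* `CP_iff_mum` : the combination.
-/

set_option autoImplicit false
universe u

open CategoryTheory CategoryTheory.Limits MonoidalCategory CartesianMonoidalCategory AlgebraicGeometry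
open scoped MonObj
open Groth.Agent Groth.Agent.Grpsch.PicGrp Groth.Agent.Fga.RigGrp K814.GamFib K528.MumZero
open Groth.Agent.Fdesc.LocGen Groth.Agent.Flat2F.LocBas Groth.Agent.Flat2F.DescLocal K732.CubeSec

namespace K814.GamCP

theorem isInv_of_iso {X : Scheme.{u}} {L M : X.Modules} (e : L ≅ M) (hL : PicF.IsInvertible L) :
    PicF.IsInvertible M := fun x ↦ by
  obtain ⟨U, hx, ⟨a⟩⟩ := hL x
  exact ⟨U, hx, ⟨(Scheme.Modules.restrictFunctor U.ι).mapIso e.symm ≪≫ a⟩⟩

theorem CP_iff_pull {X Y : Scheme.{u}} (f : X ⟶ Y) (hO : UO f) (s : Y ⟶ X) (hs : s ≫ f = 𝟙 Y) {E : X.Modules}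
    (hE : PicF.IsInvertible E) {B : CommRingCat.{u}} [IsLocalRing B] (t : Spec B ⟶ Y) :
    CP f E t ↔ pull (pullback.fst f t) (mk E hE) = 1 := by
  rw [CP_iff_exists t (hO _ t), pull_mk, mk_eq_one_iff]
  constructor
  · rintro ⟨N, hN, ⟨e⟩⟩
    let σ : Spec B ⟶ pullback f t := pullback.lift (t ≫ s) (𝟙 _)
        (by rw [Category.assoc, hs, Category.comp_id, Category.id_comp])
    have h1 : PicF.IsInvertible ((Scheme.Modules.pullback (pullback.fst f t)).obj E) := isInvertible_pullback _ hE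
    have h2 : PicF.IsInvertible N := by
      refine isInv_of_iso ((Scheme.Modules.pullback σ).mapIso e.symm ≪≫
        (Scheme.Modules.pullbackComp _ _).app N ≪≫ (Scheme.Modules.pullbackCongr ?_).app N ≪≫
        (Scheme.Modules.pullbackId _).app N) (isInvertible_pullback σ h1)
      exact pullback.lift_snd _ _ _
    have h4 : mk N h2 = 1 := pic_spec_local B _
    rw [← mk_eq_one_iff h1, ← mk_congr (hL := isInvertible_pullback _ h2) e, ← pull_mk _ h2, h4, map_one]
  · rintro ⟨e⟩
    have h3 : pull (pullback.snd f t) (1 : Pic (Spec B)) = 1 := map_one _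
    rw [Groth.Agent.Grpsch.PicGrp.one_def (X := Spec B), pull_mk, mk_eq_one_iff] at h3
    exact ⟨_, Grpsch.CubeClosed.isFinLocFree_of_isInvertible Fdesc.LocGen.isInvertible_structureModule, ⟨h3.some ≪≫ e.symm⟩⟩

theorem CP_iff_pull' {X Y : Scheme.{u}} (f : X ⟶ Y) (hO : UO f) (s : Y ⟶ X) (hs : s ≫ f = 𝟙 Y) {E : X.Modules}
    (hE : PicF.IsInvertible E) {B : CommRingCat.{u}} [IsLocalRing B] (t : Spec B ⟶ Y) {X' : Scheme.{u}}
    {a : X' ⟶ X} {p : X' ⟶ Spec B} (H : IsPullback a p f t) :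
    CP f E t ↔ pull a (mk E hE) = 1 := by
  rw [CP_iff_pull f hO s hs hE t]
  constructor
  · intro h
    rw [← H.isoPullback_hom_fst, pull_comp, h, map_one]
  · intro h
    rw [← H.isoPullback_inv_fst, pull_comp, h, map_one]

variable {S : Scheme.{u}} {A : Over S} [GrpObj A]

/-- The Mumford class. -/
noncomputable def mumP (ℓ : Pic A.left) : Pic (A ⊗ A).left :=
  pull (fst A A * snd A A).left ℓ * (pull (fst A A).left ℓ)⁻¹ * (pull (snd A A).left ℓ)⁻¹

theorem mumCl_eq (ℓ : Pic A.left) : mumCl A ℓ = mumP ℓ := by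
  have h : (μ[A] : A ⊗ A ⟶ A) = fst A A * snd A A := by
    rw [Hom.mul_def, lift_fst_snd, Category.id_comp]
  rw [mumP, ← h]
  rfl

theorem nnS_mul (ℓ c : Pic A.left) : nnS ℓ c * (pull (snd A A).left ℓ)⁻¹ = (mumP ℓ)⁻¹ * pull (fst A A).left c *
    ((pull (snd A A).left ℓ)⁻¹ * (pull (snd A A).left ℓ)⁻¹) := by
  rw [nnS, mumP, map_mul]
  generalize pull (fst A A * snd A A).left ℓ = x
  generalize pull (fst A A).left ℓ = y
  generalize pull (snd A A).left ℓ = z
  generalize pull (fst A A).left c = w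
  rw [mul_inv, mul_inv, inv_inv, inv_inv]
  have : x⁻¹ * y * z * w * (z⁻¹ * z⁻¹) = x⁻¹ * y * w * z⁻¹ * (z * z⁻¹) := by
    simp only [mul_assoc, mul_left_comm, mul_comm]
  rw [this, mul_inv_cancel, mul_one]
  simp only [mul_assoc]

theorem eq_one_iff {T : Over S} (a : T ⟶ A) (ℓ c : Pic A.left) (ha : pull a.left ℓ = 1) :
    pull (A ◁ a).left (nnS ℓ c) = 1 ↔ pull (A ◁ a).left (mumP ℓ) = pull (fst A T).left c := by
  have h1 : pull (A ◁ a).left (pull (snd A A).left ℓ) = 1 := by
    rw [← pull_comp, ← Over.comp_left, whiskerLeft_snd, Over.comp_left, pull_comp, ha, map_one]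
  have h2 : pull (A ◁ a).left (pull (fst A A).left c) = pull (fst A T).left c := by
    rw [← pull_comp, ← Over.comp_left, whiskerLeft_fst]
  have h3 := congrArg (pull (A ◁ a).left) (nnS_mul ℓ c)
  rw [map_mul, map_mul, map_mul, map_mul, map_inv, map_inv, h1, h2, inv_one, mul_one, mul_one, mul_one] at h3
  rw [h3, inv_mul_eq_one]

/-- The section of the second projection. -/
theorem sec_snd (A : Over S) [GrpObj A] : (lift (1 : A ⟶ A) (𝟙 A)).left ≫ (snd A A).left = 𝟙 _ := by
  rw [← Over.comp_left, lift_snd]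
  rfl

/-- Local bases of the twisted Mumford class over a local ring. -/
theorem CP_iff_mum (hO : UO (snd A A).left) (ℓ c : Pic A.left) {E : (A ⊗ A).left.Modules}
    (hE : PicF.IsInvertible E) (hEc : mk E hE = nnS ℓ c) {B : CommRingCat.{u}} [IsLocalRing B]
    (t : Spec B ⟶ A.left) :
    CP (snd A A).left E t ↔
      pull (A ◁ (Over.homMk t rfl : Over.mk (t ≫ A.hom) ⟶ A)).left (mumP ℓ) =
        pull (fst A (Over.mk (t ≫ A.hom))).left c := by
  rw [← eq_one_iff (Over.homMk t rfl : Over.mk (t ≫ A.hom) ⟶ A) ℓ c (pic_spec_local B _), ← hEc]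
  exact CP_iff_pull' _ hO _ (sec_snd A) hE t
    (K732.PicZero.isPullback_XTmap (f := A.hom) (Over.homMk t rfl : Over.mk (t ≫ A.hom) ⟶ A))

end K814.GamCP
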