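import Groth.Agent.AbVar.K529.TopGlob
import Groth.Agent.Sga4h.Edge
import Groth.Agent.Sga4h.LerayAcyc
import Groth.Agent.S2389
import Groth.Agent.CohqA.InjLift
import Groth.Agent.FEt.K872.Deg

/-!
# The top direct image and flatness of the locus where a family is trivial

`f : X ⟶ Y`, `h : Y ⟶ T`, `j : Z ⟶ Y` the locus where `E` is trivial along the fibres of `f`, `Z` finite over `T`. If
`R^g f_* E = j_* O_Z` is the only direct image and the cohomology of `E` on the fibres of `X ⟶ T` is concentrated in degree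
`g`, of dimension `N`, then `Z` is finite locally free of rank `N` over `T`.
-/

set_option autoImplicit false
universe u

open AlgebraicGeometry CategoryTheory CategoryTheory.Limits TopologicalSpace
open Groth.Agent Groth.Agent.Sga4h Groth.Agent.Flat2F.LocBas Groth.Agent.Flat2F.DescLocal

namespace K814.GamEdge

/-- The first non-vanishing direct image of a composition. -/
theorem nonempty_rpush_comp {X Y T : Scheme.{u}} (f : X ⟶ Y) (h : Y ⟶ T) [Flat f] [HasInjectiveResolutions X.Modules]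
    (M : X.Modules) (g : ℕ) (hz : ∀ p, p < g → IsZero ((Coh.Rpush f p).obj M)) :
    Nonempty ((Coh.Rpush (f ≫ h) g).obj M ≅ (Scheme.Modules.pushforward h).obj ((Coh.Rpush f g).obj M)) := by
  let e1 := (LerayAcyc.rightDerivedCongr (Scheme.Modules.pushforwardComp f h) g).app M
  let e2 := Edge.rightDerivedCompIso (Scheme.Modules.pushforward f) (Scheme.Modules.pushforward h)
    (fun I hI => Groth.Agent.CohqA.InjLift.injective_pushforward f I hI) M g hz
  exact ⟨e1.symm ≪≫ e2⟩

/-- A finite morphism whose direct image of the structure sheaf is locally free of rank `N`. -/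
theorem flat_of_push {Z T : Scheme.{u}} (z : Z ⟶ T) [IsFinite z] (N : ℕ)
    (h : FlatMod.IsFinLocFreeOfRank N ((Scheme.Modules.pushforward z).obj (Coh.structureModule Z))) :
    Flat z ∧ ∀ t, z.finrank t = N := by
  have hfl : Flat z := by
    have key : ∀ y : T, ∃ W : T.Opens, y ∈ W ∧ IsAffineOpen W ∧ (z.app W).hom.Flat := by
      intro y
      obtain ⟨V, hV, hyV, -⟩ := exists_isAffineOpen_mem_and_subset (U := ⊤) (x := y) trivial
      obtain ⟨g, e, hy, he⟩ := Groth.Agent.Ega2.BasSec.exists_isBas_of_finite h hV {y} (Set.finite_singleton y)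
        (Set.singleton_subset_iff.2 hyV)
      obtain ⟨b, -⟩ := (Groth.Agent.Ega2.BasSec.comb_bijective_iff e).mp he.bijective
      refine ⟨T.basicOpen g, hy rfl, hV.basicOpen g, ?_⟩
      let := (z.app (T.basicOpen g)).hom.toAlgebra
      have b' : Module.Basis (Fin N) Γ(T, T.basicOpen g) Γ(Z, z ⁻¹ᵁ (T.basicOpen g)) := b
      have hfree : Module.Free Γ(T, T.basicOpen g) Γ(Z, z ⁻¹ᵁ (T.basicOpen g)) := Module.Free.of_basis b'
      exact (inferInstance : Module.Flat Γ(T, T.basicOpen g) Γ(Z, z ⁻¹ᵁ (T.basicOpen g)))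
    choose W hyW hW hWf using key
    let 𝒰 : T.OpenCover := Scheme.Cover.mkOfCovers T (fun y => Spec Γ(T, W y)) (fun y => (hW y).fromSpec)
      (fun y => ⟨y, by
        have h : y ∈ Set.range (hW y).fromSpec := by
          rw [(hW y).range_fromSpec]
          exact hyW y
        exact h⟩) (fun y => inferInstanceAs (IsOpenImmersion (hW y).fromSpec))
    refine IsZariskiLocalAtTarget.of_openCover (P := @Flat) (𝒰 := 𝒰) fun y => ?_
    have h := Groth.Agent.Grpsch.FibRank.isPullback_fromSpec z (hW y)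
    change Flat (pullback.snd z (hW y).fromSpec)
    rw [← h.isoPullback_inv_snd]
    have h2 : Flat (Spec.map (z.app (W y))) := (HasRingHomProperty.Spec_iff (P := @Flat)).mpr (hWf y)
    infer_instance
  exact ⟨hfl, fun t => K872.Deg.finrank_eq z N h t⟩

/-- The main statement. -/
theorem flat_of_top {X Y Z T : Scheme.{u}} (f : X ⟶ Y) [Flat f] [IsProper f] [LocallyOfFinitePresentation f]
    (h : Y ⟶ T) [IsProper h] [Flat h] [IsLocallyNoetherian T] {E : X.Modules} (hE : PicF.IsInvertible E)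
    (j : Z ⟶ Y) [IsClosedImmersion j] [DiscreteTopology Z] [IsFinite (j ≫ h)] (g N : ℕ)
    (hO : UO f)
    (hZ : ∀ (B : CommRingCat.{u}) [IsLocalRing B] (t : Spec B ⟶ Y), (∃ t', t' ≫ j = t) ↔ CP f E t)
    (hacyc : ∀ y ∉ Set.range j.base, ∀ p, CohIII.fiberRank f E p y = 0)
    (htop : ∀ y p, g < p → CohIII.fiberRank f E p y = 0)
    (hreg : ∀ y ∈ Set.range j.base, K524.FinSupp.HasReg (Y.presheaf.stalk y) g)
    (hone : ∀ y ∈ Set.range j.base, CohIII.fiberRank f E g y = 1)
    (hfib : ∀ t : T, ∀ i, i ≠ g → Subsingleton (CohIII.fiberH (f ≫ h) E t i))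
    (hN : ∀ t : T, CohIII.fiberRank (f ≫ h) E g t = N) :
    Flat (j ≫ h) ∧ ∀ t, (j ≫ h).finrank t = N := by
  have hY : IsLocallyNoetherian Y := LocallyOfFiniteType.isLocallyNoetherian h
  have hinj := Groth.Agent.Dcoh.DerSch.hasInjectiveResolutions X
  obtain ⟨e1⟩ := K529.TopGlob.main f hE j g hacyc htop hreg hO hZ hone
    (M := Coh.structureModule Z) Groth.Agent.Fdesc.LocGen.isInvertible_structureModule
  obtain ⟨e2⟩ := nonempty_rpush_comp f h E g fun p hp => K529.TopMain.isZero_ne f hE j g hacyc htop hreg p hp.ne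
  have hcoh := K529.TopMain.isCoh_of_isInvertible hE
  have hfl := Groth.Agent.Grpsch.CubeClosed.isFlatOver_of_isInvertible (f ≫ h) hE
  obtain ⟨-, h3⟩ := Groth.Agent.S2389.result (f ≫ h) E hcoh hfl g hfib
  let e3 : (Coh.Rpush (f ≫ h) g).obj E ≅ (Scheme.Modules.pushforward (j ≫ h)).obj (Coh.structureModule Z) :=
    e2 ≪≫ (Scheme.Modules.pushforward h).mapIso e1 ≪≫ (Scheme.Modules.pushforwardComp j h).app _
  refine flat_of_push (j ≫ h) N fun t => ?_
  obtain ⟨U, hU, ⟨e4⟩⟩ := h3 t
  rw [hN t] at e4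
  exact ⟨U, hU, ⟨(Scheme.Modules.restrictFunctor U.ι).mapIso e3.symm ≪≫ e4⟩⟩

end K814.GamEdge
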