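import Groth.Agent.CycB.FiberStalk
import Groth.Agent.AbVar.K524.FinSupp
import Groth.Agent.S5774

/-!
# Regular sequences lift from the fibre

* `hasReg_of_fiber` : `f` flat of locally Noetherian schemes; a weakly regular sequence of length `g` in the local ring
  of the fibre lifts to one of the total space.
-/

set_option autoImplicit false
universe u

open CategoryTheory CategoryTheory.Limits AlgebraicGeometry IsLocalRing RingTheory.Sequence
open Groth.Agent Groth.Agent.CycB.FiberStalk

namespace K814.GamReg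

theorem hasReg_of_quotient {A B : Type u} [CommRing A] [CommRing B] [IsLocalRing A] [IsLocalRing B]
    [IsNoetherianRing A] [IsNoetherianRing B] [Algebra A B] [IsLocalHom (algebraMap A B)] [Module.Flat A B]
    [IsLocalRing (B ⧸ (maximalIdeal A).map (algebraMap A B))] {g : ℕ}
    (h : K524.FinSupp.HasReg (B ⧸ (maximalIdeal A).map (algebraMap A B)) g) : K524.FinSupp.HasReg B g := by
  obtain ⟨rs, hrs, hm, hw⟩ := h
  obtain ⟨fs, rfl⟩ : ∃ fs : List B, fs.map (algebraMap B (B ⧸ (maximalIdeal A).map (algebraMap A B))) = rs :=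
    (List.map_surjective_iff.2 Ideal.Quotient.mk_surjective) rs
  refine ⟨fs, by rwa [List.length_map] at hrs, fun r hr => ?_, ?_⟩
  · have h1 := hm _ (List.mem_map_of_mem hr)
    rw [mem_maximalIdeal, mem_nonunits_iff] at h1 ⊢
    exact fun h2 => h1 (h2.map _)
  · rw [isWeaklyRegular_map_algebraMap_iff] at hw
    refine (Groth.Agent.S5774.result A B B fs ?_).1
    refine (LinearEquiv.isWeaklyRegular_congr (Submodule.quotEquivOfEq _ _ ?_) fs).1 hw
    rw [Ideal.smul_eq_mul, Ideal.mul_top]

theorem hasReg_of_fiber {X S : Scheme.{u}} [IsLocallyNoetherian S] [IsLocallyNoetherian X] (f : X ⟶ S) [Flat f]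
    (y : S) (z : f.fiber y) {g : ℕ} (h : K524.FinSupp.HasReg ((f.fiber y).presheaf.stalk z) g) :
    K524.FinSupp.HasReg (X.presheaf.stalk (f.fiberι y z)) g := by
  let e := stalkEquiv f y z
  let := (f.stalkMap (f.fiberι y z)).hom.toAlgebra
  have h1 : algebraMap (S.presheaf.stalk (f (f.fiberι y z))) (X.presheaf.stalk (f.fiberι y z)) =
    (f.stalkMap (f.fiberι y z)).hom := rfl
  have : IsLocalHom (algebraMap (S.presheaf.stalk (f (f.fiberι y z))) (X.presheaf.stalk (f.fiberι y z))) := by
    rw [h1]
    infer_instance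
  have : IsLocalRing (X.presheaf.stalk (f.fiberι y z) ⧸
      (maximalIdeal (S.presheaf.stalk (f (f.fiberι y z)))).map
        (algebraMap (S.presheaf.stalk (f (f.fiberι y z))) (X.presheaf.stalk (f.fiberι y z)))) :=
    inferInstanceAs (IsLocalRing (_ ⧸ fibIdeal f (f.fiberι y z)))
  have hfl : Module.Flat (S.presheaf.stalk (f (f.fiberι y z))) (X.presheaf.stalk (f.fiberι y z)) :=
    Flat.stalkMap f _
  exact hasReg_of_quotient (h.of_equiv e.symm)

end K814.GamReg
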