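import Groth.Agent.AgPol.K814.GamVan
import Groth.Agent.AgPol.K814.GamReg
import Groth.Agent.AgPol.K814.GamCP
import Groth.Agent.AgPol.K814.GamEdge

/-!
# The graph of the polarisation homomorphism over a class is flat: discrete case

`A` an abelian scheme over `S` locally Noetherian, `ℓ`, `c` classes on `A`, `Z ⟶ A` the closed subscheme where the
Mumford class of `ℓ` is `c`. If `Z` is discrete and finite over `S`, it is flat over `S`, of rank `h⁰(ℓ)²`.
-/

set_option autoImplicit false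
universe u

open CategoryTheory CategoryTheory.Limits MonoidalCategory CartesianMonoidalCategory AlgebraicGeometry
open scoped MonObj
open Groth.Agent Groth.Agent.Grpsch.PicGrp Groth.Agent.Grpsch.Cube K814.GamField K814.GamVan K814.GamFib K814.GamCP
open K732.BC
open K506.Transl (tr phi Inv)

namespace K814.GamArt

variable {S : Scheme.{u}} {A : Over S} [GrpObj A]

/-- Base change of a class. -/
noncomputable abbrev bcc {S' : Scheme.{u}} (τ : S' ⟶ S) (c : Pic A.left) : Pic (Red.bc τ A).left :=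
  pull (pullback.fst A.hom τ) c

section point

variable {Ω : Type u} [Field Ω] (t : Spec (CommRingCat.of Ω) ⟶ A.left)

/-- The restriction of the twisted Mumford class to the fibre over a point of the second factor. -/
noncomputable def eT (ℓ c : Pic A.left) : Pic (Red.bc (t ≫ A.hom) A).left :=
  pull (A ◁ (Over.homMk t rfl : Over.mk (t ≫ A.hom) ⟶ A)).left (nnS ℓ c)

theorem rank_pt [IsProper A.hom] (ℓ c : Pic A.left) {E : (A ⊗ A).left.Modules} (hE : PicF.IsInvertible E)
    (hEc : mk E hE = nnS ℓ c) (n : ℕ) :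
    CohIII.fiberRank (snd A A).left E n (t (IsLocalRing.closedPoint Ω)) =
      hr (X := Red.bc (t ≫ A.hom) A) (eT t ℓ c) n := by
  have i1 : IsProper (snd A A).left := inferInstanceAs (IsProper (pullback.snd A.hom A.hom))
  rw [eT, ← hEc]
  exact fiberRank_eq (snd A A).left hE t _ _
    (K732.PicZero.isPullback_XTmap (f := A.hom) (Over.homMk t rfl : Over.mk (t ≫ A.hom) ⟶ A)) n

theorem eT_eq (ℓ c : Pic A.left) : eT t ℓ c =
    (pl (tr (A := Red.bc (t ≫ A.hom) A) (upt (Over.homMk t rfl : Over.mk (t ≫ A.hom) ⟶ A)))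
      (bcc (t ≫ A.hom) ℓ))⁻¹ * (bcc (t ≫ A.hom) ℓ * bcc (t ≫ A.hom) c) := by
  have h := pull_nn_pt (Over.homMk t rfl : Over.mk (t ≫ A.hom) ⟶ A) ℓ c
  rw [map_mul] at h
  exact h

theorem inv_eT [IsAlgClosed Ω] [IsProper A.hom] [GeometricallyIntegral A.hom] (ℓ c : Pic A.left)
    (hc : Inv (bcc (t ≫ A.hom) c)) : Inv (eT t ℓ c) := by
  have i1 : IsProper (Red.bc (t ≫ A.hom) A).hom := inferInstanceAs (IsProper (pullback.snd A.hom (t ≫ A.hom)))
  have i2 : GeometricallyIntegral (Red.bc (t ≫ A.hom) A).hom :=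
    inferInstanceAs (GeometricallyIntegral (pullback.snd A.hom (t ≫ A.hom)))
  rw [eT_eq]
  exact inv_res hc _

theorem eT_eq_one_iff (hO : Groth.Agent.Flat2F.DescLocal.UO (snd A A).left) (ℓ c : Pic A.left)
    {E : (A ⊗ A).left.Modules} (hE : PicF.IsInvertible E) (hEc : mk E hE = nnS ℓ c) :
    eT t ℓ c = 1 ↔ Groth.Agent.Flat2F.LocBas.CP (snd A A).left E t := by
  rw [CP_iff_pull' _ hO _ (sec_snd A) hE t
    (K732.PicZero.isPullback_XTmap (f := A.hom) (Over.homMk t rfl : Over.mk (t ≫ A.hom) ⟶ A)), hEc]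
  exact Iff.rfl

end point

theorem dim_bc (g : ℕ) [SmoothOfRelativeDimension g A.hom] [GeometricallyIntegral A.hom] {K : Type u} [Field K]
    (τ : Spec (CommRingCat.of K) ⟶ S) : topologicalKrullDim (Red.bc τ A).left = g := by
  have := smoothOfRelativeDimension_isStableUnderBaseChange.{u} g
  have i1 : SmoothOfRelativeDimension g (pullback.snd A.hom τ) :=
    MorphismProperty.pullback_snd (P := @SmoothOfRelativeDimension g) _ _ inferInstance
  have i2 : IsIntegral (pullback A.hom τ) := GeometricallyIntegral.isIntegral_of_subsingleton (pullback.snd A.hom τ)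
  exact K504.Hodge.topologicalKrullDim_eq (pullback.snd A.hom τ) g

section fib

variable {Ω : Type u} [Field Ω] (τ : Spec (CommRingCat.of Ω) ⟶ S)

theorem rank_fib [IsProper A.hom] (ℓ c : Pic A.left) {E : (A ⊗ A).left.Modules} (hE : PicF.IsInvertible E)
    (hEc : mk E hE = nnS ℓ c) (n : ℕ) :
    CohIII.fiberRank (A ⊗ A).hom E n (τ (IsLocalRing.closedPoint Ω)) =
      hr (X := Red.bc τ A ⊗ Red.bc τ A) (nn (bcc τ ℓ) (bcc τ c)) n := by
  have i1 : IsProper (A ⊗ A).hom := inferInstanceAs (IsProper (pullback.fst A.hom A.hom ≫ A.hom))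
  have i2 : IsProper (Red.bc τ (A ⊗ A)).hom := inferInstanceAs (IsProper (pullback.snd (A ⊗ A).hom τ))
  have i3 : IsProper (Red.bc τ A).hom := inferInstanceAs (IsProper (pullback.snd A.hom τ))
  have i4 : IsProper (Red.bc τ A ⊗ Red.bc τ A).hom :=
    inferInstanceAs (IsProper (pullback.fst (Red.bc τ A).hom (Red.bc τ A).hom ≫ (Red.bc τ A).hom))
  rw [fiberRank_eq (A ⊗ A).hom hE τ _ _ (IsPullback.of_hasPullback (A ⊗ A).hom τ), hEc]
  have h1 := hr_pull_iso (mm τ A) (pull (pullback.fst (A ⊗ A).hom τ) (nnS ℓ c)) n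
  exact h1.symm.trans (congrArg (fun x => hr (X := Red.bc τ A ⊗ Red.bc τ A) x n) (pull_nn_base τ ℓ c))

end fib

theorem hasReg (g : ℕ) [SmoothOfRelativeDimension g A.hom] [IsProper A.hom] [GeometricallyIntegral A.hom]
    [IsLocallyNoetherian S] (y : A.left) (hy : IsClosed ({y} : Set A.left)) :
    K524.FinSupp.HasReg (A.left.presheaf.stalk y) g := by
  have h0 : Smooth A.hom := SmoothOfRelativeDimension.smooth g A.hom
  have h1 : IsLocallyNoetherian A.left := LocallyOfFiniteType.isLocallyNoetherian A.hom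
  let s := A.hom y
  let B := Red.bc (S.fromSpecResidueField s) A
  have i1 : Smooth B.hom := inferInstanceAs (Smooth (pullback.snd A.hom (S.fromSpecResidueField s)))
  have h2 := K524.Key.hasReg_stalk (k := S.residueField s) B g (dim_bc g _) (A.hom.asFiber y) (by
    have h3 := hy.preimage (A.hom.fiberι s).continuous
    have h4 : (A.hom.fiberι s) ⁻¹' {y} = {A.hom.asFiber y} := by
      ext z
      simp only [Set.mem_preimage, Set.mem_singleton_iff]
      constructor
      · intro h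
        apply (A.hom.fiberι s).isEmbedding.injective
        rw [h, A.hom.fiberι_asFiber]
      · rintro rfl
        exact A.hom.fiberι_asFiber y
    rw [h4] at h3
    exact h3)
  have h5 := K814.GamReg.hasReg_of_fiber A.hom s (A.hom.asFiber y) h2
  rwa [A.hom.fiberι_asFiber] at h5

/-- **The graph is flat: discrete case.** -/
theorem flat_finrank [IsLocallyNoetherian S] [IsProper A.hom] (g : ℕ) [SmoothOfRelativeDimension g A.hom]
    [GeometricallyIntegral A.hom] {ℓ c : Pic A.left}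
    (hℓ : ∀ (Ω : Type u) [Field Ω] [IsAlgClosed Ω] (τ : Spec (CommRingCat.of Ω) ⟶ S),
      ∃ (L : (Red.bc τ A).left.Modules) (hL : CohB1.IsAmple L), mk L hL.1 = bcc τ ℓ)
    (r : ℕ) (hr : ∀ (Ω : Type u) [Field Ω] [IsAlgClosed Ω] (τ : Spec (CommRingCat.of Ω) ⟶ S),
      hr (X := Red.bc τ A) (bcc τ ℓ) 0 = r)
    (hc : ∀ (Ω : Type u) [Field Ω] [IsAlgClosed Ω] (τ : Spec (CommRingCat.of Ω) ⟶ S), Inv (bcc τ c))
    {Z : Scheme.{u}} (j : Z ⟶ A.left) [IsClosedImmersion j] [DiscreteTopology Z] [IsFinite (j ≫ A.hom)]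
    (hZ : ∀ (B : CommRingCat.{u}) [IsLocalRing B] (t : Spec B ⟶ A.left), (∃ t', t' ≫ j = t) ↔
      pull (A ◁ (Over.homMk t rfl : Over.mk (t ≫ A.hom) ⟶ A)).left (mumP ℓ) =
        pull (fst A (Over.mk (t ≫ A.hom))).left c) :
    Flat (j ≫ A.hom) ∧ ∀ s, (j ≫ A.hom).finrank s = r ^ 2 := by
  have hsm : Smooth A.hom := SmoothOfRelativeDimension.smooth g A.hom
  obtain ⟨E, hE, hEc'⟩ := exists_mk (nnS ℓ c)
  have hEc := hEc'.symm
  have i1 : Flat (snd A A).left := inferInstanceAs (Flat (pullback.snd A.hom A.hom))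
  have i2 : IsProper (snd A A).left := inferInstanceAs (IsProper (pullback.snd A.hom A.hom))
  have i3 : LocallyOfFinitePresentation (snd A A).left :=
    inferInstanceAs (LocallyOfFinitePresentation (pullback.snd A.hom A.hom))
  have i4 : GeometricallyIntegral (snd A A).left := inferInstanceAs (GeometricallyIntegral (pullback.snd A.hom A.hom))
  have hO : Groth.Agent.Flat2F.DescLocal.UO (snd A A).left := fun T g U =>
    Groth.Agent.Grpsch.CubeData.isIso_app (pullback.snd (snd A A).left g) U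
  have hw : (snd A A).left ≫ A.hom = (A ⊗ A).hom := Over.w (snd A A)
  have hbc1 : ∀ {S' : Scheme.{u}} (τ : S' ⟶ S), IsProper (Red.bc τ A).hom := fun τ =>
    inferInstanceAs (IsProper (pullback.snd A.hom τ))
  have hbc2 : ∀ {S' : Scheme.{u}} (τ : S' ⟶ S), GeometricallyIntegral (Red.bc τ A).hom := fun τ =>
    inferInstanceAs (GeometricallyIntegral (pullback.snd A.hom τ))
  have hCP := fun (B : CommRingCat.{u}) (_ : IsLocalRing B) (t : Spec B ⟶ A.left) =>
    (hZ B t).trans (CP_iff_mum hO ℓ c hE hEc t).symm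
  have hfibrank : ∀ (s : S) (n : ℕ), ∃ (Ω : Type u) (_ : Field Ω) (_ : IsAlgClosed Ω)
      (τ : Spec (CommRingCat.of Ω) ⟶ S), CohIII.fiberRank ((snd A A).left ≫ A.hom) E n s =
        K814.GamField.hr (X := Red.bc τ A ⊗ Red.bc τ A) (nn (bcc τ ℓ) (bcc τ c)) n := by
    intro s n
    obtain ⟨Ω, _, _, τ, rfl⟩ := exists_geom s
    refine ⟨Ω, inferInstance, inferInstance, τ, ?_⟩
    rw [hw]
    exact rank_fib τ ℓ c hE hEc n
  refine K814.GamEdge.flat_of_top (snd A A).left A.hom hE j g (r ^ 2) hO (fun B _ t => hCP B inferInstance t) ?_ ?_ ?_ ?_ ?_ ?_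
  · intro y hy p
    obtain ⟨Ω, _, _, t, rfl⟩ := exists_geom y
    rw [rank_pt t ℓ c hE hEc]
    have := hbc1 (t ≫ A.hom)
    have := hbc2 (t ≫ A.hom)
    refine hr_eq_zero (inv_eT t ℓ c (hc Ω _)) (fun h => hy ?_) p
    rw [eT_eq_one_iff t hO ℓ c hE hEc] at h
    obtain ⟨t', ht'⟩ := (hCP (CommRingCat.of Ω) inferInstance t).mpr h
    refine ⟨t' (IsLocalRing.closedPoint Ω), ?_⟩
    rw [← Scheme.Hom.comp_apply, ht']
  · intro y p hp
    obtain ⟨Ω, _, _, t, rfl⟩ := exists_geom y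
    rw [rank_pt t ℓ c hE hEc]
    have := hbc1 (t ≫ A.hom)
    exact hr_of_dim (dim_bc g _) _ p hp
  · rintro _ ⟨z, rfl⟩
    refine hasReg g _ ?_
    have h1 := j.isClosedEmbedding.isClosedMap {z} (isClosed_discrete _)
    rwa [Set.image_singleton] at h1
  · rintro _ ⟨z, rfl⟩
    obtain ⟨Ω, _, _, t, rfl⟩ := exists_geom z
    have h1 : (t ≫ j) (IsLocalRing.closedPoint Ω) = j (t (IsLocalRing.closedPoint Ω)) := rfl
    have h2 := rank_pt (t ≫ j) ℓ c hE hEc g
    have h3 : eT (t ≫ j) ℓ c = 1 := by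
      rw [eT_eq_one_iff (t ≫ j) hO ℓ c hE hEc]
      exact (hCP (CommRingCat.of Ω) inferInstance (t ≫ j)).mp ⟨t, rfl⟩
    have := hbc1 ((t ≫ j) ≫ A.hom)
    have := hbc2 ((t ≫ j) ≫ A.hom)
    rw [h3, hr_one g (dim_bc g _), Nat.choose_self] at h2
    exact h2
  · intro s i hi
    have i5 : IsProper ((snd A A).left ≫ A.hom) := inferInstance
    rw [subsingleton_fiberH_iff _ hE]
    obtain ⟨Ω, _, _, τ, hτ⟩ := hfibrank s i
    have := hbc1 τ
    have := hbc2 τ
    rw [hτ]
    obtain ⟨L, hL, hLc⟩ := hℓ Ω τ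
    rw [← hLc]
    exact hr_of_van ((hasIdx_nn g (dim_bc g τ) hL (hc Ω τ)).1 i hi)
  · intro s
    obtain ⟨Ω, _, _, τ, hτ⟩ := hfibrank s g
    have := hbc1 τ
    have := hbc2 τ
    rw [hτ]
    obtain ⟨L, hL, hLc⟩ := hℓ Ω τ
    rw [← hLc, hr_nn g (dim_bc g τ) hL (hc Ω τ), hLc, hr Ω τ]

end K814.GamArt
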