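import Groth.Agent.AgPol.K814.GamArt
import Groth.Agent.AgPol.K814.PrimGeom

/-!
# Base change facts for the twisted Mumford class

* `FA` : fibrewise ample classes; stable under base change;
* `Prm` : primitive classes; stable under base change; translation invariant over fields;
* `pull_mumP_up` : base change of the Mumford class along points.
-/

set_option autoImplicit false
universe u

open CategoryTheory CategoryTheory.Limits MonoidalCategory CartesianMonoidalCategory AlgebraicGeometry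
open scoped MonObj
open Groth.Agent Groth.Agent.Grpsch.PicGrp Groth.Agent.Grpsch.Cube K814.GamField K814.GamVan K814.GamFib K814.GamCP
open K732.BC K732.Prim K732.Dual K732.CubeSec K814.GamArt Groth.Agent.Fga.RigGrp
open K506.Transl (tr phi Inv)

namespace K814.GamBase

/-- Fibrewise ample classes. -/
def FA {X S : Scheme.{u}} (f : X ⟶ S) (ℓ : Pic X) : Prop :=
  ∀ (Ω : Type u) [Field Ω] [IsAlgClosed Ω] (τ : Spec (CommRingCat.of Ω) ⟶ S) (X' : Scheme.{u}) (a : X' ⟶ X)
    (p : X' ⟶ Spec (CommRingCat.of Ω)), IsPullback a p f τ →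
      ∃ (M : X'.Modules) (hM : CohB1.IsAmple M), mk M hM.1 = pull a ℓ

theorem FA.bc {X S : Scheme.{u}} {f : X ⟶ S} {ℓ : Pic X} (h : FA f ℓ) {X' S' : Scheme.{u}} {a : X' ⟶ X} {f' : X' ⟶ S'}
    {τ : S' ⟶ S} (H : IsPullback a f' f τ) : FA f' (pull a ℓ) := by
  intro Ω _ _ τ' X'' a' p' H'
  obtain ⟨M, hM, e⟩ := h Ω (τ' ≫ τ) X'' (a' ≫ a) p' (H'.paste_horiz H)
  exact ⟨M, hM, by rw [e, pull_comp]⟩

variable {S : Scheme.{u}} {A : Over S} [GrpObj A]

/-- Primitive classes. -/
def Prm (A : Over S) [GrpObj A] (c : Pic A.left) : Prop :=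
  pull (fst A A * snd A A).left c = pull (fst A A).left c * pull (snd A A).left c

theorem Prm.bcc {S' : Scheme.{u}} (τ : S' ⟶ S) {c : Pic A.left} (h : Prm A c) : Prm (Red.bc τ A) (bcc τ c) := by
  have h1 := congrArg (fun x => pull (mm τ A).left (pull (pullback.fst (A ⊗ A).hom τ) x)) h
  rw [map_mul, map_mul, pull_mm, pull_mm, pull_mm, mm_map_mul] at h1
  have h2 : mm τ A ≫ (Over.pullback τ).map (fst A A) = fst (Red.bc τ A) (Red.bc τ A) :=
    Functor.Monoidal.μ_fst _ _ _
  have h3 : mm τ A ≫ (Over.pullback τ).map (snd A A) = snd (Red.bc τ A) (Red.bc τ A) :=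
    Functor.Monoidal.μ_snd _ _ _
  rw [h2, h3] at h1
  exact h1

theorem Prm.inv {k : Type u} [Field k] {B : Over (Spec (CommRingCat.of k))} [GrpObj B] {c : Pic B.left}
    (h : Prm B c) : Inv c := by
  refine K506.Transl.inv_of_mul ?_
  have e : (μ[B] : B ⊗ B ⟶ B) = fst B B * snd B B := by
    rw [Hom.mul_def, lift_fst_snd, Category.id_comp]
  rw [e]
  exact h

section up

variable {S' : Scheme.{u}} (τ : S' ⟶ S) {W : Over S'}

theorem pull_up_bcc (x : dn τ W ⟶ A) (c : Pic A.left) : pull (up x).left (bcc τ c) = pull x.left c := by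
  rw [← pull_comp, up_left_fst]

/-- The comparison `A_τ × W ⟶ A × W`. -/
noncomputable def kp (A : Over S) [GrpObj A] (W : Over S') : dn τ (Red.bc τ A ⊗ W) ⟶ A ⊗ dn τ W :=
  Over.homMk (iso τ A W).hom (by
    have h := iso_hom_snd (k := τ) (A := A) (U := W)
    have h2 : (A ⊗ dn τ W).hom = PicF.XTproj A.hom (dn τ W) ≫ W.hom ≫ τ := pullback.condition
    have h3 : (Red.bc τ A ⊗ W).hom = PicF.XTproj (Red.bc τ A).hom W ≫ W.hom := pullback.condition
    rw [h2]
    change _ = (Red.bc τ A ⊗ W).hom ≫ τ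
    rw [h3, ← h]
    simp only [Category.assoc])

theorem up_kp_fst : up (kp τ A W ≫ fst A (dn τ W)) = fst (Red.bc τ A) W := by
  apply hom_ext_bc
  rw [up_left_fst]
  exact iso_hom_fst

theorem kp_snd : kp τ A W ≫ snd A (dn τ W) = dnMap τ (snd (Red.bc τ A) W) := by
  ext
  exact iso_hom_snd

theorem pull_kp (x : dn τ W ⟶ A) (f : A ⊗ A ⟶ A) (f' : Red.bc τ A ⊗ Red.bc τ A ⟶ Red.bc τ A)
    (h : Red.bc τ A ◁ up x ≫ f' = up (kp τ A W ≫ A ◁ x ≫ f)) (c : Pic A.left) :
    pull (Red.bc τ A ◁ up x).left (pull f'.left (bcc τ c)) =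
      pull (kp τ A W).left (pull (A ◁ x).left (pull f.left c)) := by
  have h1 : pull (Red.bc τ A ◁ up x).left (pull f'.left (bcc τ c)) =
      pull (Red.bc τ A ◁ up x ≫ f').left (bcc τ c) := by
    rw [Over.comp_left, pull_comp]
  rw [h1, h, pull_up_bcc, Over.comp_left, pull_comp, Over.comp_left, pull_comp]

/-- Base change of the Mumford class along points. -/
theorem pull_mumP_up (x : dn τ W ⟶ A) (ℓ : Pic A.left) :
    pull (Red.bc τ A ◁ up x).left (mumP (bcc τ ℓ)) =
      pull (kp τ A W).left (pull (A ◁ x).left (mumP ℓ)) := by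
  have e1 : Red.bc τ A ◁ up x ≫ (fst (Red.bc τ A) (Red.bc τ A) * snd (Red.bc τ A) (Red.bc τ A)) =
      up (kp τ A W ≫ A ◁ x ≫ (fst A A * snd A A)) := by
    rw [MonObj.comp_mul, whiskerLeft_fst, whiskerLeft_snd, MonObj.comp_mul, whiskerLeft_fst, whiskerLeft_snd,
      MonObj.comp_mul, up_mul, up_kp_fst, ← Category.assoc (kp τ A W), kp_snd, comp_up]
  have e2 : Red.bc τ A ◁ up x ≫ fst (Red.bc τ A) (Red.bc τ A) = up (kp τ A W ≫ A ◁ x ≫ fst A A) := by
    rw [whiskerLeft_fst, whiskerLeft_fst, up_kp_fst]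
  have e3 : Red.bc τ A ◁ up x ≫ snd (Red.bc τ A) (Red.bc τ A) = up (kp τ A W ≫ A ◁ x ≫ snd A A) := by
    rw [whiskerLeft_snd, whiskerLeft_snd, ← Category.assoc (kp τ A W), kp_snd, comp_up]
  rw [mumP, mumP, map_mul, map_mul, map_mul, map_mul, map_mul, map_mul, map_inv, map_inv, map_inv, map_inv, map_inv,
    map_inv, pull_kp τ x _ _ e1, pull_kp τ x _ _ e2, pull_kp τ x _ _ e3]

/-- Base change of a class pulled back along the first projection. -/
theorem pull_fst_kp (c : Pic A.left) : pull (fst (Red.bc τ A) W).left (bcc τ c) =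
    pull (kp τ A W).left (pull (fst A (dn τ W)).left c) := by
  rw [← up_kp_fst, pull_up_bcc, Over.comp_left, pull_comp]

instance : IsIso (kp τ A W).left := inferInstanceAs (IsIso (iso τ A W).hom)

theorem pull_kp_inj {c d : Pic (A ⊗ dn τ W).left} : pull (kp τ A W).left c = pull (kp τ A W).left d ↔ c = d := by
  constructor
  · intro h
    have h1 := congrArg (fun x => pull (inv (kp τ A W).left) x) h
    simp only [← pull_comp, IsIso.inv_hom_id, pull_id] at h1
    exact h1
  · intro h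
    rw [h]

end up

end K814.GamBase
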