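import Groth.Agent.AbVar.K524.Bc
import Groth.Agent.AbVar.K511.AmpleVan
import Groth.Agent.AbVar.K512.PhiSurj
import Groth.Agent.AbSch.K450.RRChi
import Groth.Agent.S7635

/-!
# The twisted Mumford class over an algebraically closed field

`A` an abelian variety, `L` ample with class `ℓ`, `c` a translation invariant class. The class
`nn ℓ c = (m^*ℓ)⁻¹ pr₁^*(ℓ c)` on `A × A` has cohomology in degree `g = dim A` only, of dimension `h⁰(L)²`.
-/

set_option autoImplicit false
universe u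

open CategoryTheory CategoryTheory.Limits MonoidalCategory CartesianMonoidalCategory AlgebraicGeometry
open scoped MonObj
open Groth.Agent Groth.Agent.Grpsch.PicGrp Groth.Agent.Grpsch.Cube K524.Kun K524.PicZeroVan K512.Slice K524.Index
open K524.Chi K524.Bc
open K506.Transl (tr phi Inv)

namespace K814.GamField

variable {k : Type u} [Field k]

/-- The dimension of the cohomology of a class. -/
noncomputable def hr {X : Over (Spec (CommRingCat.of k))} (c : Pic X.left) (n : ℕ) : ℕ :=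
  @Module.finrank k (Coh.HH X.left (exists_mk c).choose n) _ _
    (@Coh.moduleOver k _ X.left ⟨X.hom⟩ (exists_mk c).choose n)

theorem finrank_congr {X : Over (Spec (CommRingCat.of k))} {M N : X.left.Modules} (e : M ≅ N) (n : ℕ) :
    @Module.finrank k (Coh.HH X.left M n) _ _ (@Coh.moduleOver k _ X.left ⟨X.hom⟩ M n) =
    @Module.finrank k (Coh.HH X.left N n) _ _ (@Coh.moduleOver k _ X.left ⟨X.hom⟩ N n) := by
  let _ : X.left.Over (Spec (CommRingCat.of k)) := ⟨X.hom⟩
  exact (CurvesA.HHMap.equivOver k e n).finrank_eq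

theorem hr_mk {X : Over (Spec (CommRingCat.of k))} {L : X.left.Modules} (hL : PicF.IsInvertible L) (n : ℕ) :
    hr (mk L hL) n = @Module.finrank k (Coh.HH X.left L n) _ _ (@Coh.moduleOver k _ X.left ⟨X.hom⟩ L n) := by
  obtain ⟨h, h'⟩ := (exists_mk (mk L hL)).choose_spec
  obtain ⟨e⟩ := (mk_eq_iff _ _).mp h'
  exact finrank_congr e.symm n

theorem hr_of_van {X : Over (Spec (CommRingCat.of k))} {c : Pic X.left} {n : ℕ} (h : Van c n) : hr c n = 0 := by
  obtain ⟨L, hL, rfl⟩ := exists_mk c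
  rw [hr_mk hL]
  have := (van_mk hL n).mp h
  let _ : X.left.Over (Spec (CommRingCat.of k)) := ⟨X.hom⟩
  exact Module.finrank_zero_of_subsingleton

theorem chi_eq_hr {X : Over (Spec (CommRingCat.of k))} [IsProper X.hom] {c : Pic X.left} {i : ℕ} (h : HasIdx c i) :
    chi c = (-1) ^ i * (hr c i : ℤ) := by
  obtain ⟨L, hL, rfl⟩ := exists_mk c
  rw [hr_mk hL, chi_eq hL h]

/-- Invariance under isomorphisms over the field. -/
theorem hr_pull_iso {X Y : Over (Spec (CommRingCat.of k))} [IsProper X.hom] [IsProper Y.hom] (e : X ⟶ Y)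
    [IsIso e] (c : Pic Y.left) (n : ℕ) : hr (pl e c) n = hr c n := by
  obtain ⟨L, hL, rfl⟩ := exists_mk c
  have : IsIso e.left := Grpsch.MulFin.isIso_left _
  let _ : X.left.Over (Spec (CommRingCat.of k)) := ⟨X.hom⟩
  let _ : Y.left.Over (Spec (CommRingCat.of k)) := ⟨Y.hom⟩
  have h1 : IsProper (Y.left ↘ Spec (CommRingCat.of k)) := ‹IsProper Y.hom›
  have h2 : IsPullback e.left (X.left ↘ Spec (CommRingCat.of k)) (Y.left ↘ Spec (CommRingCat.of k))
      (Spec.map (CommRingCat.ofHom (algebraMap k k))) := by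
    have h3 : Spec.map (CommRingCat.ofHom (algebraMap k k)) = 𝟙 _ := by
      rw [Algebra.algebraMap_self]
      exact Spec.map_id _
    rw [h3]
    exact IsPullback.of_horiz_isIso ⟨(Over.w e).trans (Category.comp_id _).symm⟩
  have h4 := K524.Num.finrank_baseChange k Y.left k X.left e.left h2 L (isQCoh_of_isInvertible hL) n
  rw [pull_mk, hr_mk, hr_mk hL]
  exact h4

/-- Künneth for classes with an index. -/
theorem hr_box {X Y : Over (Spec (CommRingCat.of k))} [IsProper X.hom] [IsProper Y.hom] {c : Pic X.left}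
    {d : Pic Y.left} {i j : ℕ} (h : HasIdx c i) (h' : HasIdx d j) :
    hr (pl (fst X Y) c * pl (snd X Y) d) (i + j) = hr c i * hr d j := by
  obtain ⟨L, hL, rfl⟩ := exists_mk c
  obtain ⟨M, hM, rfl⟩ := exists_mk d
  let _ : X.left.Over (Spec (CommRingCat.of k)) := ⟨X.hom⟩
  let _ : Y.left.Over (Spec (CommRingCat.of k)) := ⟨Y.hom⟩
  have h1 : IsProper (X.left ↘ Spec (CommRingCat.of k)) := ‹IsProper X.hom›
  have h2 : IsProper (Y.left ↘ Spec (CommRingCat.of k)) := ‹IsProper Y.hom›
  have c1 : CompactSpace X.left := QuasiCompact.compactSpace_of_compactSpace X.hom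
  have c2 : CompactSpace Y.left := QuasiCompact.compactSpace_of_compactSpace Y.hom
  let iO : (pullback (X.left ↘ (Spec (CommRingCat.of k))) (Y.left ↘ (Spec (CommRingCat.of k)))).Over
      (Spec (CommRingCat.of k)) := ⟨pullback.fst (X.left ↘ (Spec (CommRingCat.of k)))
        (Y.left ↘ (Spec (CommRingCat.of k))) ≫ (X.left ↘ (Spec (CommRingCat.of k)))⟩
  obtain ⟨e⟩ := Groth.Agent.S7635.kunneth_aux k X.left Y.left L (isQCoh_of_isInvertible hL) M
    (isQCoh_of_isInvertible hM) (i + j)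
  rw [pull_mk, pull_mk, mk_mul_mk, hr_mk, hr_mk hL, hr_mk hM]
  have f1 : ∀ n, Module.Finite k (Coh.HH X.left L n) := fun n => finite_HH (X := X) hL n
  have f2 : ∀ n, Module.Finite k (Coh.HH Y.left M n) := fun n => finite_HH (X := Y) hM n
  refine e.finrank_eq.trans ?_
  rw [Module.finrank_directSum]
  rw [Finset.sum_eq_single (⟨(i, j), Finset.mem_antidiagonal.mpr rfl⟩ : Finset.antidiagonal (i + j))]
  · exact Module.finrank_tensorProduct ..
  · rintro ⟨⟨a, b⟩, hab⟩ - hne
    have hab' := Finset.mem_antidiagonal.mp hab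
    rw [Module.finrank_tensorProduct]
    by_cases ha : a = i
    · have hb : b ≠ j := by
        rintro rfl
        exact hne (by subst ha; rfl)
      have := (van_mk hM b).mp (h'.1 b hb)
      rw [Module.finrank_zero_of_subsingleton (M := Coh.HH Y.left M b), mul_zero]
    · have := (van_mk hL a).mp (h.1 a ha)
      rw [Module.finrank_zero_of_subsingleton (M := Coh.HH X.left L a), zero_mul]
  · intro h
    exact absurd (Finset.mem_univ _) h

section

variable [IsAlgClosed k] {A : Over (Spec (CommRingCat.of k))} [GrpObj A] [IsProper A.hom] [GeometricallyIntegral A.hom]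

/-- The twisted Mumford class. -/
noncomputable def nn (ℓ c : Pic A.left) : Pic (A ⊗ A).left :=
  (pl (fst A A * snd A A) ℓ)⁻¹ * pl (fst A A) (ℓ * c)

omit [IsAlgClosed k] [IsProper A.hom] [GeometricallyIntegral A.hom] in
theorem nn_eq (ℓ c : Pic A.left) :
    nn ℓ c = pl (shear (𝟙 A)).hom (pl (fst A A) (ℓ * c) * pl (snd A A) ℓ⁻¹) := by
  rw [map_mul, ← pull_comp, ← pull_comp, ← Over.comp_left, ← Over.comp_left, shear_hom_fst, shear_hom_snd,
    Category.comp_id, nn, map_inv, mul_comm]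

omit [IsAlgClosed k] in
/-- Ample classes are nondegenerate, of index zero. -/
theorem nd_of_isAmple {L : A.left.Modules} (hL : CohB1.IsAmple L) : ND (mk L hL.1) := by
  have h := K512.PhiSurj.finite_of_isAmple L hL
  refine h.subset fun x hx => ?_
  have hx' : phi (mk L hL.1) x = 1 := hx
  rw [phi, mul_inv_eq_one] at hx'
  exact hx'

theorem hasIdx_of_isAmple (g : ℕ) (hg : topologicalKrullDim A.left = g) {L : A.left.Modules} (hL : CohB1.IsAmple L) :
    HasIdx (mk L hL.1) 0 ∧ HasIdx (mk L hL.1)⁻¹ g := by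
  obtain ⟨i, hi, h1, h2⟩ := (nd_of_isAmple hL).exists_idx g hg
  have hi0 : i = 0 := by
    by_contra hne
    exact h1.2 ((van_mk hL.1 i).mpr (K511.AmpleVan.vanish A L hL i (Nat.pos_of_ne_zero hne)))
  subst hi0
  exact ⟨h1, h2⟩

omit [IsAlgClosed k] in
theorem chi_inv (g : ℕ) (hg : topologicalKrullDim A.left = g) (c : Pic A.left) : chi c⁻¹ = (-1) ^ g * chi c := by
  obtain ⟨L, hL, rfl⟩ := exists_mk c
  obtain ⟨M, hM, hM'⟩ := exists_mk (mk L hL)⁻¹
  have h2 : mk L hL * mk M hM = 1 := by rw [← hM', mul_inv_cancel]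
  rw [hM', chi_mk, chi_mk]
  have h1 := K450.RRChi.chi_inv k A g hg L M hL hM (by
    rw [mk_mul_mk] at h2
    obtain ⟨e⟩ := (mk_eq_iff _ _).mp h2
    exact Fga.PicMon.mc_eq e)
  rwa [K450.RRChi.chi_mc k A g hg, K450.RRChi.chi_mc k A g hg] at h1

theorem hasIdx_nn (g : ℕ) (hg : topologicalKrullDim A.left = g) {L : A.left.Modules} (hL : CohB1.IsAmple L)
    {c : Pic A.left} (hc : Inv c) : HasIdx (nn (mk L hL.1) c) g := by
  obtain ⟨h1, h2⟩ := hasIdx_of_isAmple g hg hL
  have h3 := (h1.twist (nd_of_isAmple hL) hc).box h2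
  rw [zero_add] at h3
  rw [nn_eq]
  have : IsIso (shear (𝟙 A)).hom.left := inferInstance
  exact (hasIdx_pull_iso _ _ _).mpr h3

theorem hr_nn (g : ℕ) (hg : topologicalKrullDim A.left = g) {L : A.left.Modules} (hL : CohB1.IsAmple L)
    {c : Pic A.left} (hc : Inv c) : hr (nn (mk L hL.1) c) g = hr (mk L hL.1) 0 ^ 2 := by
  obtain ⟨h1, h2⟩ := hasIdx_of_isAmple g hg hL
  have h3 := hr_box (h1.twist (nd_of_isAmple hL) hc) h2
  rw [zero_add] at h3
  have hp : IsProper (A ⊗ A).hom := inferInstanceAs (IsProper (pullback.fst A.hom A.hom ≫ A.hom))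
  rw [nn_eq, hr_pull_iso, h3, sq]
  have h4 : hr (mk L hL.1 * c) 0 = hr (mk L hL.1) 0 := by
    obtain ⟨x, hx⟩ := K512.PhiSurj.exists_eq (mk L hL.1) c (K512.PhiSurj.finite_of_isAmple L hL) hc
    have : IsIso (tr (A := A) x) := ⟨tr x⁻¹, by rw [K506.Transl.tr_comp_tr, mul_inv_cancel, K506.Transl.tr_one],
      by rw [K506.Transl.tr_comp_tr, inv_mul_cancel, K506.Transl.tr_one]⟩
    rw [← hx]
    exact hr_pull_iso (tr x) _ _
  have h5 : hr (mk L hL.1)⁻¹ g = hr (mk L hL.1) 0 := by
    have h6 := chi_inv g hg (mk L hL.1)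
    rw [chi_eq_hr h1, chi_eq_hr h2, pow_zero, one_mul] at h6
    have h7 : ((-1 : ℤ)) ^ g ≠ 0 := pow_ne_zero _ (by norm_num)
    exact_mod_cast mul_left_cancel₀ h7 h6
  rw [h4, h5]

end

end K814.GamField
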