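import Groth.Agent.AgPol.K814.GamLim

/-!
# The scheme of points where the Mumford class takes a given value: arbitrary parameter schemes

* `exists_gam` : existence;
* `isPullback_gam` : base change;
* `main` : over a locally Noetherian base `S`, for every `T` and every rigidified `Pic⁰` class `c` on `A × T`, the scheme
  `Γ ⟶ T` of the `a` with `φ_L(a) = c` is finite flat surjective of rank `h⁰(L)²`.
-/

set_option autoImplicit false
universe u

open CategoryTheory CategoryTheory.Limits MonoidalCategory CartesianMonoidalCategory AlgebraicGeometry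
open scoped MonObj
open Groth.Agent Groth.Agent.Grpsch.PicGrp Groth.Agent.Ega3B.LimInv Groth.Agent.Etcore.FGLim
open K732.BC K732.Prim K732.Dual K732.CubeSec K732.PicZero Groth.Agent.Fga.RigGrp
open K814.GamCP K814.GamBase K814.GamN K814.GamLim

namespace K814.GamG

/-- A local property of the target, checked on open immersions. -/
theorem of_open (P : MorphismProperty Scheme.{u}) [IsZariskiLocalAtTarget P] {X Y : Scheme.{u}} (f : X ⟶ Y)
    (h : ∀ y : Y, ∃ (V W : Scheme.{u}) (o : V ⟶ Y) (_ : IsOpenImmersion o) (a : W ⟶ X) (f' : W ⟶ V),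
      y ∈ Set.range o ∧ IsPullback a f' f o ∧ P f') : P f := by
  refine IsZariskiLocalAtTarget.of_forall_exists_morphismRestrict fun y => ?_
  obtain ⟨V, W, o, ho, a, f', hy, H, hP⟩ := h y
  refine ⟨o.opensRange, hy, ?_⟩
  rw [P.arrow_mk_iso_iff (morphismRestrictOpensRange f o)]
  rw [← H.isoPullback_inv_snd]
  exact (P.cancel_left_of_respectsIso _ _).2 hP

/-- Affine charts. -/
theorem exists_chart {S : Scheme.{u}} [IsLocallyNoetherian S] (T : Over S) (t : T.left) :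
    ∃ (R B : Type u) (_ : CommRing R) (_ : CommRing B) (_ : IsNoetherianRing R) (_ : Algebra R B)
      (ρ : Spec (CommRingCat.of R) ⟶ S) (o : TB B ρ ⟶ T), IsOpenImmersion o.left ∧ t ∈ Set.range o.left := by
  obtain ⟨U, hU, hx, -⟩ := exists_isAffineOpen_mem_and_subset (X := S) (x := T.hom t) (U := ⊤) trivial
  obtain ⟨V, hV, hy, hVU⟩ := exists_isAffineOpen_mem_and_subset (X := T.left) (x := t) (U := T.hom ⁻¹ᵁ U) hx
  let φ := T.hom.appLE U V hVU
  refine ⟨Γ(S, U), Γ(T.left, V), inferInstance, inferInstance, IsLocallyNoetherian.component_noetherian ⟨U, hU⟩,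
    φ.hom.toAlgebra, hU.fromSpec, ?_⟩
  let _ : Algebra Γ(S, U) Γ(T.left, V) := φ.hom.toAlgebra
  let o : TB Γ(T.left, V) hU.fromSpec ⟶ T := Over.homMk hV.fromSpec
    (IsAffineOpen.SpecMap_appLE_fromSpec T.hom hU hV hVU).symm
  refine ⟨o, inferInstanceAs (IsOpenImmersion hV.fromSpec), ?_⟩
  have h : Set.range hV.fromSpec = V := hV.range_fromSpec
  rw [← SetLike.mem_coe, ← h] at hy
  exact hy

theorem isLocallyNoetherian_TT {S : Scheme.{u}} {R B : Type u} [CommRing R] [CommRing B] [IsNoetherianRing R]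
    [Algebra R B] (ρ : Spec (CommRingCat.of R) ⟶ S) (j : (FGSub R B)ᵒᵖ) : IsLocallyNoetherian (TT ρ j).left := by
  have h1 : Algebra.FiniteType R j.unop.1 := j.unop.1.fg_iff_finiteType.1 j.unop.2
  have h2 : IsNoetherianRing j.unop.1 := Algebra.FiniteType.isNoetherianRing R _
  exact inferInstanceAs (IsLocallyNoetherian (Spec (CommRingCat.of j.unop.1)))

variable {S : Scheme.{u}} {A : Over S} [GrpObj A]

theorem pull_lift_mumP {W : Over S} (x y : W ⟶ A) (ℓ : Pic A.left) :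
    pull (lift x y).left (mumP ℓ) = pull (x * y).left ℓ * (pull x.left ℓ)⁻¹ * (pull y.left ℓ)⁻¹ := by
  rw [mumP, map_mul, map_mul, map_inv, map_inv, ← pull_comp, ← pull_comp, ← pull_comp, ← Over.comp_left,
    ← Over.comp_left, ← Over.comp_left, MonObj.comp_mul, lift_fst, lift_snd]

theorem pull_one {ℓ : Pic A.left} (hη : pull η[A].left ℓ = 1) {W : Over S} : pull (1 : W ⟶ A).left ℓ = 1 := by
  have h : (1 : W ⟶ A) = toUnit W ≫ η[A] := rfl
  rw [h, Over.comp_left, pull_comp, hη, map_one]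

theorem mumP_mem_rg {ℓ : Pic A.left} (hη : pull η[A].left ℓ = 1) : (mumP ℓ : Pic (PicF.XT A.hom A)) ∈ rg A A := by
  rw [mem_rg_iff]
  refine (pull_lift_mumP (1 : A ⟶ A) (𝟙 A) ℓ).trans ?_
  rw [one_mul, pull_one hη, inv_one, mul_one, mul_inv_cancel]

/-- Existence of the scheme of points where the Mumford class is `c`. -/
theorem exists_gam [IsProper A.hom] [Flat A.hom] [LocallyOfFinitePresentation A.hom] [GeometricallyIntegral A.hom]
    {ℓ : Pic A.left} (hη : pull η[A].left ℓ = 1) {T : Over S} {c : Pic (PicF.XT A.hom T)} (hc : c ∈ rg A T) :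
    ∃ (Γ : Over S) (i : Γ ⟶ A ⊗ T), IsClosedImmersion i.left ∧ LocallyOfFinitePresentation i.left ∧
      ∀ {W : Over S} (a : W ⟶ A) (g : W ⟶ T), (∃ w : W ⟶ Γ, w ≫ i = lift a g) ↔
        pull (A ◁ a).left (mumP ℓ) = pull (A ◁ g).left c := by
  have hd : pull (PicF.XTmap A.hom (fst A T)) (mumP ℓ) * (pull (PicF.XTmap A.hom (snd A T)) c)⁻¹ ∈ rg A (A ⊗ T) :=
    mul_mem (pull_mem _ (mumP_mem_rg hη)) (inv_mem (pull_mem _ hc))
  obtain ⟨Γ, i, h1, h2, h3⟩ := K814.RigClosed.exists_closed_XT A (A ⊗ T) _ hd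
  refine ⟨Γ, i, h1, h2, fun {W} a g => (h3 W (lift a g)).trans ?_⟩
  rw [map_mul, map_inv, ← pull_comp, ← pull_comp, ← XTmap_comp, ← XTmap_comp, lift_fst, lift_snd, mul_inv_eq_one]
  exact Iff.rfl

section bc

variable {ℓ : Pic A.left} {T T' Γ Γ' : Over S} {c : Pic (PicF.XT A.hom T)} (g : T' ⟶ T) (i : Γ ⟶ A ⊗ T)
  (i' : Γ' ⟶ A ⊗ T') [IsClosedImmersion i.left] [IsClosedImmersion i'.left]
  (hΓ : ∀ {W : Over S} (a : W ⟶ A) (g : W ⟶ T), (∃ w : W ⟶ Γ, w ≫ i = lift a g) ↔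
        pull (A ◁ a).left (mumP ℓ) = pull (A ◁ g).left c)
  (hΓ' : ∀ {W : Over S} (a : W ⟶ A) (g' : W ⟶ T'), (∃ w : W ⟶ Γ', w ≫ i' = lift a g') ↔
        pull (A ◁ a).left (mumP ℓ) = pull (A ◁ g').left (pull (PicF.XTmap A.hom g) c))

include hΓ hΓ'

/-- Base change. -/
theorem isPullback_gam : ∃ h : Γ' ⟶ Γ, IsPullback h (i' ≫ snd A T') (i ≫ snd A T) g := by
  have m1 : Mono i := by
    have : Mono i.left := inferInstance
    exact Over.mono_of_mono_left i
  have m2 : Mono i' := by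
    have : Mono i'.left := inferInstance
    exact Over.mono_of_mono_left i'
  have key : ∀ {W : Over S} (a : W ⟶ A) (g' : W ⟶ T'), (∃ w : W ⟶ Γ', w ≫ i' = lift a g') ↔
      ∃ w : W ⟶ Γ, w ≫ i = lift a (g' ≫ g) := by
    intro W a g'
    rw [hΓ, hΓ']
    have e : pull (A ◁ g').left (pull (PicF.XTmap A.hom g) c) = pull (A ◁ (g' ≫ g)).left c := by
      rw [MonoidalCategory.whiskerLeft_comp, Over.comp_left]
      exact (pull_comp _ _ _).symm
    rw [e]
  obtain ⟨h, hh⟩ := (key (i' ≫ fst A T') (i' ≫ snd A T')).1 ⟨𝟙 _, by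
    rw [Category.id_comp]
    ext1 <;> simp⟩
  have hw : h ≫ i ≫ snd A T = (i' ≫ snd A T') ≫ g := by
    rw [← Category.assoc, hh, lift_snd]
  have hex : ∀ s : PullbackCone (i ≫ snd A T) g, ∃ w : s.pt ⟶ Γ', w ≫ i' = lift (s.fst ≫ i ≫ fst _ _) s.snd := by
    intro s
    rw [key]
    refine ⟨s.fst, ?_⟩
    ext1
    · rw [Category.assoc, lift_fst]
    · rw [Category.assoc, lift_snd]
      exact s.condition
  choose w hw' using hex
  have hfst : ∀ s, w s ≫ h = s.fst := by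
    intro s
    rw [← cancel_mono i, Category.assoc, hh]
    ext1
    · rw [Category.assoc, lift_fst, ← Category.assoc, hw', lift_fst, Category.assoc]
    · rw [Category.assoc, lift_snd, ← Category.assoc, ← Category.assoc, hw', lift_snd, Category.assoc]
      exact s.condition.symm
  have hsnd : ∀ s, w s ≫ i' ≫ snd A T' = s.snd := by
    intro s
    rw [← Category.assoc, hw', lift_snd]
  refine ⟨h, ⟨⟨by rw [hw]⟩, ⟨PullbackCone.IsLimit.mk _ w hfst hsnd ?_⟩⟩⟩
  intro s m hm1 hm2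
  rw [← cancel_mono i', hw']
  ext1
  · rw [Category.assoc, lift_fst, ← hm1, Category.assoc, ← Category.assoc h, hh, lift_fst]
  · rw [Category.assoc, lift_snd, hm2]

end bc

section main

variable [IsProper A.hom] [Smooth A.hom] [GeometricallyIntegral A.hom] {L : A.left.Modules}
  (hL : PicF.IsInvertible L) (hη : pull η[A].left (mk L hL) = 1) (hFA : FA A.hom (mk L hL)) {T Γ : Over S}
  (i : Γ ⟶ A ⊗ T) [IsClosedImmersion i.left] {c : Pic (PicF.XT A.hom T)} (hc : c ∈ pz A.hom T) (hc' : c ∈ rg A T)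
  (hΓ : ∀ {W : Over S} (a : W ⟶ A) (g : W ⟶ T), (∃ w : W ⟶ Γ, w ≫ i = lift a g) ↔
        pull (A ◁ a).left (mumP (mk L hL)) = pull (A ◁ g).left c)

include hη hFA hc hc' hΓ

/-- The local structure. -/
theorem exists_square [IsLocallyNoetherian S] (t : T.left) : ∃ (V P P₀ V₀ : Scheme.{u}) (o : V ⟶ T.left)
    (_ : IsOpenImmersion o) (a : P ⟶ Γ.left) (f : P ⟶ V) (b : P ⟶ P₀) (f₀ : P₀ ⟶ V₀) (d : V ⟶ V₀) (e : V₀ ⟶ S),
    t ∈ Set.range o ∧ IsPullback a f (i ≫ snd A T).left o ∧ IsPullback b f f₀ d ∧ d ≫ e = o ≫ T.hom ∧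
      IsFinite f₀ ∧ Flat f₀ ∧ Function.Surjective f₀ ∧
      ∀ v, f₀.finrank v = (CohIII.fiberRank A.hom L 0 (e v)) ^ 2 := by
  obtain ⟨R, B, _, _, _, _, ρ, o, ho, ht⟩ := exists_chart T t
  have hcB : pull (PicF.XTmap A.hom o) c ∈ pz A.hom (TB B ρ) := pull_XTmap_mem _ hc
  have hcB' : pull (PicF.XTmap A.hom o) c ∈ rg A (TB B ρ) := pull_mem _ hc'
  obtain ⟨j, c₀, hc₀, hprm, hcc⟩ := exists_noeth ρ hcB hcB'
  have hN := isLocallyNoetherian_TT ρ j
  obtain ⟨Γ', i', hi', -, hΓ'⟩ := exists_gam hη hcB'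
  obtain ⟨Γ₀, i₀, hi₀, -, hΓ₀⟩ := exists_gam hη hc₀
  obtain ⟨h, H⟩ := isPullback_gam o i i' hΓ hΓ'
  rw [← hcc] at hΓ'
  obtain ⟨h₀, H₀⟩ := isPullback_gam (uu ρ j) i₀ i' hΓ₀ hΓ'
  refine ⟨_, _, _, _, o.left, ho, h.left, (i' ≫ snd A _).left, h₀.left, (i₀ ≫ snd A _).left, (uu ρ j).left,
    (TT ρ j).hom, ht, H.map (Over.forget S), H₀.map (Over.forget S), ?_, isFinite hL hFA i₀ hΓ₀, flat hL hFA i₀ hprm hΓ₀,
    surjective hL hFA i₀ hprm hΓ₀, finrank_eq hL hFA i₀ hprm hΓ₀⟩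
  rw [Over.w, Over.w]

/-- **Node (G)** : `Γ ⟶ T` is finite, flat, surjective, of rank `h⁰(L)²`. -/
theorem main [IsLocallyNoetherian S] : IsFinite (i ≫ snd A T).left ∧ Flat (i ≫ snd A T).left ∧
    Function.Surjective (i ≫ snd A T).left ∧
    ∀ t, (i ≫ snd A T).left.finrank t = (CohIII.fiberRank A.hom L 0 (T.hom t)) ^ 2 := by
  have key := exists_square hL hη hFA i hc hc' hΓ
  have h1 : IsFinite (i ≫ snd A T).left := by
    refine of_open @IsFinite _ fun y => ?_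
    obtain ⟨V, P, P₀, V₀, o, ho, a, f, b, f₀, d, e, hy, H, H₀, -, h1, -, -, -⟩ := key y
    exact ⟨V, P, o, ho, a, f, hy, H, MorphismProperty.of_isPullback (P := @IsFinite) H₀ h1⟩
  have h2 : Flat (i ≫ snd A T).left := by
    refine of_open @Flat _ fun y => ?_
    obtain ⟨V, P, P₀, V₀, o, ho, a, f, b, f₀, d, e, hy, H, H₀, -, -, h2, -, -⟩ := key y
    exact ⟨V, P, o, ho, a, f, hy, H, MorphismProperty.of_isPullback (P := @Flat) H₀ h2⟩
  refine ⟨h1, h2, ?_, fun t => ?_⟩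
  · intro t
    obtain ⟨V, P, P₀, V₀, o, ho, a, f, b, f₀, d, e, ⟨v, rfl⟩, H, H₀, -, -, -, h3, -⟩ := key t
    obtain ⟨p₀, hp₀⟩ := h3 (d v)
    have h4 : Function.Surjective f := by
      have : Surjective f₀ := ⟨h3⟩
      exact (MorphismProperty.of_isPullback (P := @Surjective) H₀ this).surj
    obtain ⟨x, hx⟩ := h4 v
    refine ⟨a x, ?_⟩
    rw [← Scheme.Hom.comp_apply, H.w, Scheme.Hom.comp_apply, hx]
  · obtain ⟨V, P, P₀, V₀, o, ho, a, f, b, f₀, d, e, ⟨v, rfl⟩, H, H₀, hde, h5, h6, -, h4⟩ := key t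
    rw [← Scheme.Hom.finrank_of_isPullback _ _ _ _ H v, Scheme.Hom.finrank_of_isPullback _ _ _ _ H₀ v, h4]
    congr 2
    exact congrArg (fun k : V ⟶ S => k v) hde

omit hη hFA hc hc' hΓ in
theorem locallyOfFinitePresentation [LocallyOfFinitePresentation i.left] :
    LocallyOfFinitePresentation (i ≫ snd A T).left := by
  have i1 : LocallyOfFinitePresentation (snd A T).left :=
    inferInstanceAs (LocallyOfFinitePresentation (pullback.snd A.hom T.hom))
  rw [Over.comp_left]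
  infer_instance

end main

end K814.GamG
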