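import Groth.Agent.AgPol.K814.GamN
import Groth.Agent.Ega3B.LimInvK1

/-!
# Descent of primitive classes to Noetherian bases

* `exists_noeth` : `A` an abelian scheme over `S`, `T = Spec B` over `Spec R ⟶ S`, `c` a rigidified class on `A × T` in
  `Pic⁰`. There is a finitely generated subalgebra `B'` of `B` and a rigidified primitive class on `A × Spec B'` which
  restricts to `c`.
-/

set_option autoImplicit false
universe u

open CategoryTheory CategoryTheory.Limits MonoidalCategory CartesianMonoidalCategory AlgebraicGeometry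
open scoped MonObj
open Groth.Agent Groth.Agent.Grpsch.PicGrp Groth.Agent.Ega3B.LimInv Groth.Agent.Etcore.FGLim
open K732.BC K732.Prim K732.Dual K732.CubeSec K732.PicZero Groth.Agent.Fga.RigGrp

namespace K814.GamLim

section

variable {S : Scheme.{u}} {R B : Type u} [CommRing R] [CommRing B] [Algebra R B] (ρ : Spec (CommRingCat.of R) ⟶ S)

/-- The structure morphisms to `S`. -/
noncomputable def sS : fgD R B ⟶ (Functor.const _).obj S := fgS R B ≫ (Functor.const _).map ρ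

/-- The stages. -/
noncomputable def TT (j : (FGSub R B)ᵒᵖ) : Over S := Over.mk ((sS (B := B) ρ).app j)

variable (B) in
/-- The limit. -/
noncomputable def TB : Over S := Over.mk (Spec.map (CommRingCat.ofHom (algebraMap R B)) ≫ ρ)

/-- The projections. -/
noncomputable def uu (j : (FGSub R B)ᵒᵖ) : TB B ρ ⟶ TT ρ j := Over.homMk ((fgC R B).π.app j) (by
  change Spec.map _ ≫ Spec.map _ ≫ ρ = Spec.map _ ≫ ρ
  rw [← Category.assoc, ← Spec.map_comp]
  rfl)

/-- The transition morphisms. -/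
noncomputable def vv {j k : (FGSub R B)ᵒᵖ} (a : j ⟶ k) : TT ρ j ⟶ TT (B := B) ρ k := Over.homMk ((fgD R B).map a) (by
  exact ((sS (B := B) ρ).naturality a).trans (Category.comp_id _))

theorem uu_vv {j k : (FGSub R B)ᵒᵖ} (a : j ⟶ k) : uu ρ j ≫ vv ρ a = uu (B := B) ρ k :=
  Over.OverMorphism.ext ((fgC R B).w a)

theorem exists_class (X : Over S) [QuasiCompact X.hom] [QuasiSeparated X.hom] (c : Pic (PicF.XT X.hom (TB B ρ))) :
    ∃ (j : (FGSub R B)ᵒᵖ) (c' : Pic (PicF.XT X.hom (TT ρ j))), pull (PicF.XTmap X.hom (uu ρ j)) c' = c := by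
  obtain ⟨L, hL, rfl⟩ := exists_mk c
  obtain ⟨j, w, M, hM, ⟨e⟩⟩ := exists_invertible_bc (D := fgD R B) (s := sS ρ) (f := X.hom) (c := fgC R B)
    (t := (TB B ρ).hom) (fun j => Over.w (uu ρ j)) (IsPullback.of_hasPullback X.hom (TB B ρ).hom) (isLimitFgC R B) hL
  refine ⟨j, mk M hM, ?_⟩
  rw [pull_mk]
  refine (mk_eq_iff _ _).2 ⟨(Scheme.Modules.pullbackCongr ?_).app M ≪≫ e⟩
  apply pullback.hom_ext
  · exact (XTmap_fst X.hom (uu ρ j)).trans (pullback.lift_fst _ _ _).symm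
  · exact (XTmap_XTproj X.hom (uu ρ j)).trans (pullback.lift_snd _ _ _).symm

theorem exists_eq (X : Over S) [QuasiCompact X.hom] [QuasiSeparated X.hom] (j : (FGSub R B)ᵒᵖ)
    (c d : Pic (PicF.XT X.hom (TT ρ j)))
    (h : pull (PicF.XTmap X.hom (uu ρ j)) c = pull (PicF.XTmap X.hom (uu ρ j)) d) :
    ∃ (k : (FGSub R B)ᵒᵖ) (a : k ⟶ j), pull (PicF.XTmap X.hom (vv ρ a)) c = pull (PicF.XTmap X.hom (vv ρ a)) d := by
  obtain ⟨M, hM, rfl⟩ := exists_mk c
  obtain ⟨N, hN, rfl⟩ := exists_mk d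
  have hw : pullback.fst X.hom (TB B ρ).hom ≫ X.hom = (pullback.snd X.hom (TB B ρ).hom ≫ (fgC R B).π.app j) ≫ (sS ρ).app j := by
    rw [pullback.condition, Category.assoc]
    congr 1
    exact (Over.w (uu ρ j)).symm
  have e1 : PicF.XTmap X.hom (uu ρ j) = pullback.lift (pullback.fst X.hom (TB B ρ).hom)
      (pullback.snd X.hom (TB B ρ).hom ≫ (fgC R B).π.app j) hw := by
    apply pullback.hom_ext
    · exact (XTmap_fst X.hom (uu ρ j)).trans (pullback.lift_fst _ _ _).symm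
    · exact (XTmap_XTproj X.hom (uu ρ j)).trans (pullback.lift_snd _ _ _).symm
  rw [e1, pull_mk, pull_mk, mk_eq_iff] at h
  obtain ⟨k, a, w', ⟨e⟩⟩ := exists_iso_bc (D := fgD R B) (s := sS ρ) (f := X.hom) (c := fgC R B)
    (t := (TB B ρ).hom) (fun j => Over.w (uu ρ j)) (IsPullback.of_hasPullback X.hom (TB B ρ).hom) (isLimitFgC R B)
    hw hM hN h
  have e2 : PicF.XTmap X.hom (vv ρ a) = pullback.lift (pullback.fst X.hom _)
        (pullback.snd X.hom _ ≫ (fgD R B).map a) w' := by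
    apply pullback.hom_ext
    · exact (XTmap_fst X.hom (vv ρ a)).trans (pullback.lift_fst _ _ _).symm
    · exact (XTmap_XTproj X.hom (vv ρ a)).trans (pullback.lift_snd _ _ _).symm
  refine ⟨k, a, ?_⟩
  rw [e2, pull_mk, pull_mk]
  exact (mk_eq_iff _ _).2 ⟨e⟩

/-- Descent of a rigidified class in `Pic⁰` to a Noetherian base, as a primitive class. -/
theorem exists_noeth {A : Over S} [GrpObj A] [IsProper A.hom] [Flat A.hom] [LocallyOfFinitePresentation A.hom]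
    [GeometricallyIntegral A.hom] {c : Pic (PicF.XT A.hom (TB B ρ))} (hc : c ∈ pz A.hom (TB B ρ))
    (hc' : c ∈ rg A (TB B ρ)) :
    ∃ (j : (FGSub R B)ᵒᵖ) (c' : Pic (PicF.XT A.hom (TT ρ j))), c' ∈ rg A (TT ρ j) ∧
      (∀ {W : Over S} (a b : W ⟶ A) (g : W ⟶ TT ρ j), ev (a * b) g c' = ev a g c' * ev b g c') ∧
      pull (PicF.XTmap A.hom (uu ρ j)) c' = c := by
  obtain ⟨j, c₁, hc₁⟩ := exists_class ρ A c
  let c₂ := nrm A (TT ρ j) c₁
  have h2 : c₂ ∈ rg A (TT ρ j) := norm_mem _ _ _ _ _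
  have h3 : pull (PicF.XTmap A.hom (uu ρ j)) c₂ = c := by
    rw [pull_norm, hc₁]
    exact norm_of_mem _ _ _ hc'
  let u : (A ⊗ A) ⊗ TT ρ j ⟶ A := fst _ _ ≫ fst _ _
  let v : (A ⊗ A) ⊗ TT ρ j ⟶ A := fst _ _ ≫ snd _ _
  let w : (A ⊗ A) ⊗ TT ρ j ⟶ TT ρ j := snd _ _
  let M : Pic ((A ⊗ A) ⊗ TT ρ j).left := ev (u * v) w c₂ * (ev u w c₂ * ev v w c₂)⁻¹
  have hM : ∀ {W : Over S} (a b : W ⟶ A) (y : W ⟶ TT ρ j), pull (lift (lift a b) y).left M =
      ev (a * b) y c₂ * (ev a y c₂ * ev b y c₂)⁻¹ := by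
    intro W a b y
    have e1 : lift (lift a b) y ≫ u = a := by simp [u]
    have e2 : lift (lift a b) y ≫ v = b := by simp [v]
    have e3 : lift (lift a b) y ≫ w = y := by simp [w]
    simp only [M, map_mul, map_inv, pull_ev, MonObj.comp_mul, e1, e2, e3]
  have hM1 : pull (PicF.XTmap (A ⊗ A).hom (uu ρ j)) M = pull (PicF.XTmap (A ⊗ A).hom (uu ρ j)) 1 := by
    have h4 : (A ⊗ A) ◁ uu ρ j = lift (lift (fst _ _ ≫ fst _ _) (fst _ _ ≫ snd _ _))
        (snd (A ⊗ A) (TB B ρ) ≫ uu ρ j) := by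
      ext1
      · ext1 <;> simp
      · simp
    have h5 : pull (PicF.XTmap (A ⊗ A).hom (uu ρ j)) M = pull ((A ⊗ A) ◁ uu ρ j).left M := rfl
    rw [h5, h4, hM, map_one, mul_inv_eq_one, ← ev_XTmap, ← ev_XTmap, ← ev_XTmap, h3]
    exact K814.PrimGeom.prim hc hc' _ _ _
  have i1 : QuasiCompact (A ⊗ A).hom := inferInstanceAs (QuasiCompact (pullback.fst A.hom A.hom ≫ A.hom))
  have i2 : QuasiSeparated (A ⊗ A).hom := inferInstanceAs (QuasiSeparated (pullback.fst A.hom A.hom ≫ A.hom))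
  obtain ⟨k, a, hk⟩ := exists_eq ρ (A ⊗ A) j M 1 hM1
  refine ⟨k, pull (PicF.XTmap A.hom (vv ρ a)) c₂, pull_mem _ h2, ?_, ?_⟩
  · intro W x y g
    rw [ev_XTmap, ev_XTmap, ev_XTmap, ← mul_inv_eq_one, ← hM]
    have h6 : (lift (lift x y) (g ≫ vv ρ a)).left = (lift (lift x y) g).left ≫ PicF.XTmap (A ⊗ A).hom (vv ρ a) :=
      (lift_XTmap (lift x y) g (vv ρ a)).symm
    rw [h6]
    refine (pull_comp _ _ _).trans ?_
    rw [hk, map_one, map_one]
  · rw [← pull_comp, ← XTmap_comp, uu_vv]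
    exact h3

end

end K814.GamLim
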