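import Groth.Agent.AgPol.K814.GamBase
import Groth.Agent.AgPol.K814.GamAlg
import Groth.Agent.AgPol.K814.RelDim

/-!
# The scheme of points where the Mumford class takes a given value

`A` an abelian scheme over `S`, `ℓ = [L]` fibrewise ample, `c` a primitive class on `A × T`, `i : Γ ⟶ A × T` the closed
subscheme of pairs `(a, t)` with `φ_ℓ(a) = c_t`. If `T` is locally Noetherian then `Γ ⟶ T` is finite and flat, of rank
`h⁰(L)²`, and surjective.
-/

set_option autoImplicit false
universe u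

open CategoryTheory CategoryTheory.Limits MonoidalCategory CartesianMonoidalCategory AlgebraicGeometry
open scoped MonObj
open Groth.Agent Groth.Agent.Grpsch.PicGrp Groth.Agent.Grpsch.Cube K814.GamField K814.GamVan K814.GamFib K814.GamCP
open K732.BC K732.Prim K732.Dual K732.CubeSec K814.GamArt Groth.Agent.Fga.RigGrp K814.GamBase
open K506.Transl (tr phi Inv)

namespace K814.GamN

variable {S : Scheme.{u}} {A : Over S} [GrpObj A]

/-- The structure morphism over `U`. -/
noncomputable abbrev st {U : Over S} (V : Over U.left) : dn U.hom V ⟶ U := Over.homMk V.hom rfl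

section basics

variable {U T : Over S} (g : U ⟶ T)

omit [GrpObj A] in
theorem up_left_eq {V : Over U.left} (x : dn U.hom V ⟶ A) : (up x).left = (lift x (st V)).left := by
  apply pullback.hom_ext
  · rw [up_left_fst]
    exact (congrArg CommaMorphism.left (lift_fst x (st V))).symm
  · rw [up_left_snd]
    exact (congrArg CommaMorphism.left (lift_snd x (st V))).symm

omit [GrpObj A] in
theorem up_whisker {V : Over U.left} (x : dn U.hom V ⟶ A) : (up x).left ≫ (A ◁ g).left = (lift x (st V ≫ g)).left := by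
  rw [up_left_eq, ← Over.comp_left, lift_whiskerLeft]

omit [GrpObj A] in
theorem pull_up_whisker {V : Over U.left} (x : dn U.hom V ⟶ A) (c : Pic (PicF.XT A.hom T)) :
    pull (up x).left (pull (A ◁ g).left c : Pic (Red.bc U.hom A).left) = ev x (st V ≫ g) c := by
  rw [ev_def, ← up_whisker]
  exact (pull_comp _ _ _).symm

/-- Primitivity of the restriction. -/
theorem prm_res {c : Pic (PicF.XT A.hom T)}
    (hprm : ∀ {W : Over S} (a b : W ⟶ A) (g : W ⟶ T), ev (a * b) g c = ev a g c * ev b g c) :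
    Prm (Red.bc U.hom A) (pull (A ◁ g).left c : Pic (Red.bc U.hom A).left) := by
  obtain ⟨x, hx⟩ := exists_up (k := U.hom) (fst (Red.bc U.hom A) (Red.bc U.hom A))
  obtain ⟨y, hy⟩ := exists_up (k := U.hom) (snd (Red.bc U.hom A) (Red.bc U.hom A))
  have h := hprm x y (st _ ≫ g)
  rw [← pull_up_whisker, ← pull_up_whisker, ← pull_up_whisker, up_mul, hx, hy] at h
  exact h

theorem pull_fst_res {W : Over U.left} (c : Pic (PicF.XT A.hom T)) :
    pull (fst (Red.bc U.hom A) W).left (pull (A ◁ g).left c : Pic (Red.bc U.hom A).left) =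
      pull (kp U.hom A W).left (pull (A ◁ (st W ≫ g)).left c) := by
  rw [← up_kp_fst, pull_up_whisker, ev_def, ← pull_comp, ← Over.comp_left]
  congr 3
  ext1
  · rw [lift_fst, Category.assoc, whiskerLeft_fst]
  · rw [lift_snd, Category.assoc, whiskerLeft_snd, ← Category.assoc, kp_snd, ← Category.assoc]
    congr 1
    ext
    exact (Over.w (snd (Red.bc U.hom A) W)).symm

end basics

section fib

variable {T Γ : Over S} (i : Γ ⟶ A ⊗ T) {R : CommRingCat.{u}} (τ : Spec R ⟶ T.left) {P : Scheme.{u}}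
  {p : P ⟶ Γ.left} {q : P ⟶ Spec R} (H : IsPullback p q (i ≫ snd A T).left τ)

/-- The base. -/
noncomputable abbrev UU (T : Over S) {S' : Scheme.{u}} (τ : S' ⟶ T.left) : Over S := Over.mk (τ ≫ T.hom)

/-- The morphism to `T`. -/
noncomputable abbrev gU (T : Over S) {S' : Scheme.{u}} (τ : S' ⟶ T.left) : UU T τ ⟶ T := Over.homMk τ rfl

/-- The inclusion of the fibre of `Γ` into `A_τ`. -/
noncomputable def jj (H : IsPullback p q (i ≫ snd A T).left τ) : P ⟶ (Red.bc (UU T τ).hom A).left :=
  (K732.PicZero.isPullback_XTmap (f := A.hom) (gU T τ)).lift (p ≫ i.left) q (by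
    rw [Category.assoc]
    exact H.w)

omit [GrpObj A] in
theorem jj_snd : jj i τ H ≫ (Red.bc (UU T τ).hom A).hom = q :=
  (K732.PicZero.isPullback_XTmap (f := A.hom) (gU T τ)).lift_snd _ _ _

omit [GrpObj A] in
theorem jj_fst : jj i τ H ≫ (A ◁ gU T τ).left = p ≫ i.left :=
  (K732.PicZero.isPullback_XTmap (f := A.hom) (gU T τ)).lift_fst _ _ _

omit [GrpObj A] in
theorem isPullback_jj : IsPullback (jj i τ H) p (A ◁ gU T τ).left i.left := by
  have h1 := K732.PicZero.isPullback_XTmap (f := A.hom) (gU T τ)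
  refine IsPullback.of_right (h₂₂ := (snd A T).left) (h₁₂ := (Red.bc (UU T τ).hom A).hom) (v₁₃ := τ)
    ?_ ?_ h1.flip
  · rw [jj_snd]
    exact H.flip
  · exact (jj_fst i τ H)

omit [GrpObj A] in
theorem isClosedImmersion_jj [IsClosedImmersion i.left] : IsClosedImmersion (jj i τ H) :=
  MorphismProperty.of_isPullback (P := @IsClosedImmersion) (isPullback_jj i τ H).flip ‹_›

/-- The universal property of the fibre. -/
theorem exists_iff' (ℓ : Pic A.left) {c : Pic (PicF.XT A.hom T)}
    (hΓ : ∀ {W : Over S} (a : W ⟶ A) (g : W ⟶ T), (∃ w : W ⟶ Γ, w ≫ i = lift a g) ↔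
      pull (A ◁ a).left (mumP ℓ) = pull (A ◁ g).left c)
    {W : Over (UU T τ).left} (th : W ⟶ Red.bc (UU T τ).hom A) :
    (∃ t' : W.left ⟶ P, t' ≫ jj i τ H = th.left) ↔
      pull (Red.bc (UU T τ).hom A ◁ th).left (mumP (bcc (UU T τ).hom ℓ)) =
      pull (fst (Red.bc (UU T τ).hom A) W).left
        (pull (A ◁ gU T τ).left c : Pic (Red.bc (UU T τ).hom A).left) := by
  obtain ⟨x, hx⟩ := exists_up (k := (UU T τ).hom) th
  have h1 : pull (Red.bc (UU T τ).hom A ◁ th).left (mumP (bcc (UU T τ).hom ℓ)) =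
      pull (fst (Red.bc (UU T τ).hom A) W).left (pull (A ◁ gU T τ).left c : Pic (Red.bc (UU T τ).hom A).left) ↔
      pull (A ◁ x).left (mumP ℓ) = pull (A ◁ (st W ≫ gU T τ)).left c := by
    rw [← hx, pull_mumP_up, pull_fst_res, pull_kp_inj]
  refine Iff.trans ?_ ((hΓ x (st W ≫ gU T τ)).trans h1.symm)
  have h2 : th.left ≫ (A ◁ gU T τ).left = (lift x (st W ≫ gU T τ)).left := by
    rw [← up_whisker, hx]
  constructor
  · rintro ⟨t', ht'⟩
    have h3 : (t' ≫ p) ≫ i.left = (lift x (st W ≫ gU T τ)).left := by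
      rw [← h2, ← ht', Category.assoc, Category.assoc, (isPullback_jj i τ H).w]
    refine ⟨Over.homMk (t' ≫ p) ?_, ?_⟩
    · have h4 := Over.w (lift x (st W ≫ gU T τ))
      rw [← h3, Category.assoc, Over.w i] at h4
      exact h4
    · exact Over.OverMorphism.ext h3
  · rintro ⟨w, hw⟩
    have h3 : th.left ≫ (A ◁ gU T τ).left = w.left ≫ i.left := by
      rw [h2, ← hw, Over.comp_left]
    exact ⟨(isPullback_jj i τ H).lift th.left w.left h3, (isPullback_jj i τ H).lift_fst _ _ _⟩

/-- The universal property of the fibre. -/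
theorem exists_iff (ℓ : Pic A.left) {c : Pic (PicF.XT A.hom T)}
    (hΓ : ∀ {W : Over S} (a : W ⟶ A) (g : W ⟶ T), (∃ w : W ⟶ Γ, w ≫ i = lift a g) ↔
      pull (A ◁ a).left (mumP ℓ) = pull (A ◁ g).left c)
    {B : CommRingCat.{u}} (t : Spec B ⟶ (Red.bc (UU T τ).hom A).left) :
    (∃ t', t' ≫ jj i τ H = t) ↔
      pull (Red.bc (UU T τ).hom A ◁ (Over.homMk t rfl : Over.mk (t ≫ (Red.bc (UU T τ).hom A).hom) ⟶
        Red.bc (UU T τ).hom A)).left (mumP (bcc (UU T τ).hom ℓ)) =
      pull (fst (Red.bc (UU T τ).hom A) (Over.mk (t ≫ (Red.bc (UU T τ).hom A).hom))).left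
        (pull (A ◁ gU T τ).left c : Pic (Red.bc (UU T τ).hom A).left) :=
  exists_iff' i τ H ℓ hΓ (Over.homMk t rfl : Over.mk (t ≫ (Red.bc (UU T τ).hom A).hom) ⟶
        Red.bc (UU T τ).hom A)

end fib

section relDim

theorem exists_relDim [Smooth A.hom] [IsProper A.hom] [GeometricallyIntegral A.hom] [Subsingleton ↥S]
    (s₀ : S) : ∃ n : ℕ, SmoothOfRelativeDimension n A.hom := by
  have i0 : GeometricallyIntegral (pullback.snd A.hom (S.fromSpecResidueField s₀)) := inferInstance
  have i2 : Smooth (pullback.snd A.hom (S.fromSpecResidueField s₀)) := inferInstance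
  let f : A.hom.fiber s₀ ⟶ Spec (CommRingCat.of (S.residueField s₀)) :=
    pullback.snd A.hom (S.fromSpecResidueField s₀)
  have i3 : GeometricallyIntegral f := i0
  have i4 : Smooth f := i2
  have i1 : IsIntegral (A.hom.fiber s₀) := GeometricallyIntegral.isIntegral_of_subsingleton f
  obtain ⟨n, hn⟩ := K504.Hodge.exists_relDim (S.residueField s₀) (A.hom.fiber s₀) f
  refine ⟨n, K814.RelDim.smoothOfRelDim A n fun s => ?_⟩
  obtain rfl : s = s₀ := Subsingleton.elim _ _
  exact K504.Hodge.topologicalKrullDim_eq f n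

end relDim

section art

variable [IsProper A.hom] [Smooth A.hom] [GeometricallyIntegral A.hom] {L : A.left.Modules}
  (hL : PicF.IsInvertible L) (hFA : FA A.hom (mk L hL)) {T Γ : Over S} (i : Γ ⟶ A ⊗ T) [IsClosedImmersion i.left]
  {c : Pic (PicF.XT A.hom T)}
  (hprm : ∀ {W : Over S} (a b : W ⟶ A) (g : W ⟶ T), ev (a * b) g c = ev a g c * ev b g c)
  (hΓ : ∀ {W : Over S} (a : W ⟶ A) (g : W ⟶ T), (∃ w : W ⟶ Γ, w ≫ i = lift a g) ↔
      pull (A ◁ a).left (mumP (mk L hL)) = pull (A ◁ g).left c)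

include hFA hprm hΓ

/-- The Artinian case. -/
theorem flat_finrank_art {R : Type u} [CommRing R] [IsArtinianRing R] [IsLocalRing R]
    (τ : Spec (CommRingCat.of R) ⟶ T.left) {P : Scheme.{u}} {p : P ⟶ Γ.left} {q : P ⟶ Spec (CommRingCat.of R)}
    (H : IsPullback p q (i ≫ snd A T).left τ) [IsFinite q] :
    Flat q ∧ ∀ s, q.finrank s =
      (CohIII.fiberRank A.hom L 0 (T.hom (τ (IsLocalRing.closedPoint R)))) ^ 2 := by
  have hsub : Subsingleton ↥(Spec (CommRingCat.of R)) := inferInstanceAs (Subsingleton (PrimeSpectrum R))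
  let U := UU T τ
  let A' := Red.bc U.hom A
  have i1 : IsProper A'.hom := inferInstanceAs (IsProper (pullback.snd A.hom U.hom))
  have i2 : Smooth A'.hom := inferInstanceAs (Smooth (pullback.snd A.hom U.hom))
  have i3 : GeometricallyIntegral A'.hom := inferInstanceAs (GeometricallyIntegral (pullback.snd A.hom U.hom))
  have hsub' : Subsingleton ↥U.left := hsub
  obtain ⟨n, hn⟩ := exists_relDim (A := A') (IsLocalRing.closedPoint R)
  have hP : DiscreteTopology P := by
    have h2 : IsLocallyArtinian P := IsLocallyArtinian.of_locallyQuasiFinite q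
    infer_instance
  have hN : IsLocallyNoetherian U.left := inferInstanceAs (IsLocallyNoetherian (Spec (CommRingCat.of R)))
  have i4 := isClosedImmersion_jj i τ H
  have i5 : IsFinite (jj i τ H ≫ A'.hom) := by
    rw [show jj i τ H ≫ A'.hom = q from jj_snd i τ H]
    infer_instance
  have H0 : IsPullback (pullback.fst A.hom U.hom) A'.hom A.hom U.hom := IsPullback.of_hasPullback A.hom U.hom
  have h1 := K814.GamArt.flat_finrank (A := A') n (ℓ := bcc U.hom (mk L hL))
    (c := (pull (A ◁ gU T τ).left c : Pic A'.left))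
    (fun Ω _ _ τ' => (hFA.bc H0) Ω τ' _ _ _ (IsPullback.of_hasPullback A'.hom τ'))
    (CohIII.fiberRank A.hom L 0 (T.hom (τ (IsLocalRing.closedPoint R)))) ?_
    (fun Ω _ _ τ' => ((prm_res (gU T τ) hprm).bcc τ').inv) (jj i τ H)
    (fun B _ t => exists_iff i τ H (mk L hL) hΓ t)
  · rw [show jj i τ H ≫ A'.hom = q from jj_snd i τ H] at h1
    exact h1
  · intro Ω _ _ τ'
    have h2 := fiberRank_eq A.hom hL (τ' ≫ U.hom) _ _ ((IsPullback.of_hasPullback A'.hom τ').paste_horiz H0) 0
    have h3 : (τ' ≫ U.hom) (IsLocalRing.closedPoint Ω) = T.hom (τ (IsLocalRing.closedPoint R)) := by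
      have h4 : τ' (IsLocalRing.closedPoint Ω) = IsLocalRing.closedPoint R := Subsingleton.elim _ _
      rw [Scheme.Hom.comp_apply, h4]
      rfl
    rw [h3, pull_comp] at h2
    exact h2.symm

end art

section pts

variable {k : Type u} [Field k] {B : Over (Spec (CommRingCat.of k))} [GrpObj B]

theorem point_iff (x : 𝟙_ (Over (Spec (CommRingCat.of k))) ⟶ B) (ℓ c : Pic B.left) :
    pull (B ◁ x).left (mumP ℓ) = pull (fst B (𝟙_ _)).left c ↔ phi ℓ x = c := by
  let e : B ⟶ B ⊗ 𝟙_ _ := lift (𝟙 B) (toUnit B)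
  have he : e ≫ fst B _ = 𝟙 B := lift_fst _ _
  have he' : fst B _ ≫ e = 𝟙 _ := by
    ext1
    · rw [Category.assoc, he, Category.comp_id, Category.id_comp]
    · exact toUnit_unique _ _
  have h1 : ∀ {c d : Pic (B ⊗ 𝟙_ _).left}, pull e.left c = pull e.left d → c = d := by
    intro c d h
    have h2 := congrArg (fun x => pull (fst B (𝟙_ _)).left x) h
    simp only [← pull_comp, ← Over.comp_left, he'] at h2
    erw [pull_id, pull_id] at h2
    exact h2
  have h3 : pull e.left (pull (fst B (𝟙_ _)).left c) = c := by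
    rw [← pull_comp, ← Over.comp_left, he]
    exact pull_id c
  have h4 : pull e.left (pull (B ◁ x).left (mumP ℓ)) = phi ℓ x := by
    have d1 : e ≫ B ◁ x ≫ (fst B B * snd B B) = tr x := by
      rw [MonObj.comp_mul, whiskerLeft_fst, whiskerLeft_snd, MonObj.comp_mul, he, tr, ← Category.assoc]
      congr 2
      exact toUnit_unique _ _
    have d2 : e ≫ B ◁ x ≫ fst B B = 𝟙 B := by
      rw [whiskerLeft_fst, he]
    have d3 : e ≫ B ◁ x ≫ snd B B = toUnit B ≫ x := by
      rw [whiskerLeft_snd, ← Category.assoc]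
      congr 1
      exact toUnit_unique _ _
    have key : ∀ (f : B ⊗ B ⟶ B), pull e.left (pull (B ◁ x).left (pull f.left ℓ)) = pl (e ≫ B ◁ x ≫ f) ℓ := by
      intro f
      rw [← pull_comp, ← pull_comp]
      rfl
    rw [mumP, map_mul, map_mul, map_mul, map_mul, map_inv, map_inv, map_inv, map_inv, key, key, key, d1, d2, d3]
    have h5 : pl (toUnit B ≫ x) ℓ = 1 := by
      rw [pl_comp]
      have : pl x ℓ = 1 := pic_spec_local k _
      rw [this, map_one]
    have h6 : pl (𝟙 B) ℓ = ℓ := pull_id ℓ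
    rw [h5, h6, inv_one, mul_one]
    rfl
  constructor
  · intro h
    rw [← h4, h, h3]
  · intro h
    apply h1
    rw [h4, h3, h]

end pts

section main

variable [IsProper A.hom] [Smooth A.hom] [GeometricallyIntegral A.hom] {L : A.left.Modules}
  (hL : PicF.IsInvertible L) (hFA : FA A.hom (mk L hL)) {T Γ : Over S} (i : Γ ⟶ A ⊗ T) [IsClosedImmersion i.left]
  {c : Pic (PicF.XT A.hom T)}
  (hprm : ∀ {W : Over S} (a b : W ⟶ A) (g : W ⟶ T), ev (a * b) g c = ev a g c * ev b g c)
  (hΓ : ∀ {W : Over S} (a : W ⟶ A) (g : W ⟶ T), (∃ w : W ⟶ Γ, w ≫ i = lift a g) ↔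
      pull (A ◁ a).left (mumP (mk L hL)) = pull (A ◁ g).left c)

section geom

variable {Ω : Type u} [Field Ω] (τ : Spec (CommRingCat.of Ω) ⟶ T.left) {P : Scheme.{u}}
  {p : P ⟶ Γ.left} {q : P ⟶ Spec (CommRingCat.of Ω)} (H : IsPullback p q (i ≫ snd A T).left τ)

omit [IsProper A.hom] [Smooth A.hom] [GeometricallyIntegral A.hom] [IsClosedImmersion i.left] in
include hΓ in
theorem exists_iff_phi (x : 𝟙_ (Over (Spec (CommRingCat.of Ω))) ⟶ Red.bc (UU T τ).hom A) :
    (∃ t' : Spec (CommRingCat.of Ω) ⟶ P, t' ≫ jj i τ H = x.left) ↔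
      phi (bcc (UU T τ).hom (mk L hL)) x = (pull (A ◁ gU T τ).left c : Pic (Red.bc (UU T τ).hom A).left) :=
  (exists_iff' i τ H (mk L hL) hΓ (W := 𝟙_ (Over (UU T τ).left)) x).trans (point_iff x _ _)

variable [IsAlgClosed Ω]

omit [Smooth A.hom] in
include hFA in
theorem finite_phi (c' : Pic (Red.bc (UU T τ).hom A).left) :
    Set.Finite {x : 𝟙_ (Over (Spec (CommRingCat.of Ω))) ⟶ Red.bc (UU T τ).hom A |
      phi (bcc (UU T τ).hom (mk L hL)) x = c'} := by
  let A' := Red.bc (UU T τ).hom A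
  have i1 : IsProper A'.hom := inferInstanceAs (IsProper (pullback.snd A.hom (UU T τ).hom))
  have i3 : GeometricallyIntegral A'.hom :=
    inferInstanceAs (GeometricallyIntegral (pullback.snd A.hom (UU T τ).hom))
  obtain ⟨M, hM, hM'⟩ := hFA Ω (UU T τ).hom _ _ _ (IsPullback.of_hasPullback A.hom (UU T τ).hom)
  have h1 := K512.PhiSurj.finite_of_isAmple (A := A') M hM
  have hM'' : mk M hM.1 = bcc (UU T τ).hom (mk L hL) := hM'
  rw [hM''] at h1
  by_cases h0 : ∃ x₀ : 𝟙_ (Over (Spec (CommRingCat.of Ω))) ⟶ A', phi (bcc (UU T τ).hom (mk L hL)) x₀ = c'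
  · obtain ⟨x₀, hx₀⟩ := h0
    refine Set.Finite.subset (h1.image (fun x => x * x₀)) fun x hx => ⟨x * x₀⁻¹, ?_, ?_⟩
    · have h2 : phi (bcc (UU T τ).hom (mk L hL)) (x * x₀⁻¹) = 1 := by
        rw [K506.Transl.phi_mul, K506.Transl.phi_inv, hx₀, show phi (bcc (UU T τ).hom (mk L hL)) x = c' from hx,
          mul_inv_cancel]
      rw [phi, mul_inv_eq_one] at h2
      exact h2
    · exact inv_mul_cancel_right x x₀
  · refine Set.finite_empty.subset fun x hx => h0 ⟨x, hx⟩

omit [Smooth A.hom] in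
include hFA hΓ H in
theorem finite_geom : Finite P := by
  let A' := Red.bc (UU T τ).hom A
  have i1 : IsProper A'.hom := inferInstanceAs (IsProper (pullback.snd A.hom (UU T τ).hom))
  have i4 := isClosedImmersion_jj i τ H
  have hq : q = jj i τ H ≫ A'.hom := (jj_snd i τ H).symm
  have i5 : LocallyOfFiniteType q := by rw [hq]; infer_instance
  have i6 : JacobsonSpace P := LocallyOfFiniteType.jacobsonSpace q
  have i7 : LocallyOfFiniteType (Over.mk q).hom := i5
  have hfin := finite_phi hL hFA τ (pull (A ◁ gU T τ).left c : Pic (Red.bc (UU T τ).hom A).left)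
  have h1 : (closedPoints P).Finite := by
    refine Set.Finite.subset ((hfin.image K506.Transl.pt).preimage ((jj i τ H).injective.injOn)) fun x hx => ?_
    obtain ⟨a, ha⟩ := K506.Transl.exists_point (X := Over.mk q) x hx
    have h2 := (exists_iff_phi hL i hΓ τ H (a ≫ (Over.homMk (jj i τ H) (jj_snd i τ H) : Over.mk q ⟶ A'))).1
      ⟨a.left, rfl⟩
    refine ⟨_, h2, ?_⟩
    rw [← ha]
    rfl
  have h2 : IsClosed (closedPoints P) := by
    have h3 := h1.isClosed_biUnion (f := fun x => ({x} : Set P)) fun x hx => hx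
    rwa [Set.biUnion_of_singleton] at h3
  have h3 := closure_closedPoints (X := P)
  rw [h2.closure_eq] at h3
  rw [h3] at h1
  exact Set.finite_univ_iff.1 h1

end geom

include hFA hΓ

omit [Smooth A.hom] in
theorem finite_preimage (t : T.left) : ((i ≫ snd A T).left ⁻¹' {t}).Finite := by
  obtain ⟨Ω, _, _, τ, rfl⟩ := exists_geom t
  have h1 := finite_geom hL hFA i hΓ τ (IsPullback.of_hasPullback (i ≫ snd A T).left τ)
  refine (Set.finite_range (pullback.fst (i ≫ snd A T).left τ)).subset ?_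
  rw [Scheme.Pullback.range_fst]
  refine Set.preimage_mono ?_
  rintro _ rfl
  exact ⟨_, rfl⟩

omit [GrpObj A] [Smooth A.hom] [GeometricallyIntegral A.hom] hFA hΓ in
theorem isProper : IsProper (i ≫ snd A T).left := by
  have i1 : IsProper (snd A T).left := inferInstanceAs (IsProper (pullback.snd A.hom T.hom))
  rw [Over.comp_left]
  infer_instance

omit [Smooth A.hom] in
theorem isFinite : IsFinite (i ≫ snd A T).left := by
  have i1 : IsProper (i ≫ snd A T).left := isProper i
  have i2 : LocallyQuasiFinite (i ≫ snd A T).left :=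
    LocallyQuasiFinite.of_finite_preimage_singleton _ (finite_preimage hL hFA i hΓ)
  exact IsFinite.of_isProper_of_locallyQuasiFinite _

include hprm

omit [Smooth A.hom] [IsClosedImmersion i.left] in
theorem surjective : Function.Surjective (i ≫ snd A T).left := by
  intro t
  obtain ⟨Ω, _, _, τ, rfl⟩ := exists_geom t
  let A' := Red.bc (UU T τ).hom A
  have i1 : IsProper A'.hom := inferInstanceAs (IsProper (pullback.snd A.hom (UU T τ).hom))
  have i3 : GeometricallyIntegral A'.hom :=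
    inferInstanceAs (GeometricallyIntegral (pullback.snd A.hom (UU T τ).hom))
  obtain ⟨M, hM, hM'⟩ := hFA Ω (UU T τ).hom _ _ _ (IsPullback.of_hasPullback A.hom (UU T τ).hom)
  have h1 := K512.PhiSurj.finite_of_isAmple (A := A') M hM
  have hM'' : mk M hM.1 = bcc (UU T τ).hom (mk L hL) := hM'
  have hinv : Inv (A := A') (pull (A ◁ gU T τ).left c : Pic (Red.bc (UU T τ).hom A).left) :=
    (prm_res (gU T τ) hprm).inv
  obtain ⟨x, hx⟩ := K512.PhiSurj.exists_eq (A := A') (mk M hM.1) _ h1 hinv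
  have H := IsPullback.of_hasPullback (i ≫ snd A T).left τ
  have h2 : phi (bcc (UU T τ).hom (mk L hL)) x =
      (pull (A ◁ gU T τ).left c : Pic (Red.bc (UU T τ).hom A).left) := by
    rw [phi, ← hM'', hx]
    exact mul_inv_cancel_comm _ _
  obtain ⟨t', ht'⟩ := (exists_iff_phi hL i hΓ τ H x).2 h2
  refine ⟨pullback.fst (i ≫ snd A T).left τ (t' (IsLocalRing.closedPoint Ω)), ?_⟩
  have h3 : t' ≫ pullback.snd (i ≫ snd A T).left τ = 𝟙 _ := by
    rw [← jj_snd i τ H, ← Category.assoc, ht']
    exact Over.w x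
  have h4 : t' ≫ pullback.fst (i ≫ snd A T).left τ ≫ (i ≫ snd A T).left = τ := by
    rw [H.w, ← Category.assoc, h3, Category.id_comp]
  exact congrArg (fun f : Spec (CommRingCat.of Ω) ⟶ T.left => f (IsLocalRing.closedPoint Ω)) h4

variable [IsLocallyNoetherian T.left]

theorem flat : Flat (i ≫ snd A T).left := by
  have i1 := isFinite hL hFA i hΓ
  refine K814.GamAlg.flat_of_artin_sch (i ≫ snd A T).left fun C _ _ t X' a p H => ?_
  have i2 : IsFinite p := MorphismProperty.of_isPullback (P := @IsFinite) H i1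
  exact (flat_finrank_art hL hFA i hprm hΓ (R := C) t H).1

theorem finrank_eq (t : T.left) : (i ≫ snd A T).left.finrank t = (CohIII.fiberRank A.hom L 0 (T.hom t)) ^ 2 := by
  have i1 := isFinite hL hFA i hΓ
  have i3 := flat hL hFA i hprm hΓ
  obtain ⟨Ω, _, _, τ, rfl⟩ := exists_geom t
  have H := IsPullback.of_hasPullback (i ≫ snd A T).left τ
  have h1 := (flat_finrank_art hL hFA i hprm hΓ (R := Ω) τ H).2 (IsLocalRing.closedPoint Ω)
  rw [Scheme.Hom.finrank_pullback_snd] at h1
  exact h1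

end main

end K814.GamN
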