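import Groth.Agent.AgPol.K814.GamField
import Groth.Agent.AbVar.K524.Key
import Groth.Agent.AbVar.K504.AnyField

/-!
# Cohomology of translation invariant classes
-/

set_option autoImplicit false
universe u

open CategoryTheory CategoryTheory.Limits MonoidalCategory CartesianMonoidalCategory AlgebraicGeometry
open scoped MonObj
open Groth.Agent Groth.Agent.Grpsch.PicGrp K814.GamField K524.Kun K524.PicZeroVan Groth.Agent.Grpsch.Cube
open K506.Transl (tr phi Inv)

namespace K814.GamVan

variable {k : Type u} [Field k] {B : Over (Spec (CommRingCat.of k))} [GrpObj B] [IsProper B.hom]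
  [GeometricallyIntegral B.hom]

theorem hr_eq_zero [IsAlgClosed k] {c : Pic B.left} (hc : Inv c) (hne : c ≠ 1) (n : ℕ) : hr c n = 0 :=
  hr_of_van (van (K506.Transl.pl_mu hc) hne n)

theorem hr_one (g : ℕ) (hg : topologicalKrullDim B.left = g) (n : ℕ) : hr (1 : Pic B.left) n = g.choose n := by
  rw [Groth.Agent.Grpsch.PicGrp.one_def, hr_mk]
  let _ : B.left.Over (Spec (CommRingCat.of k)) := ⟨B.hom⟩
  have i0 : GrpObj (Over.mk (B.left ↘ Spec (CommRingCat.of k))) := ‹GrpObj B›
  have i1 : IsProper (B.left ↘ Spec (CommRingCat.of k)) := ‹IsProper B.hom›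
  have i2 : GeometricallyIntegral (B.left ↘ Spec (CommRingCat.of k)) := ‹GeometricallyIntegral B.hom›
  exact K504.AnyField.finrank_O k B.left g hg n

theorem hr_of_dim {X : Over (Spec (CommRingCat.of k))} [IsProper X.hom] {g : ℕ} (hg : topologicalKrullDim X.left = g)
    (c : Pic X.left) (n : ℕ) (hn : g < n) : hr c n = 0 :=
  hr_of_van (K524.Key.van_of_dim X.hom hg.le c n hn)

theorem inv_res [IsAlgClosed k] {ℓ c : Pic B.left} (hc : Inv c) (y : 𝟙_ (Over (Spec (CommRingCat.of k))) ⟶ B) :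
    Inv ((pl (tr y) ℓ)⁻¹ * (ℓ * c)) := by
  have h : (pl (tr y) ℓ)⁻¹ * (ℓ * c) = (phi ℓ y)⁻¹ * c := by
    rw [phi, mul_inv, inv_inv, mul_assoc]
  rw [h]
  exact (K506.Transl.phi_transl ℓ y).inv.mul hc

end K814.GamVan
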