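import Groth.Agent.AgPol.K814.CubeGeom
import Groth.Agent.AbDual.K732.Prim

/-!
# Classes algebraically equivalent to zero on an abelian variety are primitive
-/

set_option autoImplicit false
universe u

open CategoryTheory Limits MonoidalCategory CartesianMonoidalCategory AlgebraicGeometry
open scoped MonObj

namespace K814.PrimField

open Groth.Agent.Grpsch.PicGrp K732.PicZero K732.Prim

variable {K : Type u} [Field K]

theorem pull_one {A : Over (Spec (CommRingCat.of K))} [GrpObj A] {W : Over (Spec (CommRingCat.of K))}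
    (c : Pic A.left) : pull (1 : W ⟶ A).left c = 1 := by
  have h : (1 : W ⟶ A) = toUnit W ≫ η[A] := rfl
  rw [h, Over.comp_left, pull_comp]
  have : pull η[A].left c = 1 := pic_spec_local K _
  rw [this, map_one]

theorem prim [IsAlgClosed K] (A : Over (Spec (CommRingCat.of K))) [GrpObj A] [IsProper A.hom]
    [GeometricallyIntegral A.hom] {c : Pic A.left} (hc : c ∈ az A.hom) {W : Over (Spec (CommRingCat.of K))}
    (a b : W ⟶ A) : pull (a * b).left c = pull a.left c * pull b.left c := by
  obtain ⟨L, hL, rfl⟩ := exists_mk c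
  rw [← isAlgEquivZero_iff_mem_az] at hc
  obtain ⟨T, q, hT, hq1, hq2, M, hM, t, t₀, ht, ht₀, ⟨e1⟩, ⟨e2⟩⟩ := hc
  let Z : Over (Spec (CommRingCat.of K)) := Over.mk q
  let m : Pic (PicF.XT A.hom Z) := mk M hM
  have hZ : ConnectedSpace Z.left := hT
  have hflat : Flat A.hom := by
    have : ∀ X : Scheme.{u}, ∀ g : X ⟶ Spec (CommRingCat.of K), Flat g := fun X g => by infer_instance
    exact this _ _
  have hlfp : LocallyOfFinitePresentation A.hom := by
    have : IsLocallyNoetherian (Spec (CommRingCat.of K)) := inferInstance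
    rw [LocallyOfFinitePresentation.iff_locallyOfFiniteType]
    infer_instance
  -- the slices
  have hsl : ∀ (t : Spec (CommRingCat.of K) ⟶ T) (ht : t ≫ q = 𝟙 _) {W : Over (Spec (CommRingCat.of K))}
      (a : W ⟶ A) (z : W ⟶ Z), z.left = W.hom ≫ t →
      ev a z m = pull a.left (pull (@Pic13.sliceAt K _ A.left ⟨A.hom⟩ T q t ht) m) := by
    intro t ht W a z hz
    rw [ev_def]
    refine Eq.trans ?_ (pull_comp _ _ _)
    have h5 : (lift a z).left = a.left ≫ @Pic13.sliceAt K _ A.left ⟨A.hom⟩ T q t ht := by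
      apply pullback.hom_ext
      · refine (congrArg CommaMorphism.left (lift_fst a z)).trans ?_
        refine Eq.trans ?_ (Category.assoc _ _ _).symm
        refine (Category.comp_id _).symm.trans (congrArg (a.left ≫ ·) ?_)
        exact (pullback.lift_fst _ _ _).symm
      · refine (congrArg CommaMorphism.left (lift_snd a z)).trans ?_
        refine Eq.trans ?_ (Category.assoc _ _ _).symm
        refine (hz.trans ?_).trans (congrArg (a.left ≫ ·) (pullback.lift_snd _ _ _).symm)
        have h6 : a.left ≫ A.hom = W.hom := Over.w a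
        exact (congrArg (· ≫ t) h6.symm).trans (Category.assoc _ _ _)
    exact congrArg (fun r => pull r m) h5
  have ht1 : pull (@Pic13.sliceAt K _ A.left ⟨A.hom⟩ T q t ht) m = mk L hL := by
    exact (pull_mk _ hM).trans ((mk_eq_iff _ _).mpr ⟨e1⟩)
  have ht2 : pull (@Pic13.sliceAt K _ A.left ⟨A.hom⟩ T q t₀ ht₀) m = 1 := by
    exact (pull_mk _ hM).trans ((mk_eq_one_iff _).mpr ⟨e2⟩)
  let u : (A ⊗ A) ⊗ Z ⟶ A := fst _ _ ≫ fst _ _
  let v : (A ⊗ A) ⊗ Z ⟶ A := fst _ _ ≫ snd _ _
  let w : (A ⊗ A) ⊗ Z ⟶ Z := snd _ _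
  let D : Pic ((A ⊗ A) ⊗ Z).left := (ev (u * v) w m * ev 1 w m) * (ev u w m * ev v w m)⁻¹
  have hD : ∀ {W : Over (Spec (CommRingCat.of K))} (a b : W ⟶ A) (y : W ⟶ Z), pull (lift (lift a b) y).left D =
      (ev (a * b) y m * ev 1 y m) * (ev a y m * ev b y m)⁻¹ := by
    intro W a b y
    have e1 : lift (lift a b) y ≫ u = a := by simp [u]
    have e2 : lift (lift a b) y ≫ v = b := by simp [v]
    have e3 : lift (lift a b) y ≫ w = y := by simp [w]
    simp only [D, map_mul, map_inv, pull_ev, MonObj.comp_mul, MonObj.comp_one, e1, e2, e3]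
  have key : D = 1 := by
    refine K732.Cube.cube_conn A A Z D (fun W b y ↦ ?_) (fun W a y ↦ ?_) (t₀ (IsLocalRing.closedPoint K))
      (fun W a b y q' hq' ↦ ?_)
    · rw [hD, _root_.one_mul, mul_comm (ev b y m), mul_inv_cancel]
    · rw [hD, _root_.mul_one, mul_inv_cancel]
    · have hy : y.left = W.hom ≫ t₀ := by
        have h7 := K732.Cube.fromSpecResidueField_section q t₀ ht₀ (IsLocalRing.closedPoint K)
        have h8 : y.left = (y.left ≫ q) ≫ t₀ := by
          conv_rhs => rw [hq']
          rw [hq']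
          simp only [Category.assoc]
          exact congrArg (q' ≫ ·) h7
        have h9 : y.left ≫ q = W.hom := Over.w y
        rw [h8, h9]
      rw [hD, hsl t₀ ht₀ _ y hy, hsl t₀ ht₀ _ y hy, hsl t₀ ht₀ _ y hy, hsl t₀ ht₀ _ y hy, ht2]
      simp
  have h := hD a b (Over.homMk (W.hom ≫ t) (by
    change (W.hom ≫ t) ≫ q = W.hom
    rw [Category.assoc, ht, Category.comp_id]))
  rw [key, map_one, hsl t ht _ _ rfl, hsl t ht _ _ rfl, hsl t ht _ _ rfl, hsl t ht _ _ rfl, ht1, pull_one,
    _root_.mul_one] at h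
  exact mul_inv_eq_one.1 h.symm

end K814.PrimField
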