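import Groth.Agent.AgPol.K814.RankPush
import Groth.Agent.Curves.K330.PushVan
import Groth.Agent.EGA2.K30.CounitEpi
import Groth.Agent.EGA2.K30.CounitGG
import Groth.Agent.EGA2.K34.AmpleCrit
import Groth.Agent.Desc.K390.PnDesc
import Groth.Agent.Divis.NormAmple
import Groth.Agent.S18911

/-!
# Relative generation and relative very ampleness from the geometric fibres

From the two statements over algebraically closed fields (`GGStmt`: `M ^ n` is globally generated for `n ≥ 2`,
`VAnStmt`: `M ^ n` is very ample for `n ≥ 3`) the relative statement `main` on abelian schemes over a locally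
Noetherian base.
-/

set_option autoImplicit false
universe u

open CategoryTheory CategoryTheory.Limits MonoidalCategory CartesianMonoidalCategory AlgebraicGeometry
open scoped MonObj
open Groth.Agent Groth.Agent.Grpsch.PicGrp K814.GamBase K814.GamFib K814.GamField K814.RankPush
open Groth.Agent.Ega2.Nv
open Groth.Agent.Fdesc.LocGen (isInvertible_tensorPow isInvertible_pullback)

namespace K814.RelGG

/-- Powers `n ≥ 2` of ample modules are globally generated. -/
def GGStmt : Prop :=
  ∀ (k : Type u) [Field k] [IsAlgClosed k] (B : Over (Spec (CommRingCat.of k))) [GrpObj B] [IsProper B.hom]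
    [GeometricallyIntegral B.hom] (M L : B.left.Modules), CohB1.IsAmple M → ∀ n : ℕ, 2 ≤ n →
      Nonempty (L ≅ CohB1.tensorPow M n) → Curv2.IsGloballyGenerated L

/-- Powers `n ≥ 3` of ample modules are very ample. -/
def VAnStmt : Prop :=
  ∀ (k : Type u) [Field k] [IsAlgClosed k] (B : Over (Spec (CommRingCat.of k))) [GrpObj B] [IsProper B.hom]
    [GeometricallyIntegral B.hom] (M L : B.left.Modules), CohB1.IsAmple M → ∀ n : ℕ, 3 ≤ n →
      Nonempty (L ≅ CohB1.tensorPow M n) → RelAmple.IsRelVeryAmplePn B.hom L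

theorem FA_pow {X S : Scheme.{u}} {f : X ⟶ S} {ℓ : Pic X} (h : FA f ℓ) {n : ℕ} (hn : 0 < n) : FA f (ℓ ^ n) := by
  intro Ω _ _ τ X' a p H
  obtain ⟨M, hM, e⟩ := h Ω τ X' a p H
  refine ⟨CohB1.tensorPow M n, Groth.Agent.Divis.NormAmple.isAmple_tensorPow hM hn, ?_⟩
  rw [map_pow, ← e]
  exact mk_tensorPow hM.1 n

/-- A globally generated module over an affine base has a generating section at each point. -/
theorem exists_nv_of_gg {X Y : Scheme.{u}} (f : X ⟶ Y) [IsAffine Y] [QuasiCompact f] [QuasiSeparated f]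
    {L : X.Modules} (hL : PicF.IsInvertible L) (hgg : Curv2.IsGloballyGenerated L) (x : X) :
    ∃ s : Γ(L, ⊤), x ∈ nv L s := by
  have h1 := K30.CounitGG.epi_counit_of_globGen f hgg
  obtain ⟨U, e, hxU, -, he⟩ := K330.PushVan.locGen L hL ⊤ x trivial
  exact K30.CounitEpi.exists_mem_nv f (Groth.Agent.Ega2.QCohLocal.isQCoh_of_isInvertible hL) h1
    (isAffineOpen_top Y) he hxU trivial

variable {S : Scheme.{u}} {A : Over S} [GrpObj A] [IsProper A.hom] [Smooth A.hom] [GeometricallyIntegral A.hom]
  {L : A.left.Modules} (hL : PicF.IsInvertible L) (hFA : FA A.hom (mk L hL))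

omit [GrpObj A] [IsProper A.hom] [Smooth A.hom] [GeometricallyIntegral A.hom] in
/-- Geometric fibres carry an ample class. -/
theorem exists_ample {Ω : Type u} [Field Ω] [IsAlgClosed Ω] (hFA : FA A.hom (mk L hL))
    (τ : Spec (CommRingCat.of Ω) ⟶ S) (n : ℕ) {L' : (Red.bc τ A).left.Modules}
    (e : L' ≅ (Scheme.Modules.pullback (pullback.fst A.hom τ)).obj (CohB1.tensorPow L n)) :
    ∃ M : (Red.bc τ A).left.Modules, CohB1.IsAmple M ∧ Nonempty (L' ≅ CohB1.tensorPow M n) := by
  obtain ⟨M, hM, h⟩ := hFA Ω τ _ _ _ (IsPullback.of_hasPullback A.hom τ)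
  refine ⟨M, hM, ⟨e ≪≫ Nonempty.some ?_⟩⟩
  rw [← mk_eq_iff (isInvertible_pullback _ (isInvertible_tensorPow hL n)) (isInvertible_tensorPow hM.1 n),
    ← pull_mk _ (isInvertible_tensorPow hL n), mk_tensorPow hL n, map_pow, mk_tensorPow hM.1 n]
  exact congrArg (· ^ n) h.symm

theorem epi_counit [IsLocallyNoetherian S] (hG : GGStmt.{u}) (hFA : FA A.hom (mk L hL)) {n : ℕ} (hn : 2 ≤ n) :
    Epi ((Scheme.Modules.pullbackPushforwardAdjunction A.hom).counit.app (CohB1.tensorPow L n)) := by
  have hLn := isInvertible_tensorPow hL n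
  refine K34.AmpleCrit.epi_counit_of_nv A.hom _ fun x => ?_
  obtain ⟨Ω, _, _, τ, hτ⟩ := exists_geom (A.hom x)
  let B := Red.bc τ A
  have i1 : IsProper B.hom := inferInstanceAs (IsProper (pullback.snd A.hom τ))
  have i2 : GeometricallyIntegral B.hom := inferInstanceAs (GeometricallyIntegral (pullback.snd A.hom τ))
  have sq := IsPullback.of_hasPullback A.hom τ
  obtain ⟨x', hx', -⟩ := Scheme.exists_preimage_of_isPullback sq x (IsLocalRing.closedPoint Ω) hτ.symm
  have hgg : Curv2.IsGloballyGenerated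
      ((Scheme.Modules.pullback (pullback.fst A.hom τ)).obj (CohB1.tensorPow L n)) := by
    obtain ⟨M, hM, he⟩ := exists_ample hL hFA τ n (Iso.refl _)
    exact hG Ω B M _ hM n hn he
  obtain ⟨s', hs'⟩ := exists_nv_of_gg (pullback.snd A.hom τ)
    (isInvertible_pullback (pullback.fst A.hom τ) hLn) hgg x'
  have h1 : Subsingleton (CohIII.fiberH A.hom (CohB1.tensorPow L n) (τ (IsLocalRing.closedPoint Ω)) 1) := by
    rw [subsingleton_fiberH_iff A.hom hLn]
    refine fiberRank_eq_zero hLn ?_ _ 1 one_pos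
    rw [mk_tensorPow hL n]
    exact FA_pow hFA (by omega)
  obtain ⟨V, s, hs⟩ := K330.PushVan.exists_nv_of_field A.hom hLn τ _ _ sq h1 s' hs'
  exact ⟨V, s, hx' ▸ hs⟩

theorem isRelVeryAmplePn_fiber (hV : VAnStmt.{u}) (hFA : FA A.hom (mk L hL)) {n : ℕ} (hn : 3 ≤ n) (s : S) :
    RelAmple.IsRelVeryAmplePn (A.hom.fiberToSpecResidueField s)
      ((Scheme.Modules.pullback (A.hom.fiberι s)).obj (CohB1.tensorPow L n)) := by
  have hLn := isInvertible_tensorPow hL n
  let Ω := AlgebraicClosure (S.residueField s)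
  let g : Spec (CommRingCat.of Ω) ⟶ Spec (S.residueField s) :=
    Spec.map (CommRingCat.ofHom (algebraMap (S.residueField s) Ω))
  let τ : Spec (CommRingCat.of Ω) ⟶ S := g ≫ S.fromSpecResidueField s
  let B := Red.bc τ A
  have i1 : IsProper B.hom := inferInstanceAs (IsProper (pullback.snd A.hom τ))
  have i2 : GeometricallyIntegral B.hom := inferInstanceAs (GeometricallyIntegral (pullback.snd A.hom τ))
  have sq := IsPullback.of_hasPullback A.hom τ
  have sq2 : IsPullback (A.hom.fiberι s) (A.hom.fiberToSpecResidueField s) A.hom (S.fromSpecResidueField s) :=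
    IsPullback.of_hasPullback _ _
  let a : B.left ⟶ A.hom.fiber s := sq2.lift (pullback.fst A.hom τ) (pullback.snd A.hom τ ≫ g) (by
    rw [Category.assoc]; exact sq.w)
  have ha : a ≫ A.hom.fiberι s = pullback.fst A.hom τ := sq2.lift_fst _ _ _
  have ha2 : a ≫ A.hom.fiberToSpecResidueField s = pullback.snd A.hom τ ≫ g := sq2.lift_snd _ _ _
  have sq3 : IsPullback a (pullback.snd A.hom τ) (A.hom.fiberToSpecResidueField s) g := by
    refine IsPullback.of_right ?_ ha2 sq2
    rw [ha]
    exact sq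
  have : IsAlgClosed Ω := inferInstanceAs (IsAlgClosed (AlgebraicClosure (S.residueField s)))
  let e : (Scheme.Modules.pullback a).obj ((Scheme.Modules.pullback (A.hom.fiberι s)).obj (CohB1.tensorPow L n)) ≅
      (Scheme.Modules.pullback (pullback.fst A.hom τ)).obj (CohB1.tensorPow L n) :=
    (Scheme.Modules.pullbackComp a (A.hom.fiberι s)).app _ ≪≫
      (Scheme.Modules.pullbackCongr ha).app _
  obtain ⟨M, hM, he⟩ := exists_ample hL hFA τ n e
  have hva : RelAmple.IsRelVeryAmplePn (pullback.snd A.hom τ)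
      ((Scheme.Modules.pullback a).obj ((Scheme.Modules.pullback (A.hom.fiberι s)).obj (CohB1.tensorPow L n))) :=
    hV Ω B M _ hM n hn he
  have hfl : Flat g := inferInstance
  have i3 : IsProper (A.hom.fiberToSpecResidueField s) :=
    inferInstanceAs (IsProper (pullback.snd A.hom (S.fromSpecResidueField s)))
  have i4 : CompactSpace (A.hom.fiber s) :=
    QuasiCompact.compactSpace_of_compactSpace (A.hom.fiberToSpecResidueField s)
  have i5 : QuasiSeparatedSpace (A.hom.fiber s) :=
    quasiSeparatedSpace_of_quasiSeparated (A.hom.fiberToSpecResidueField s)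
  exact K390.PnDesc.isRelVeryAmplePn_of_finite_flat_family
    (A.hom.fiberToSpecResidueField s) (fun _ : PUnit.{u + 1} => Spec (CommRingCat.of Ω)) (fun _ => g)
    (fun y => ⟨PUnit.unit, g.surjective y⟩) (fun _ => sq3) (isInvertible_pullback _ hLn) fun _ => hva

theorem main [IsLocallyNoetherian S] (hG : GGStmt.{u}) (hV : VAnStmt.{u}) (hFA : FA A.hom (mk L hL)) {n : ℕ}
    (hn : 2 ≤ n) :
    Epi ((Scheme.Modules.pullbackPushforwardAdjunction A.hom).counit.app (CohB1.tensorPow L n)) ∧
      (3 ≤ n → RelProj.IsRelVeryAmple A.hom (CohB1.tensorPow L n)) := by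
  have hLn := isInvertible_tensorPow hL n
  refine ⟨epi_counit hL hG hFA hn, fun hn' => ?_⟩
  refine Groth.Agent.S18911.result A.hom _ hLn (isRelVeryAmplePn_fiber hL hV hFA hn') fun s => ?_
  have h1 : Subsingleton (CohIII.fiberH A.hom (CohB1.tensorPow L n) s 1) := by
    rw [subsingleton_fiberH_iff A.hom hLn]
    refine fiberRank_eq_zero hLn ?_ _ 1 one_pos
    rw [mk_tensorPow hL n]
    exact FA_pow hFA (by omega)
  exact h1

end K814.RelGG
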