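import Groth.Prelude.Def_Red
import Groth.Agent.AgPol.K814.ClosedCond

/-!
# The locus where a finite locally free closed subscheme of a group scheme is a subgroup scheme is closed
-/

set_option autoImplicit false
universe u

open CategoryTheory CategoryTheory.Limits MonoidalCategory CartesianMonoidalCategory AlgebraicGeometry
open scoped MonObj

namespace K814.SubgroupLocus

open K814.ClosedCond

variable {S : Scheme.{u}} (E : Over S) [GrpObj E] {D : Scheme.{u}} (d : D ⟶ E.left)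

/-- `D` as an `S`-scheme. -/
abbrev D' : Over S := Over.mk (d ≫ E.hom)

/-- the inclusion -/
abbrev dd : D' E d ⟶ E := Over.homMk d

/-- `(x, y) ↦ x y⁻¹` on `D ×_S D`. -/
noncomputable def divMap : D' E d ⊗ D' E d ⟶ E :=
  (fst _ _ ≫ dd E d) * (snd _ _ ≫ dd E d)⁻¹

/-- The points of `E` with values in `U` that factor through `D`. -/
def pts (U : Over S) : Set (U ⟶ E) := {x | ∃ t : U.left ⟶ D, t ≫ d = x.left}

omit [GrpObj E] in
theorem comp_mem_pts {U U' : Over S} (f : U' ⟶ U) {x : U ⟶ E} (hx : x ∈ pts E d U) : f ≫ x ∈ pts E d U' := by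
  obtain ⟨t, ht⟩ := hx
  exact ⟨f.left ≫ t, by rw [Category.assoc, ht, Over.comp_left]⟩

omit [GrpObj E] in
theorem exists_lift_of_mem {U : Over S} {x : U ⟶ E} (hx : x ∈ pts E d U) : ∃ t : U ⟶ D' E d, t ≫ dd E d = x := by
  obtain ⟨t, ht⟩ := hx
  refine ⟨Over.homMk t ?_, ?_⟩
  · change t ≫ d ≫ E.hom = _
    rw [reassoc_of% ht, Over.w]
  · ext1
    exact ht

theorem mul_inv_mem_iff (T : Scheme.{u}) (g : T ⟶ S) :
    (∀ (T' : Scheme.{u}) (a : T' ⟶ T), ∃ H : Subgroup (Over.mk (a ≫ g) ⟶ E),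
      (H : Set (Over.mk (a ≫ g) ⟶ E)) = pts E d (Over.mk (a ≫ g))) ↔
    (∃ h : T ⟶ D, h ≫ d = g ≫ η[E].left) ∧
      ∃ h : pullback (D' E d ⊗ D' E d).hom g ⟶ D,
        h ≫ d = pullback.fst (D' E d ⊗ D' E d).hom g ≫ (divMap E d).left := by
  constructor
  · intro H
    constructor
    · obtain ⟨H1, hH1⟩ := H T (𝟙 T)
      have h1 : (1 : Over.mk (𝟙 T ≫ g) ⟶ E) ∈ pts E d _ := hH1 ▸ H1.one_mem
      obtain ⟨t, ht⟩ := h1
      refine ⟨t, ht.trans ?_⟩
      change (𝟙 T ≫ g) ≫ η[E].left = _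
      rw [Category.id_comp]
    · obtain ⟨H1, hH1⟩ := H _ (pullback.snd (D' E d ⊗ D' E d).hom g)
      let p : Over.mk (pullback.snd (D' E d ⊗ D' E d).hom g ≫ g) ⟶ D' E d ⊗ D' E d :=
        Over.homMk (pullback.fst _ _) pullback.condition
      have h1 : p ≫ fst _ _ ≫ dd E d ∈ H1 := by
        rw [← SetLike.mem_coe, hH1]
        exact ⟨(p ≫ fst _ _).left, rfl⟩
      have h2 : p ≫ snd _ _ ≫ dd E d ∈ H1 := by
        rw [← SetLike.mem_coe, hH1]
        exact ⟨(p ≫ snd _ _).left, rfl⟩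
      have h3 : p ≫ divMap E d ∈ H1 := by
        rw [divMap, MonObj.comp_mul, GrpObj.comp_inv]
        exact H1.mul_mem h1 (H1.inv_mem h2)
      rw [← SetLike.mem_coe, hH1] at h3
      exact h3
  · rintro ⟨⟨h, hh⟩, k, hk⟩ T' a
    have h1 : (1 : Over.mk (a ≫ g) ⟶ E) ∈ pts E d (Over.mk (a ≫ g)) := by
      refine ⟨a ≫ h, ?_⟩
      change _ = (a ≫ g) ≫ η[E].left
      rw [Category.assoc, hh, Category.assoc]
    have h2 : ∀ x ∈ pts E d (Over.mk (a ≫ g)), ∀ y ∈ pts E d (Over.mk (a ≫ g)),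
        x * y⁻¹ ∈ pts E d (Over.mk (a ≫ g)) := by
      intro x hx y hy
      obtain ⟨s, rfl⟩ := exists_lift_of_mem E d hx
      obtain ⟨t, rfl⟩ := exists_lift_of_mem E d hy
      have h3 : (s ≫ dd E d) * (t ≫ dd E d)⁻¹ = lift s t ≫ divMap E d := by
        rw [divMap, MonObj.comp_mul, GrpObj.comp_inv, lift_fst_assoc, lift_snd_assoc]
      rw [h3]
      refine ⟨pullback.lift (lift s t).left a (Over.w (lift s t)) ≫ k, ?_⟩
      rw [Category.assoc, hk, pullback.lift_fst_assoc, Over.comp_left]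
    exact ⟨Subgroup.ofDiv _ ⟨1, h1⟩ h2, rfl⟩

theorem exists_closed [IsClosedImmersion d] [IsFinite (d ≫ E.hom)] [Flat (d ≫ E.hom)]
    [LocallyOfFinitePresentation (d ≫ E.hom)] :
    ∃ 𝓩 : S.IdealSheafData, ∀ (T : Scheme.{u}) (g : T ⟶ S),
      (∃ t : T ⟶ 𝓩.subscheme, t ≫ 𝓩.subschemeι = g) ↔
        ∀ (T' : Scheme.{u}) (a : T' ⟶ T), ∃ H : Subgroup (Over.mk (a ≫ g) ⟶ E),
          (H : Set (Over.mk (a ≫ g) ⟶ E)) = pts E d (Over.mk (a ≫ g)) := by
  have e1 : (D' E d ⊗ D' E d).hom = pullback.fst (d ≫ E.hom) (d ≫ E.hom) ≫ d ≫ E.hom := rfl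
  have hf : IsFinite (D' E d ⊗ D' E d).hom := by rw [e1]; infer_instance
  have hfl : Flat (D' E d ⊗ D' E d).hom := by rw [e1]; infer_instance
  have hfp : LocallyOfFinitePresentation (D' E d ⊗ D' E d).hom := by rw [e1]; infer_instance
  obtain ⟨Z, z, hz, H⟩ := K814.ClosedCond.exists_closed (D' E d ⊗ D' E d).hom (divMap E d).left d
  let q : pullback z (pullback.fst η[E].left d) ⟶ S := pullback.fst z (pullback.fst η[E].left d) ≫ z
  have hq : IsClosedImmersion q := inferInstanceAs (IsClosedImmersion (_ ≫ _))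
  refine ⟨q.ker, fun T g => (factors_ker_iff q g).trans (Iff.trans ?_ (mul_inv_mem_iff E d T g).symm)⟩
  rw [← H T g]
  constructor
  · rintro ⟨t, rfl⟩
    refine ⟨⟨t ≫ pullback.snd _ _ ≫ pullback.snd _ _, ?_⟩, t ≫ pullback.fst _ _, by simp [q]⟩
    have c1 : pullback.snd η[E].left d ≫ d = pullback.fst η[E].left d ≫ η[E].left := pullback.condition.symm
    have c2 : pullback.snd z (pullback.fst η[E].left d) ≫ pullback.fst η[E].left d =
        pullback.fst z (pullback.fst η[E].left d) ≫ z := pullback.condition.symm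
    rw [Category.assoc, Category.assoc, c1, reassoc_of% c2]
    simp only [q, Category.assoc]
  · rintro ⟨⟨h, hh⟩, t, ht⟩
    refine ⟨pullback.lift t (pullback.lift g h hh.symm) ?_, ?_⟩
    · rw [pullback.lift_fst]; exact ht
    · change _ ≫ pullback.fst _ _ ≫ z = g
      rw [pullback.lift_fst_assoc, ht]

end K814.SubgroupLocus
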